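import Cfsg.Agent.Lib.Char.RelMcKay.Tools

/-!
# The correspondence between invariant characters of `K` and of the fixed subgroup modulo `L`
-/

set_option autoImplicit false
set_option linter.style.haveILetI false
set_option linter.unusedSectionVars false

namespace CfsgLib.Char.RelMcKay

open Cfsg CfsgLib.Char
open CfsgLib.Char.Glauberman (Inv res conjEquiv inv_sup inv_mono isCharacter_res not_dvd_of_sign)
open CfsgLib.Char.RelGlauberman (conjChar relFix relFix_conj_mem dvd_sum_not_inv)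
open scoped ComplexConjugate CfsgLib.Char

attribute [local instance 10000] Fintype.ofFinite
attribute [local instance 100000] CfsgLib.Char.instFintypeIrrCharacter

variable {Γ : Type*} [Group Γ] [Finite Γ]

theorem inv_iff_le_stab {H T : Subgroup Γ} (hT : T ≤ Subgroup.normalizer (H : Set Γ)) {θ : H → ℂ} :
    Inv H T θ ↔ T ≤ stab (le_refl (Subgroup.normalizer (H : Set Γ))) θ :=
  ⟨fun h g hg => ⟨hT hg, h g hg⟩, fun h g hg => (h hg).2⟩

theorem inv_sup_iff {H A B : Subgroup Γ} (hA : A ≤ Subgroup.normalizer (H : Set Γ))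
    (hB : B ≤ Subgroup.normalizer (H : Set Γ)) {θ : H → ℂ} :
    Inv H (A ⊔ B) θ ↔ Inv H A θ ∧ Inv H B θ := by
  rw [inv_iff_le_stab (sup_le hA hB), inv_iff_le_stab hA, inv_iff_le_stab hB, sup_le_iff]

theorem inv_self {H T : Subgroup Γ} (hT : T ≤ H) {θ : H → ℂ} (hθ : IsClassFunction H θ) :
    Inv H T θ :=
  fun _ hg => fixes_of_mem hθ (hT hg)

theorem inv_sup_of_le {H L S : Subgroup Γ} (hL : L ≤ H) (hS : S ≤ Subgroup.normalizer (H : Set Γ))
    {θ : H → ℂ} (hθ : IsClassFunction H θ) : Inv H (L ⊔ S) θ ↔ Inv H S θ := by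
  rw [inv_sup_iff (hL.trans Subgroup.le_normalizer) hS]
  exact ⟨fun h => h.2, fun h => ⟨inv_self hL hθ, h⟩⟩

theorem inv_conjChar {H T : Subgroup Γ} {θ : IrrCharacter H} (h : Inv H T (θ : H → ℂ)) {y : Γ}
    (hy : y ∈ Subgroup.normalizer (H : Set Γ)) (hyT : y ∈ Subgroup.normalizer (T : Set Γ)) :
    Inv H T (conjChar θ hy : H → ℂ) := fun t ht a b e =>
  h (y * t * y⁻¹) ((Subgroup.mem_normalizer_iff.mp hyT t).mp ht) _ _ (by simp [e, mul_assoc])

theorem mem_relFix {K T Q : Subgroup Γ} (hKQ : K ≤ Subgroup.normalizer (Q : Set Γ)) {k : Γ} :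
    k ∈ relFix K T Q hKQ ↔ k ∈ K ∧ ∀ x ∈ T, x * k * x⁻¹ * k⁻¹ ∈ Q := Iff.rfl

theorem comm_mem_sup {A B Q : Subgroup Γ} {k : Γ} (hA : A ≤ Subgroup.normalizer (Q : Set Γ))
    (hB : B ≤ Subgroup.normalizer (Q : Set Γ)) (ha : ∀ x ∈ A, x * k * x⁻¹ * k⁻¹ ∈ Q)
    (hb : ∀ x ∈ B, x * k * x⁻¹ * k⁻¹ ∈ Q) : ∀ x ∈ A ⊔ B, x * k * x⁻¹ * k⁻¹ ∈ Q := by
  let R : Subgroup Γ :=
    { carrier := {x | x ∈ Subgroup.normalizer (Q : Set Γ) ∧ x * k * x⁻¹ * k⁻¹ ∈ Q}
      one_mem' := ⟨Subgroup.one_mem _, by simp⟩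
      mul_mem' := by
        rintro x y ⟨hx, hx'⟩ ⟨hy, hy'⟩
        refine ⟨mul_mem hx hy, ?_⟩
        rw [show x * y * k * (x * y)⁻¹ * k⁻¹ =
          (x * (y * k * y⁻¹ * k⁻¹) * x⁻¹) * (x * k * x⁻¹ * k⁻¹) by group]
        exact mul_mem ((Subgroup.mem_normalizer_iff.mp hx _).mp hy') hx'
      inv_mem' := by
        rintro x ⟨hx, hx'⟩
        refine ⟨inv_mem hx, ?_⟩
        rw [show x⁻¹ * k * x⁻¹⁻¹ * k⁻¹ = x⁻¹ * (x * k * x⁻¹ * k⁻¹)⁻¹ * x⁻¹⁻¹ by group]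
        exact (Subgroup.mem_normalizer_iff.mp (inv_mem hx) _).mp (inv_mem hx') }
  have hle : A ⊔ B ≤ R := sup_le (fun a h => ⟨hA h, ha a h⟩) (fun b h => ⟨hB h, hb b h⟩)
  exact fun x hx => (hle hx).2

theorem relFix_sup_left {K L S : Subgroup Γ} (hKL : K ≤ Subgroup.normalizer (L : Set Γ))
    (hS : S ≤ Subgroup.normalizer (L : Set Γ)) : relFix K (L ⊔ S) L hKL = relFix K S L hKL := by
  ext k
  simp only [mem_relFix]
  refine ⟨fun h => ⟨h.1, fun x hx => h.2 x (Subgroup.mem_sup_right hx)⟩, fun h => ⟨h.1,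
    comm_mem_sup Subgroup.le_normalizer hS (fun l hl => ?_) h.2⟩⟩
  rw [show l * k * l⁻¹ * k⁻¹ = l * (k * l⁻¹ * k⁻¹) by group]
  exact mul_mem hl ((Subgroup.mem_normalizer_iff.mp (hKL h.1) _).mp (inv_mem hl))

/-- The standing hypotheses: `P = LS` acts on `K` with `[K : L]` prime to `p`. -/
structure Data (p : ℕ) (K L P S : Subgroup Γ) : Prop where
  prime : p.Prime
  hLK : L ≤ K
  hKL : K ≤ Subgroup.normalizer (L : Set Γ)
  hPK : P ≤ Subgroup.normalizer (K : Set Γ)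
  hPL : P ≤ Subgroup.normalizer (L : Set Γ)
  hidx : ¬ p ∣ L.relIndex K
  hS : IsPGroup p S
  hP : P = L ⊔ S

/-- `φ` is the correspondent of `θ`. -/
def Corr (p : ℕ) {K C : Subgroup Γ} (P : Subgroup Γ) (θ : IrrCharacter K) (φ : IrrCharacter C) :
    Prop :=
  ∃ h : C ≤ K, Inv C P (φ : C → ℂ) ∧
    ∃ m : ℕ, classInner (res h (θ : K → ℂ)) (φ : C → ℂ) = m ∧ ¬ p ∣ m

theorem Corr.le {p : ℕ} {K C P : Subgroup Γ} {θ : IrrCharacter K} {φ : IrrCharacter C}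
    (h : Corr p P θ φ) : C ≤ K := h.1

theorem Corr.inv {p : ℕ} {K C P : Subgroup Γ} {θ : IrrCharacter K} {φ : IrrCharacter C}
    (h : Corr p P θ φ) : Inv C P (φ : C → ℂ) := h.2.1

theorem Corr.over {p : ℕ} {K C P : Subgroup Γ} {θ : IrrCharacter K} {φ : IrrCharacter C}
    (h : Corr p P θ φ) (hCK : C ≤ K) : Over hCK (θ : K → ℂ) (φ : C → ℂ) := by
  obtain ⟨_, _, m, hm, hnd⟩ := h
  unfold Over
  rw [hm, Nat.cast_ne_zero]
  exact fun e => hnd (e ▸ dvd_zero p)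

theorem Corr.conj {p : ℕ} {K C P : Subgroup Γ} {θ : IrrCharacter K} {φ : IrrCharacter C}
    (h : Corr p P θ φ) {y : Γ} (hyK : y ∈ Subgroup.normalizer (K : Set Γ))
    (hyC : y ∈ Subgroup.normalizer (C : Set Γ)) (hyP : y ∈ Subgroup.normalizer (P : Set Γ)) :
    Corr p P (conjChar θ hyK) (conjChar φ hyC) := by
  obtain ⟨hCK, hinv, m, hm, hnd⟩ := h
  refine ⟨hCK, inv_conjChar hinv hyC hyP, m, ?_, hnd⟩
  rw [← hm]
  exact RelGlauberman.classInner_conjChar hCK hyK hyC φ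

namespace Data

variable {p : ℕ} {K L P S : Subgroup Γ} (D : Data p K L P S)
include D

theorem S_le : S ≤ P := D.hP ▸ le_sup_right

theorem L_le : L ≤ P := D.hP ▸ le_sup_left

/-- The subgroup of `K` fixed by `P` modulo `L`. -/
abbrev C : Subgroup Γ := relFix K P L D.hKL

theorem C_le : D.C ≤ K := fun _ h => h.1

theorem L_le_C : L ≤ D.C := fun l hl => ⟨D.hLK hl, fun x hx =>
  mul_mem ((Subgroup.mem_normalizer_iff.mp (D.hPL hx) l).mp hl) (inv_mem hl)⟩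

theorem C_eq : D.C = relFix K S L D.hKL := by
  have h : relFix K P L D.hKL = relFix K (L ⊔ S) L D.hKL :=
    congrArg (fun X => relFix K X L D.hKL) D.hP
  rw [Data.C, h, relFix_sup_left D.hKL (D.S_le.trans D.hPL)]

theorem normalizes {y : Γ} (hyK : y ∈ Subgroup.normalizer (K : Set Γ))
    (hyL : y ∈ Subgroup.normalizer (L : Set Γ)) (hyP : y ∈ Subgroup.normalizer (P : Set Γ)) :
    y ∈ Subgroup.normalizer (D.C : Set Γ) :=
  relFix_conj_mem D.hKL hyK hyP hyL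

theorem P_normC : P ≤ Subgroup.normalizer (D.C : Set Γ) :=
  fun _ hy => D.normalizes (D.hPK hy) (D.hPL hy) (Subgroup.le_normalizer hy)

theorem inv_iff_K (θ : IrrCharacter K) : Inv K P (θ : K → ℂ) ↔ Inv K S (θ : K → ℂ) := by
  rw [D.hP]
  exact inv_sup_of_le D.hLK (D.S_le.trans D.hPK)
    (isClassFunction_of_isCharacter (isCharacter_of_isIrr θ.2))

theorem inv_iff_C (φ : IrrCharacter D.C) : Inv D.C P (φ : D.C → ℂ) ↔ Inv D.C S (φ : D.C → ℂ) := by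
  conv_lhs => arg 2; rw [D.hP]
  exact inv_sup_of_le D.L_le_C (D.S_le.trans D.P_normC)
    (isClassFunction_of_isCharacter (isCharacter_of_isIrr φ.2))

theorem package : RelGlauberman.HasRelCorr p K S D.C D.C_le :=
  @RelGlauberman.hasRelCorr_of_isPGroup Γ _ (Fintype.ofFinite Γ) p D.prime K L (Fintype.ofFinite K)
    D.hLK D.hKL D.hidx (Nat.card S) S rfl (D.S_le.trans D.hPK) (D.S_le.trans D.hPL) D.hS D.C _
    D.C_le D.C_eq

theorem exists_map : ∃ F : {θ : IrrCharacter K // Inv K S (θ : K → ℂ)} →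
    {φ : IrrCharacter D.C // Inv D.C S (φ : D.C → ℂ)}, Function.Bijective F ∧
      ∀ θ φ, Corr p P θ.1 φ ↔ φ = (F θ).1 := by
  obtain ⟨F, hF, hI⟩ := D.package
  refine ⟨F, hF, fun θ φ => ⟨fun h => ?_, fun h => ?_⟩⟩
  · obtain ⟨_, hinv, m, hm, hnd⟩ := h
    by_contra hne
    exact hnd ((hI θ φ ((D.inv_iff_C φ).mp hinv) m hm).1 hne)
  · obtain ⟨m, hm, hnd⟩ := (hI θ).multiplicity D.prime (isCharacter_of_isIrr θ.1.2) (F θ).2
    subst h
    exact ⟨D.C_le, (D.inv_iff_C _).mpr (F θ).2, m, hm, hnd⟩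

theorem exists_corr {θ : IrrCharacter K} (hθ : Inv K P (θ : K → ℂ)) :
    ∃ φ : IrrCharacter D.C, Corr p P θ φ := by
  obtain ⟨F, -, hI⟩ := D.exists_map
  exact ⟨_, (hI ⟨θ, (D.inv_iff_K θ).mp hθ⟩ _).mpr rfl⟩

theorem corr_unique {θ : IrrCharacter K} (hθ : Inv K P (θ : K → ℂ)) {φ φ' : IrrCharacter D.C}
    (h : Corr p P θ φ) (h' : Corr p P θ φ') : φ = φ' := by
  obtain ⟨F, -, hI⟩ := D.exists_map
  rw [(hI ⟨θ, (D.inv_iff_K θ).mp hθ⟩ φ).mp h, (hI ⟨θ, (D.inv_iff_K θ).mp hθ⟩ φ').mp h']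

theorem corr_surjective {φ : IrrCharacter D.C} (hφ : Inv D.C P (φ : D.C → ℂ)) :
    ∃ θ : IrrCharacter K, Inv K P (θ : K → ℂ) ∧ Corr p P θ φ := by
  obtain ⟨F, hF, hI⟩ := D.exists_map
  obtain ⟨θ, hθ⟩ := hF.2 ⟨φ, (D.inv_iff_C φ).mp hφ⟩
  exact ⟨θ.1, (D.inv_iff_K θ.1).mpr θ.2, (hI θ φ).mpr (congrArg Subtype.val hθ).symm⟩

theorem corr_injective {θ θ' : IrrCharacter K} (hθ : Inv K P (θ : K → ℂ))
    (hθ' : Inv K P (θ' : K → ℂ)) {φ : IrrCharacter D.C}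
    (h : Corr p P θ φ) (h' : Corr p P θ' φ) : θ = θ' := by
  obtain ⟨F, hF, hI⟩ := D.exists_map
  exact congrArg Subtype.val (hF.1 (Subtype.ext
    (((hI ⟨θ, (D.inv_iff_K θ).mp hθ⟩ φ).mp h).symm.trans
      ((hI ⟨θ', (D.inv_iff_K θ').mp hθ'⟩ φ).mp h'))))

theorem fixes_iff {θ : IrrCharacter K} (hθ : Inv K P (θ : K → ℂ)) {φ : IrrCharacter D.C}
    (h : Corr p P θ φ) {y : Γ} (hyK : y ∈ Subgroup.normalizer (K : Set Γ))
    (hyC : y ∈ Subgroup.normalizer (D.C : Set Γ)) (hyP : y ∈ Subgroup.normalizer (P : Set Γ)) :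
    Fixes (θ : K → ℂ) y ↔ Fixes (φ : D.C → ℂ) y := by
  rw [fixes_iff_conjChar hyK, fixes_iff_conjChar hyC]
  have hc := h.conj hyK hyC hyP
  have hi := inv_conjChar hθ hyK hyP
  constructor
  · intro e
    rw [e] at hc
    exact D.corr_unique hθ hc h
  · intro e
    rw [e] at hc
    exact D.corr_injective hi hθ hc h

end Data

/-- Multiplicities through an intermediate subgroup modulo `p`. -/
theorem mult_comp {p : ℕ} (hp : p.Prime) {K D C T : Subgroup Γ} (hCD : C ≤ D) (hDK : D ≤ K)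
    (hT : IsPGroup p T) (hTK : T ≤ Subgroup.normalizer (K : Set Γ))
    (hTD : T ≤ Subgroup.normalizer (D : Set Γ)) (hTC : T ≤ Subgroup.normalizer (C : Set Γ))
    {χ : K → ℂ} (hχ : IsCharacter K χ) (hχi : Inv K T χ) {γ : C → ℂ} (hγ : IsIrrCharacter C γ)
    (hγi : Inv C T γ) {m : ℕ} (hm : classInner (res (hCD.trans hDK) χ) γ = m) (hnd : ¬ p ∣ m) :
    ∃ ξ : IrrCharacter D, Inv D T (ξ : D → ℂ) ∧
      (∃ a : ℕ, classInner (res hDK χ) (ξ : D → ℂ) = a ∧ ¬ p ∣ a) ∧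
      ∃ b : ℕ, classInner (res hCD (ξ : D → ℂ)) γ = b ∧ ¬ p ∣ b := by
  classical
  choose a ha using fun ξ : IrrCharacter D =>
    exists_nat_classInner (isCharacter_res hDK hχ) (isCharacter_of_isIrr ξ.2)
  choose b hb using fun ξ : IrrCharacter D =>
    exists_nat_classInner (isCharacter_res hCD (isCharacter_of_isIrr ξ.2)) (isCharacter_of_isIrr hγ)
  have hsum : m = ∑ ξ, a ξ * b ξ := by
    have h := classInner_res_trans hCD hDK (isClassFunction_of_isCharacter hχ) γ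
    simp only [ha, hb, hm] at h
    exact_mod_cast h
  have hnot := dvd_sum_not_inv (Γ := Γ) hp hT hTD (fun ξ => a ξ * b ξ) fun y hy ξ => by
    congr 1
    · refine Nat.cast_injective (R := ℂ) ?_
      rw [← ha, ← ha]
      have h1 := RelGlauberman.classInner_conjChar hDK (χ := χ) (hTK hy) (hTD hy) ξ
      rwa [show (fun g => χ (conjEquiv (hTK hy) g)) = χ from funext fun g => hχi y hy _ _ rfl] at h1
    · refine Nat.cast_injective (R := ℂ) ?_
      rw [← hb, ← hb]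
      have h1 := RelGlauberman.classInner_conjChar hCD (χ := (ξ : D → ℂ)) (hTD hy) (hTC hy) ⟨γ, hγ⟩
      have h2 : conjChar (⟨γ, hγ⟩ : IrrCharacter C) (hTC hy) = ⟨γ, hγ⟩ :=
        RelGlauberman.conjChar_eq_self hγi _ hy
      rw [h2] at h1
      exact h1
  by_contra hne
  apply hnd
  rw [hsum, ← Finset.sum_filter_add_sum_filter_not Finset.univ
    (fun ξ : IrrCharacter D => Inv D T (ξ : D → ℂ))]
  refine dvd_add (Finset.dvd_sum fun ξ hξ => ?_) hnot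
  by_contra h
  exact hne ⟨ξ, (Finset.mem_filter.mp hξ).2, ⟨a ξ, ha ξ, fun e => h (e.mul_right _)⟩,
    b ξ, hb ξ, fun e => h (e.mul_left _)⟩

theorem Data.dvd_degree_iff {p : ℕ} {K L P S : Subgroup Γ} (D : Data p K L P S)
    {θ : IrrCharacter K} (hθ : Inv K P (θ : K → ℂ)) {φ : IrrCharacter D.C} (h : Corr p P θ φ) :
    p ∣ charDegree (θ : K → ℂ) ↔ p ∣ charDegree (φ : D.C → ℂ) := by
  classical
  obtain ⟨m, hm⟩ := exists_multiplicities (isCharacter_res D.C_le (isCharacter_of_isIrr θ.2))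
  have hmγ : ∀ γ : IrrCharacter D.C,
      classInner (res D.C_le (θ : K → ℂ)) (γ : D.C → ℂ) = m γ := fun γ => by
    rw [hm, classInner_sum_smul_irr]
  have hsum : charDegree (θ : K → ℂ) = ∑ γ, m γ * charDegree (γ : D.C → ℂ) := by
    have h1 := congrFun hm 1
    simp only [res_one, Finset.sum_apply, Pi.smul_apply, smul_eq_mul, irr_deg θ.2,
      fun ψ : IrrCharacter D.C => irr_deg ψ.2] at h1
    exact_mod_cast h1
  have hθS := (D.inv_iff_K θ).mp hθ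
  have hnot := dvd_sum_not_inv (Γ := Γ) D.prime D.hS (D.S_le.trans D.P_normC)
    (fun γ => m γ * charDegree (γ : D.C → ℂ)) fun y hy γ => by
    rw [charDegree_conjChar]
    congr 1
    refine Nat.cast_injective (R := ℂ) ?_
    rw [← hmγ, ← hmγ]
    have h1 := RelGlauberman.classInner_conjChar D.C_le (χ := (θ : K → ℂ))
      (D.hPK (D.S_le hy)) (D.P_normC (D.S_le hy)) γ
    rwa [show (fun g => (θ : K → ℂ) (conjEquiv (D.hPK (D.S_le hy)) g)) = θ from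
      funext fun g => hθS y hy _ _ rfl] at h1
  have hinv : ∀ γ : IrrCharacter D.C, Inv D.C S (γ : D.C → ℂ) → γ ≠ φ → p ∣ m γ :=
    fun γ hγ hne => by
    by_contra hd
    exact hne (D.corr_unique hθ ⟨D.C_le, (D.inv_iff_C γ).mpr hγ, m γ, hmγ γ, hd⟩ h)
  obtain ⟨_, hφi, n, hn, hnd⟩ := h
  have hnm : m φ = n := Nat.cast_injective (R := ℂ) ((hmγ φ).symm.trans hn)
  rw [hsum, ← Finset.sum_filter_add_sum_filter_not Finset.univ
    (fun γ : IrrCharacter D.C => Inv D.C S (γ : D.C → ℂ)), Nat.dvd_add_left hnot,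
    ← Finset.add_sum_erase _ _ (Finset.mem_filter.mpr ⟨Finset.mem_univ φ, (D.inv_iff_C φ).mp hφi⟩),
    Nat.dvd_add_left (Finset.dvd_sum fun γ hγ => by
      rw [Finset.mem_erase, Finset.mem_filter] at hγ
      exact (hinv γ hγ.2.2 hγ.1).mul_right _), hnm, D.prime.dvd_mul]
  exact ⟨fun h => h.resolve_left hnd, Or.inr⟩

end CfsgLib.Char.RelMcKay
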