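import Cfsg.Agent.Lib.Char.RelMcKay.Ext
import Cfsg.Agent.Lib.Char.Table

/-!
# The number of irreducible characters over an invariant character

For `θ` invariant in `T`, the characters over `θ` are counted by the commuting pairs of `T/Z`
whose first entry is good.
-/

set_option autoImplicit false
set_option linter.style.haveILetI false
set_option linter.unusedSectionVars false

namespace CfsgLib.Char.RelMcKay

open Cfsg CfsgLib.Char
open CfsgLib.Char.Glauberman (Inv res conjEquiv inv_sup inv_mono isCharacter_res)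
open CfsgLib.Char.RelGlauberman (conjChar)
open scoped ComplexConjugate CfsgLib.Char Pointwise

attribute [local instance 10000] Fintype.ofFinite
attribute [local instance 100000] CfsgLib.Char.instFintypeIrrCharacter

variable {Γ : Type*} [Group Γ] [Finite Γ]

theorem col_sum {G : Type*} [Group G] [Finite G] [DecidableEq G] (a b : G) :
    ∑ χ : IrrCharacter G, (χ : G → ℂ) a * conj ((χ : G → ℂ) b) =
      ∑ y : G, if y * a * y⁻¹ = b then (1 : ℂ) else 0 := by
  classical
  rw [column_orthogonality, Finset.sum_boole]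
  split_ifs with h
  · obtain ⟨c, hc⟩ := isConj_iff.mp h
    refine congrArg Nat.cast ?_
    rw [← Fintype.card_subtype, ← Nat.card_eq_fintype_card]
    refine (Nat.card_congr ?_).symm
    refine Equiv.subtypeEquiv (Equiv.mulRight c⁻¹) fun y => ?_
    rw [Equiv.coe_mulRight, Subgroup.mem_centralizer_singleton_iff, ← hc]
    constructor
    · intro hy
      calc y * c⁻¹ * (c * a * c⁻¹) = y * a * y⁻¹ * (y * c⁻¹) := by group
        _ = c * a * c⁻¹ * (y * c⁻¹) := by rw [hy]
    · intro hy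
      calc y * a * y⁻¹ = y * c⁻¹ * (c * a * c⁻¹) * (y * c⁻¹)⁻¹ := by group
        _ = c * a * c⁻¹ * (y * c⁻¹) * (y * c⁻¹)⁻¹ := by rw [hy]
        _ = c * a * c⁻¹ := by group
  · rw [Finset.filter_eq_empty_iff.mpr fun y _ e => h (isConj_iff.mpr ⟨y, e⟩), Finset.card_empty,
      Nat.cast_zero]

theorem card_preimage {G Q : Type*} [Group G] [Group Q] (f : G →* Q) (hf : Function.Surjective f)
    (P : Q → Prop) :
    Nat.card {g : G // P (f g)} = Nat.card f.ker * Nat.card {q : Q // P q} := by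
  rw [← Nat.card_prod]
  set s := Function.surjInv hf
  have hs : ∀ q, f (s q) = q := Function.surjInv_eq hf
  exact Nat.card_congr
    { toFun := fun g => (⟨g.1 * (s (f g.1))⁻¹,
          by rw [MonoidHom.mem_ker, map_mul, map_inv, hs, mul_inv_cancel]⟩, ⟨f g.1, g.2⟩)
      invFun := fun x => ⟨(x.1 : G) * s x.2.1,
        by rw [map_mul, x.1.2, one_mul, hs]; exact x.2.2⟩
      left_inv := fun g => Subtype.ext (inv_mul_cancel_right g.1 (s (f g.1)))
      right_inv := fun x => by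
        have e : f ((x.1 : G) * s x.2.1) = x.2.1 := by rw [map_mul, x.1.2, one_mul, hs]
        refine Prod.ext (Subtype.ext ?_) (Subtype.ext e)
        show (x.1 : G) * s x.2.1 * (s (f _))⁻¹ = x.1
        rw [e, mul_inv_cancel_right] }

section Coset

variable {Z T : Subgroup Γ}

/-- On a coset an irreducible character over an invariant `θ` is a multiple of an extension. -/
theorem exists_coset_scalar {g : Γ} (hg : g ∈ Subgroup.normalizer (Z : Set Γ)) (θ : IrrCharacter Z)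
    (_hfg : Fixes (θ : Z → ℂ) g) (η : IrrCharacter ↥(Z ⊔ Subgroup.zpowers g))
    (hη : res le_sup_left η.1 = (θ : Z → ℂ)) {χ : ↥(Z ⊔ Subgroup.zpowers g) → ℂ}
    (hχ : IsCharacter _ χ) {e : ℂ} (he : res le_sup_left χ = e • (θ : Z → ℂ)) :
    ∃ a : ℂ, ∀ b : ↥(Z ⊔ Subgroup.zpowers g), (b : Γ) * g⁻¹ ∈ Z → χ b = a * η.1 b := by
  classical
  have hgB : g ∈ Z ⊔ Subgroup.zpowers g := Subgroup.mem_sup_right (Subgroup.mem_zpowers g)
  have hBn : Z ⊔ Subgroup.zpowers g ≤ Subgroup.normalizer (Z : Set Γ) :=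
    sup_le Subgroup.le_normalizer (Subgroup.zpowers_le.mpr hg)
  haveI := normal_sub hBn
  set N := Z.subgroupOf (Z ⊔ Subgroup.zpowers g) with hN
  set θ' := toSub (le_sup_left : Z ≤ Z ⊔ Subgroup.zpowers g) (θ : Z → ℂ) with hθ'
  have hη' : ∀ n : N, η.1 n = θ' n := fun n =>
    congrFun hη (Subgroup.subgroupOfEquivOfLe le_sup_left n)
  have hinv : ∀ x, conjBy N θ' x = θ' := by
    rw [show θ' = fun n : N => η.1 n from funext fun n => (hη' n).symm]
    exact conjBy_restrict N (isClassFunction_of_isCharacter (isCharacter_of_isIrr η.2))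
  have h1 : (fun _ => (1 : ℂ)) * θ' = θ' := funext fun n => one_mul _
  have hbij := gallagher N (φ := fun _ => 1) (θ := θ') isIrrCharacter_one (fun x => rfl) hinv
    (by rw [h1]; exact isIrr_toSub _ θ.2) η.2 hη'
  rw [h1] at hbij
  obtain ⟨m, hm⟩ := exists_multiplicities hχ
  have key : ∀ ω : IrrCharacter ↥(Z ⊔ Subgroup.zpowers g), ∃ a : ℂ, ∀ b : ↥(Z ⊔ Subgroup.zpowers g), (b : Γ) * g⁻¹ ∈ Z →
      (m ω : ℂ) * ω.1 b = a * η.1 b := by
    intro ω
    by_cases hω : classInner (res (le_sup_left : Z ≤ Z ⊔ Subgroup.zpowers g) ω.1) (θ : Z → ℂ) = 0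
    · refine ⟨0, fun b _ => ?_⟩
      rw [zero_mul]
      by_cases hmω : m ω = 0
      · simp [hmω]
      exfalso
      obtain ⟨ξ, hξ⟩ := exists_over (le_sup_left : Z ≤ Z ⊔ Subgroup.zpowers g) ω.2
      have h2 : Over (le_sup_left : Z ≤ Z ⊔ Subgroup.zpowers g) χ (ξ : Z → ℂ) := by
        choose k hk using fun ω' : IrrCharacter ↥(Z ⊔ Subgroup.zpowers g) => exists_nat_classInner
          (isCharacter_res (le_sup_left : Z ≤ Z ⊔ Subgroup.zpowers g) (isCharacter_of_isIrr ω'.2))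
          (isCharacter_of_isIrr ξ.2)
        unfold Over at hξ ⊢
        rw [hm, show res (le_sup_left : Z ≤ Z ⊔ Subgroup.zpowers g) (∑ ω' : IrrCharacter ↥(Z ⊔ Subgroup.zpowers g), (m ω' : ℂ) • ω'.1) =
            ∑ ω' : IrrCharacter ↥(Z ⊔ Subgroup.zpowers g), (m ω' : ℂ) • res le_sup_left ω'.1 from funext fun x => by
              simp [res, Finset.sum_apply], classInner_sum_left]
        simp only [classInner_smul_left, hk, ← Nat.cast_mul, ← Nat.cast_sum, Nat.cast_ne_zero]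
        rw [hk, Nat.cast_ne_zero] at hξ
        exact fun h0 => mul_ne_zero hmω hξ (Finset.sum_eq_zero_iff.mp h0 ω (Finset.mem_univ _))
      unfold Over at h2
      rw [he, classInner_smul_left] at h2
      refine hξ ?_
      by_cases hξθ : ξ = θ
      · rw [hξθ, hω]
      · exact absurd (by rw [classInner_irr_ne θ.2 ξ.2 fun e0 => hξθ (Subtype.ext e0.symm),
          mul_zero]) h2
    · obtain ⟨b, ⟨hb, hbn⟩, e0⟩ := hbij.surjOn (show ω.1 ∈ {ψ : ↥(Z ⊔ Subgroup.zpowers g) → ℂ | IsIrrCharacter ↥(Z ⊔ Subgroup.zpowers g) ψ ∧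
          classInner (indFun N θ') ψ ≠ 0} from ⟨ω.2, by
        rw [frobenius_reciprocity N _ (isClassFunction_of_isCharacter (isCharacter_of_isIrr ω.2)),
          ← classInner_conj_symm, hθ', classInner_toSub]
        simpa using hω⟩)
      refine ⟨(m ω : ℂ) * b ⟨g, hgB⟩, fun x hx => ?_⟩
      rcases avgN_dichotomy N hb with ⟨-, hc⟩ | ⟨h0, -⟩
      · have e1 := congrFun e0 x
        simp only [Pi.mul_apply] at e1
        rw [← e1, mul_assoc, ← hc ⟨x * (⟨g, hgB⟩ : ↥(Z ⊔ Subgroup.zpowers g))⁻¹, hx⟩ ⟨g, hgB⟩]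
        simp
      · exfalso
        apply hbn
        rw [frobenius_reciprocity N _ (isClassFunction_of_isCharacter (isCharacter_of_isIrr hb)),
          show classInner (fun _ : N => (1 : ℂ)) (fun n : N => b n) = conj (avgN N b 1) by
            simp [classInner, avgN],
          h0, Pi.zero_apply, map_zero]
  choose a ha using key
  refine ⟨∑ ω, a ω, fun b hb => ?_⟩
  rw [hm, Finset.sum_apply, Finset.sum_mul]
  exact Finset.sum_congr rfl fun ω _ => ha ω b hb

theorem ext_invariant {θ : Z → ℂ} {a a' b b' : Γ} (ha : a' * a⁻¹ ∈ Z) (hb : b' * b⁻¹ ∈ Z)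
    (h : ExtTo θ (Subgroup.zpowers a ⊔ Subgroup.zpowers b)) :
    ExtTo θ (Subgroup.zpowers a' ⊔ Subgroup.zpowers b') := by
  obtain ⟨B, hB, rfl, hω⟩ := h
  refine ⟨_, hB, ?_, hω⟩
  have key : ∀ {a a' : Γ} (_ : a' * a⁻¹ ∈ Z) {X : Subgroup Γ}, Z ≤ X →
      Subgroup.zpowers a ≤ X → Subgroup.zpowers a' ≤ X := fun {a a'} ha X hX h => by
    rw [Subgroup.zpowers_le] at h ⊢
    rw [show a' = a' * a⁻¹ * a by group]
    exact mul_mem (hX ha) h
  have hinv : ∀ {a a' : Γ}, a' * a⁻¹ ∈ Z → a * a'⁻¹ ∈ Z := fun {a a'} h => by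
    have := Z.inv_mem h
    rwa [mul_inv_rev, inv_inv] at this
  refine le_antisymm (sup_le le_sup_left (sup_le ?_ ?_)) (sup_le le_sup_left (sup_le ?_ ?_))
  · exact key (hinv ha) le_sup_left (le_sup_left.trans le_sup_right)
  · exact key (hinv hb) le_sup_left (le_sup_right.trans le_sup_right)
  · exact key ha le_sup_left (le_sup_left.trans le_sup_right)
  · exact key hb le_sup_left (le_sup_right.trans le_sup_right)

/-- The pairs of `H₀` that count the characters over `θ`. -/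
def GoodPair (θ : Z → ℂ) (H₀ : Subgroup Γ) (x : H₀ × H₀) : Prop :=
  (x.2 : Γ) * x.1 * (x.2 : Γ)⁻¹ * (x.1 : Γ)⁻¹ ∈ Z ∧
    ∀ b : H₀, (b : Γ) * x.1 * (b : Γ)⁻¹ * (x.1 : Γ)⁻¹ ∈ Z →
      ExtTo θ (Subgroup.zpowers (x.1 : Γ) ⊔ Subgroup.zpowers (b : Γ))

theorem card_over_mul_full (hZT : Z ≤ T) (hT : T ≤ Subgroup.normalizer (Z : Set Γ))
    (θ : IrrCharacter Z) (hinv : Inv Z T (θ : Z → ℂ)) :
    Nat.card {χ : IrrCharacter T // Over hZT (χ : T → ℂ) (θ : Z → ℂ)} *
        (Nat.card T * Nat.card Z) = Nat.card {x : T × T // GoodPair (θ : Z → ℂ) T x} := by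
  classical
  haveI := normal_sub hT
  have hgn : ∀ g : T, (g : Γ) ∈ Subgroup.normalizer (Z : Set Γ) := fun g => hT g.2
  choose η hη using fun g : T => exists_ext_zpowers (hgn g) θ (hinv g g.2)
  have hB : ∀ g : T, Z ⊔ Subgroup.zpowers (g : Γ) ≤ T :=
    fun g => sup_le hZT (Subgroup.zpowers_le.mpr g.2)
  have hgB : ∀ g : T, (g : Γ) ∈ Z ⊔ Subgroup.zpowers (g : Γ) :=
    fun g => Subgroup.mem_sup_right (Subgroup.mem_zpowers _)
  have hzB : ∀ (g : T) (z : Z), (z : Γ) * g ∈ Z ⊔ Subgroup.zpowers (g : Γ) :=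
    fun g z => mul_mem (Subgroup.mem_sup_left z.2) (hgB g)
  -- values on the coset
  let V : ∀ g : T, Z → ℂ := fun g z => (η g).1 ⟨(z : Γ) * g, hzB g z⟩
  let sh : Z → T → T := fun z g => ⟨(z : Γ) * g, mul_mem (hZT z.2) g.2⟩
  let a : T → IrrCharacter T → ℂ :=
    fun g χ => (Nat.card Z : ℂ)⁻¹ * ∑ z : Z, χ.1 (sh z g) * conj (V g z)
  have hcard : (Nat.card Z : ℂ) ≠ 0 := Nat.cast_ne_zero.mpr Nat.card_pos.ne'
  have hnorm : ∀ g : T, ∑ z : Z, V g z * conj (V g z) = Nat.card Z := by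
    intro g
    have hBn : Z ⊔ Subgroup.zpowers (g : Γ) ≤ Subgroup.normalizer (Z : Set Γ) :=
      sup_le Subgroup.le_normalizer (Subgroup.zpowers_le.mpr (hgn g))
    haveI := normal_sub hBn
    have h := congrFun (avgN_mul_conj_extension_self (Z.subgroupOf (Z ⊔ Subgroup.zpowers (g : Γ)))
      (isIrr_toSub le_sup_left θ.2) (η g).2 fun n =>
        congrFun (hη g) (Subgroup.subgroupOfEquivOfLe le_sup_left n)) ⟨g, hgB g⟩
    set e := Subgroup.subgroupOfEquivOfLe (le_sup_left : Z ≤ Z ⊔ Subgroup.zpowers (g : Γ))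
    rw [avgN, Nat.card_congr e.toEquiv, inv_mul_eq_one₀ hcard] at h
    rw [h]
    exact (Fintype.sum_equiv e.toEquiv _ _ fun n => rfl).symm
  have hout : ∀ g χ, ¬ Over hZT (χ.1 : T → ℂ) (θ : Z → ℂ) → a g χ = 0 := by
    intro g χ hχ
    have hBn : Z ⊔ Subgroup.zpowers (g : Γ) ≤ Subgroup.normalizer (Z : Set Γ) :=
      sup_le Subgroup.le_normalizer (Subgroup.zpowers_le.mpr (hgn g))
    haveI := normal_sub hBn
    have h := congrFun (avgN_mul_conj_extension_eq_zero (Z.subgroupOf (Z ⊔ Subgroup.zpowers (g : Γ)))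
      (isIrr_toSub le_sup_left θ.2) (η g).2
      (fun n => congrFun (hη g) (Subgroup.subgroupOfEquivOfLe le_sup_left n))
      (isCharacter_res (hB g) (isCharacter_of_isIrr χ.2))
      (by rw [classInner_toSub, res_res]; exact not_not.mp hχ)) ⟨g, hgB g⟩
    set e := Subgroup.subgroupOfEquivOfLe (le_sup_left : Z ≤ Z ⊔ Subgroup.zpowers (g : Γ))
    rw [avgN, Nat.card_congr e.toEquiv, Pi.zero_apply] at h
    rw [← h]
    simp only [a]
    congr 1
    exact (Fintype.sum_equiv e.toEquiv _ _ fun n => rfl).symm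
  have hin : ∀ g χ, Over hZT (χ.1 : T → ℂ) (θ : Z → ℂ) →
      ∑ z : Z, χ.1 (sh z g) * conj (χ.1 (sh z g)) = Nat.card Z * (a g χ * conj (a g χ)) := by
    intro g χ hχ
    obtain ⟨e, -, -, he, -⟩ := res_eq_smul hZT hT χ.2 θ.2 hinv hχ
    obtain ⟨c, hc⟩ := exists_coset_scalar (hgn g) θ (hinv g g.2) (η g) (hη g)
      (isCharacter_res (hB g) (isCharacter_of_isIrr χ.2)) (e := (e : ℂ))
      ((res_res le_sup_left (hB g) _).trans he)
    have hval : ∀ z : Z, χ.1 (sh z g) = c * V g z := fun z =>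
      hc ⟨(z : Γ) * g, hzB g z⟩ (by simp)
    have hac : a g χ = c := by
      simp only [a, hval, mul_assoc, ← Finset.mul_sum, hnorm]
      field_simp
    rw [hac, mul_comm (Nat.card Z : ℂ), ← hnorm g, Finset.mul_sum]
    refine Finset.sum_congr rfl fun z _ => ?_
    rw [hval, map_mul]
    ring
  -- the sum over pairs
  let C : T → T → Prop := fun g y => (y : Γ) * g * (y : Γ)⁻¹ * (g : Γ)⁻¹ ∈ Z
  have hyB : ∀ g y, C g y → (y : Γ) ∈
      Subgroup.normalizer ((Z ⊔ Subgroup.zpowers (g : Γ) : Subgroup Γ) : Set Γ) :=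
    fun g y h => mem_normalizer_sup (hgn g) (hgn y) h
  let μ : T → T → ℂ := fun g y => if h : C g y then
    (Nat.card Z : ℂ)⁻¹ * ∑ z : Z, (η g).1 (conjEquiv (hyB g y h) ⟨(z : Γ) * g, hzB g z⟩) *
      conj (V g z) else 0
  have hcol : ∀ g, ∑ χ, a g χ * conj (a g χ) = (Nat.card Z : ℂ)⁻¹ * ∑ y : T, μ g y := by
    intro g
    have hmem : ∀ (y : T) (z : Z),
        (y : Γ) * ((z : Γ) * g) * (y : Γ)⁻¹ * (g : Γ)⁻¹ ∈ Z ↔ C g y := fun y z => by
      have hz : (y : Γ) * z * (y : Γ)⁻¹ ∈ Z := (Subgroup.mem_normalizer_iff.mp (hgn y) _).mp z.2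
      rw [show (y : Γ) * ((z : Γ) * g) * (y : Γ)⁻¹ * (g : Γ)⁻¹ =
        (y : Γ) * z * (y : Γ)⁻¹ * ((y : Γ) * g * (y : Γ)⁻¹ * (g : Γ)⁻¹) by group]
      exact Subgroup.mul_mem_cancel_left Z hz
    calc ∑ χ, a g χ * conj (a g χ)
        = (Nat.card Z : ℂ)⁻¹ * (Nat.card Z : ℂ)⁻¹ * ∑ z : Z, ∑ z' : Z,
            conj (V g z) * V g z' * ∑ χ : IrrCharacter T, χ.1 (sh z g) * conj (χ.1 (sh z' g)) := by
          simp only [a, map_mul, map_inv₀, map_natCast, map_sum, Complex.conj_conj,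
            Finset.mul_sum, Finset.sum_mul]
          rw [Finset.sum_comm]
          refine Eq.trans (Finset.sum_comm) ?_
          rw [Finset.sum_comm]
          refine Eq.trans ?_ Finset.sum_comm
          refine Finset.sum_congr rfl fun z _ => ?_
          rw [Finset.sum_comm]
          refine Finset.sum_congr rfl fun z' _ => Finset.sum_congr rfl fun χ _ => ?_
          ring
      _ = (Nat.card Z : ℂ)⁻¹ * (Nat.card Z : ℂ)⁻¹ * ∑ y : T, ∑ z : Z, ∑ z' : Z,
            if y * sh z g * y⁻¹ = sh z' g then conj (V g z) * V g z' else 0 := by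
          congr 1
          rw [Finset.sum_comm (γ := T)]
          refine Finset.sum_congr rfl fun z _ => ?_
          rw [Finset.sum_comm (γ := T)]
          refine Finset.sum_congr rfl fun z' _ => ?_
          rw [col_sum, Finset.mul_sum]
          exact Finset.sum_congr rfl fun y _ => by rw [mul_ite, mul_one, mul_zero]
      _ = (Nat.card Z : ℂ)⁻¹ * ∑ y : T, μ g y := by
          rw [mul_assoc, Finset.mul_sum]
          congr 1
          refine Finset.sum_congr rfl fun y _ => ?_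
          by_cases h : C g y
          · simp only [μ, dif_pos h]
            congr 1
            refine Finset.sum_congr rfl fun z _ => ?_
            rw [Finset.sum_eq_single ⟨_, (hmem y z).mpr h⟩]
            · rw [if_pos (Subtype.ext (by simp [sh, mul_assoc])), mul_comm]
              congr 1
              exact congrArg (η g).1 (Subtype.ext (by simp [mul_assoc]))
            · intro z' _ hne
              refine if_neg fun e => hne (Subtype.ext ?_)
              have := congrArg Subtype.val e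
              simp only [sh, Subgroup.coe_mul, Subgroup.coe_inv] at this
              show (z' : Γ) = (y : Γ) * ((z : Γ) * g) * (y : Γ)⁻¹ * (g : Γ)⁻¹
              rw [this, mul_inv_cancel_right]
            · simp
          · simp only [μ, dif_neg h]
            rw [Finset.sum_eq_zero fun z _ => Finset.sum_eq_zero fun z' _ => if_neg fun e => h ?_,
              mul_zero]
            have := congrArg Subtype.val e
            simp only [sh, Subgroup.coe_mul, Subgroup.coe_inv] at this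
            exact (hmem y z).mp (by rw [this]; simp)
  -- the inner sum over a stabiliser
  have hmul : ∀ g y₀ y, C g y₀ → C g y → C g (y₀ * y) := fun g y₀ y h₀ h => by
    show ((y₀ : Γ) * y) * g * ((y₀ : Γ) * y)⁻¹ * (g : Γ)⁻¹ ∈ Z
    rw [show ((y₀ : Γ) * y) * g * ((y₀ : Γ) * y)⁻¹ * (g : Γ)⁻¹ = (y₀ : Γ) *
      ((y : Γ) * g * (y : Γ)⁻¹ * (g : Γ)⁻¹) * (y₀ : Γ)⁻¹ *
        ((y₀ : Γ) * g * (y₀ : Γ)⁻¹ * (g : Γ)⁻¹) by group]
    exact mul_mem ((Subgroup.mem_normalizer_iff.mp (hgn y₀) _).mp h) h₀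
  have hinvC : ∀ g y, C g y → C g y⁻¹ := fun g y h => by
    show (y : Γ)⁻¹ * g * (y : Γ)⁻¹⁻¹ * (g : Γ)⁻¹ ∈ Z
    rw [show (y : Γ)⁻¹ * g * (y : Γ)⁻¹⁻¹ * (g : Γ)⁻¹ = (y : Γ)⁻¹ *
      ((y : Γ) * g * (y : Γ)⁻¹ * (g : Γ)⁻¹)⁻¹ * (y : Γ)⁻¹⁻¹ by group]
    exact (Subgroup.mem_normalizer_iff.mp (inv_mem (hgn y)) _).mp (inv_mem h)
  let G : T → Prop := fun g => ∀ y, C g y →
    ExtTo (θ : Z → ℂ) (Subgroup.zpowers (g : Γ) ⊔ Subgroup.zpowers (y : Γ))
  have hsum : ∀ g : T, ∑ y : T, μ g y = ∑ y : T, if C g y ∧ G g then 1 else 0 := by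
    intro g
    by_cases hG : G g
    · refine Finset.sum_congr rfl fun y _ => ?_
      by_cases h : C g y
      · rw [if_pos ⟨h, hG⟩]
        simp only [μ, dif_pos h]
        have hf := (ext_iff_fix (hgn g) (hgn y) θ (hinv g g.2) h).mp (hG y h) (η g) (hη g)
        have e : ∀ z : Z, (η g).1 (conjEquiv (hyB g y h) ⟨(z : Γ) * g, hzB g z⟩) = V g z :=
          fun z => hf _ _ rfl
        simp only [e, hnorm]
        exact inv_mul_cancel₀ hcard
      · rw [if_neg fun e => h e.1]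
        simp only [μ, dif_neg h]
    · rw [Finset.sum_congr rfl (g := fun y : T => if C g y ∧ G g then (1 : ℂ) else 0) (s₂ :=
        (Finset.univ : Finset T)) (fun y _ => rfl) |>.trans
          (Finset.sum_eq_zero fun y _ => if_neg fun e => hG e.2)]
      obtain ⟨y₀, h₀, hne⟩ : ∃ y₀, C g y₀ ∧
          ¬ ExtTo (θ : Z → ℂ) (Subgroup.zpowers (g : Γ) ⊔ Subgroup.zpowers (y₀ : Γ)) := by
        simpa [G] using hG
      have hBn : Z ⊔ Subgroup.zpowers (g : Γ) ≤ Subgroup.normalizer (Z : Set Γ) :=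
        sup_le Subgroup.le_normalizer (Subgroup.zpowers_le.mpr (hgn g))
      have hη₀ : res le_sup_left (conjChar (η g) (hyB g y₀ h₀)).1 = (θ : Z → ℂ) := funext fun z => by
        refine Eq.trans ?_ (hinv y₀ y₀.2 z (conjEquiv (hgn y₀) z) rfl)
        exact Eq.trans (congrArg (η g).1 (Subtype.ext rfl)) (congrFun (hη g) (conjEquiv (hgn y₀) z))
      obtain ⟨β, hβ, e⟩ := twist le_sup_left hBn θ.2 (η g).2 (conjChar (η g) (hyB g y₀ h₀)).2
        (hη g) hη₀
      have hbne : (β ⟨g, hgB g⟩ : ℂ) ≠ 1 := fun hb => hne (by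
        have hb1 : β = 1 := hom_eq_one_of_zpowers rfl hβ (hgB g) (Units.ext hb)
        refine ext_of_fix (hgn g) (hgn y₀) h₀ (η g) (hη g) ?_
        refine (fixes_iff_conj (hyB g y₀ h₀)).mpr (funext fun b => ?_)
        have h2 := congrFun e b
        rw [hb1] at h2
        simpa [conjChar] using h2)
      have hshift : ∀ y, μ g (y₀ * y) = (β ⟨g, hgB g⟩ : ℂ) * μ g y := by
        intro y
        by_cases h : C g y
        · simp only [μ, dif_pos h, dif_pos (hmul g y₀ y h₀ h)]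
          rw [mul_left_comm]
          congr 1
          rw [Finset.mul_sum]
          refine Finset.sum_congr rfl fun z _ => ?_
          rw [← mul_assoc]
          congr 1
          set b := conjEquiv (hyB g y h) ⟨(z : Γ) * g, hzB g z⟩
          have h2 := congrFun e b
          rw [show (η g).1 (conjEquiv (hyB g (y₀ * y) (hmul g y₀ y h₀ h)) ⟨(z : Γ) * g, hzB g z⟩) =
            (conjChar (η g) (hyB g y₀ h₀)).1 b from
              congrArg (η g).1 (Subtype.ext (by simp [b, mul_assoc])), h2]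
          congr 1
          have h3 : (b : Γ) * (g : Γ)⁻¹ ∈ Z := by
            simp only [b, Glauberman.conjEquiv_coe]
            rw [show (y : Γ) * ((z : Γ) * g) * (y : Γ)⁻¹ * (g : Γ)⁻¹ =
              (y : Γ) * z * (y : Γ)⁻¹ * ((y : Γ) * g * (y : Γ)⁻¹ * (g : Γ)⁻¹) by group]
            exact mul_mem ((Subgroup.mem_normalizer_iff.mp (hgn y) _).mp z.2) h
          have h4 := hβ (b * (⟨g, hgB g⟩ : ↥(Z ⊔ Subgroup.zpowers (g : Γ)))⁻¹) h3
          rw [map_mul, map_inv, mul_inv_eq_one] at h4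
          rw [h4]
        · have h' : ¬ C g (y₀ * y) := fun h' => h (by
            have := hmul g y₀⁻¹ (y₀ * y) (hinvC g y₀ h₀) h'
            rwa [inv_mul_cancel_left] at this)
          simp only [μ, dif_neg h, dif_neg h', mul_zero]
      have hs := Fintype.sum_equiv (Equiv.mulLeft y₀) (fun y => μ g (y₀ * y)) (μ g) fun y => rfl
      simp only [hshift, ← Finset.mul_sum] at hs
      exact (mul_left_eq_self₀.mp hs).resolve_left hbne
  -- the count
  set S := Finset.univ.filter fun χ : IrrCharacter T => Over hZT (χ.1 : T → ℂ) (θ : Z → ℂ) with hS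
  have hk : Nat.card {χ : IrrCharacter T // Over hZT (χ : T → ℂ) (θ : Z → ℂ)} = S.card := by
    rw [Nat.card_eq_fintype_card, hS, Fintype.card_subtype]
  have hT0 : (Nat.card T : ℂ) ≠ 0 := Nat.cast_ne_zero.mpr Nat.card_pos.ne'
  have h1 : ∀ χ : IrrCharacter T, ∑ g : T, χ.1 g * conj (χ.1 g) = Nat.card T := fun χ => by
    have h := classInner_irr_self χ.2
    rw [classInner, inv_mul_eq_one₀ hT0] at h
    exact h.symm
  have h2 : (S.card : ℂ) * (Nat.card T * Nat.card Z) =
      ∑ χ ∈ S, ∑ g : T, ∑ z : Z, χ.1 (sh z g) * conj (χ.1 (sh z g)) := by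
    rw [← nsmul_eq_mul, ← Finset.sum_const]
    refine Finset.sum_congr rfl fun χ _ => ?_
    rw [Finset.sum_comm]
    have e : ∀ z : Z, ∑ g : T, χ.1 (sh z g) * conj (χ.1 (sh z g)) = Nat.card T := fun z => by
      rw [← h1 χ]
      exact Fintype.sum_equiv (Equiv.mulLeft (⟨z, hZT z.2⟩ : T)) _ _ fun g => rfl
    rw [Finset.sum_congr rfl fun z _ => e z, Finset.sum_const, Finset.card_univ,
      ← Nat.card_eq_fintype_card, nsmul_eq_mul]
    ring
  have h3 : (S.card : ℂ) * (Nat.card T * Nat.card Z) = ∑ g : T, ∑ y : T, μ g y := by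
    rw [h2, Finset.sum_comm]
    refine Finset.sum_congr rfl fun g _ => ?_
    rw [Finset.sum_congr rfl fun χ hχ => hin g χ (Finset.mem_filter.mp hχ).2, ← Finset.mul_sum,
      Finset.sum_subset (Finset.subset_univ S) fun χ _ hχ => by
        rw [hout g χ fun h => hχ (Finset.mem_filter.mpr ⟨Finset.mem_univ _, h⟩), zero_mul],
      hcol g, mul_inv_cancel_left₀ hcard]
  simp only [hsum, ← Finset.sum_product'] at h3
  rw [hk]
  have h4 : S.card * (Nat.card T * Nat.card Z) =
      (((Finset.univ : Finset T) ×ˢ (Finset.univ : Finset T)).filter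
        fun x : T × T => C x.1 x.2 ∧ G x.1).card := by
    rw [Finset.card_filter (fun x : T × T => C x.1 x.2 ∧ G x.1)]
    exact_mod_cast h3
  rw [h4, Nat.card_eq_fintype_card, Fintype.card_subtype]
  exact Finset.card_bij (fun x _ => x) (fun x hx => by simpa [GoodPair, C, G] using hx)
    (fun x _ x' _ e => e) (fun x hx => ⟨x, by simpa [GoodPair, C, G] using hx, rfl⟩)

/-- The count with representatives from a supplement. -/
theorem card_over_mul (hZT : Z ≤ T) (hT : T ≤ Subgroup.normalizer (Z : Set Γ))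
    (θ : IrrCharacter Z) (hinv : Inv Z T (θ : Z → ℂ)) {H₀ : Subgroup Γ} (hH : H₀ ≤ T)
    (hsup : T = Z ⊔ H₀) :
    Nat.card {χ : IrrCharacter T // Over hZT (χ : T → ℂ) (θ : Z → ℂ)} *
        (Nat.card H₀ * Nat.card ↥(H₀ ⊓ Z)) =
      Nat.card {x : H₀ × H₀ // GoodPair (θ : Z → ℂ) H₀ x} := by
  classical
  haveI := normal_sub hT
  set π := QuotientGroup.mk' (Z.subgroupOf T)
  set f : H₀ →* T ⧸ Z.subgroupOf T := π.comp (Subgroup.inclusion hH)
  have hfs : Function.Surjective f := by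
    intro q
    obtain ⟨t, rfl⟩ := QuotientGroup.mk'_surjective (Z.subgroupOf T) q
    have ht : (t : Γ) ∈ (Z : Set Γ) * (H₀ : Set Γ) := by
      rw [← Subgroup.coe_mul_of_right_le_normalizer_left _ _ (hH.trans hT), SetLike.mem_coe, ← hsup]
      exact t.2
    obtain ⟨z, hz, h, hh, e⟩ := Set.mem_mul.mp ht
    refine ⟨⟨h, hh⟩, ?_⟩
    show π _ = π t
    rw [← mul_inv_eq_one, ← map_inv, ← map_mul, ← MonoidHom.mem_ker, QuotientGroup.ker_mk',
      Subgroup.mem_subgroupOf]
    simp only [Subgroup.coe_mul, Subgroup.coe_inv, Subgroup.coe_inclusion]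
    rw [← e, show h * (z * h)⁻¹ = z⁻¹ by group]
    exact inv_mem hz
  have hker : Nat.card f.ker = Nat.card ↥(H₀ ⊓ Z) := by
    have e : f.ker = Z.subgroupOf H₀ := by
      rw [← MonoidHom.comap_ker, QuotientGroup.ker_mk']
      rfl
    rw [e, ← Subgroup.card_map_of_injective H₀.subtype_injective, Subgroup.subgroupOf_map_subtype,
      inf_comm]
  let E : (T ⧸ Z.subgroupOf T) → (T ⧸ Z.subgroupOf T) → Prop := fun q r =>
    ∀ g y : T, π g = q → π y = r →
      ExtTo (θ : Z → ℂ) (Subgroup.zpowers (g : Γ) ⊔ Subgroup.zpowers (y : Γ))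
  let P : (T ⧸ Z.subgroupOf T) × (T ⧸ Z.subgroupOf T) → Prop := fun x =>
    x.2 * x.1 * x.2⁻¹ * x.1⁻¹ = 1 ∧ ∀ r, r * x.1 * r⁻¹ * x.1⁻¹ = 1 → E x.1 r
  have hπ : ∀ {t t' : T}, π t = π t' ↔ (t : Γ) * (t' : Γ)⁻¹ ∈ Z := fun {t t'} => by
    rw [← mul_inv_eq_one, ← map_inv, ← map_mul, ← MonoidHom.mem_ker, QuotientGroup.ker_mk',
      Subgroup.mem_subgroupOf]
    rfl
  have hcomm : ∀ g y : T, π y * π g * (π y)⁻¹ * (π g)⁻¹ = 1 ↔
      (y : Γ) * g * (y : Γ)⁻¹ * (g : Γ)⁻¹ ∈ Z := fun g y => by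
    rw [← map_inv, ← map_inv, ← map_mul, ← map_mul, ← map_mul, ← MonoidHom.mem_ker,
      QuotientGroup.ker_mk', Subgroup.mem_subgroupOf]
    rfl
  have hE : ∀ g y : T, E (π g) (π y) ↔
      ExtTo (θ : Z → ℂ) (Subgroup.zpowers (g : Γ) ⊔ Subgroup.zpowers (y : Γ)) := fun g y =>
    ⟨fun h => h g y rfl rfl, fun h g' y' e e' => ext_invariant (hπ.mp e) (hπ.mp e') h⟩
  have full : ∀ x : T × T, GoodPair (θ : Z → ℂ) T x ↔ P (π.prodMap π x) := fun x => by
    simp only [GoodPair, P, MonoidHom.coe_prodMap, Prod.map_fst, Prod.map_snd]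
    refine and_congr (hcomm _ _).symm ⟨fun h r => ?_, fun h b hb => ?_⟩
    · obtain ⟨y, rfl⟩ := QuotientGroup.mk'_surjective (Z.subgroupOf T) r
      exact fun hr => (hE _ _).mpr (h y ((hcomm _ _).mp hr))
    · exact (hE _ _).mp (h (π b) ((hcomm _ _).mpr hb))
  have rep : ∀ x : H₀ × H₀, GoodPair (θ : Z → ℂ) H₀ x ↔ P (f.prodMap f x) := fun x => by
    simp only [GoodPair, P, MonoidHom.coe_prodMap, Prod.map_fst, Prod.map_snd, f,
      MonoidHom.comp_apply]
    refine and_congr (hcomm (Subgroup.inclusion hH x.1) (Subgroup.inclusion hH x.2)).symm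
      ⟨fun h r => ?_, fun h b hb => ?_⟩
    · obtain ⟨y, rfl⟩ := hfs r
      exact fun hr => (hE _ (Subgroup.inclusion hH y)).mpr
        (h y ((hcomm _ (Subgroup.inclusion hH y)).mp hr))
    · exact (hE (Subgroup.inclusion hH x.1) (Subgroup.inclusion hH b)).mp
        (h (f b) ((hcomm (Subgroup.inclusion hH x.1) (Subgroup.inclusion hH b)).mpr hb))
  have h1 := card_over_mul_full hZT hT θ hinv
  rw [Nat.card_congr (Equiv.subtypeEquivRight full),
    card_preimage (π.prodMap π) (Prod.map_surjective.mpr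
      ⟨QuotientGroup.mk'_surjective _, QuotientGroup.mk'_surjective _⟩)] at h1
  rw [Nat.card_congr (Equiv.subtypeEquivRight rep),
    card_preimage (f.prodMap f) (Prod.map_surjective.mpr ⟨hfs, hfs⟩)]
  simp only [MonoidHom.ker_prodMap, Nat.card_congr (Subgroup.prodEquiv _ _).toEquiv, Nat.card_prod,
    hker] at h1 ⊢
  rw [QuotientGroup.ker_mk', Nat.card_congr (Subgroup.subgroupOfEquivOfLe hZT).toEquiv] at h1
  have hTc : Nat.card T = Nat.card (T ⧸ Z.subgroupOf T) * Nat.card Z := by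
    rw [Subgroup.card_eq_card_quotient_mul_card_subgroup (Z.subgroupOf T),
      Nat.card_congr (Subgroup.subgroupOfEquivOfLe hZT).toEquiv]
  have hHc : Nat.card H₀ = Nat.card (T ⧸ Z.subgroupOf T) * Nat.card ↥(H₀ ⊓ Z) := by
    rw [Subgroup.card_eq_card_quotient_mul_card_subgroup f.ker, hker,
      Nat.card_congr (QuotientGroup.quotientKerEquivOfSurjective f hfs).toEquiv]
  rw [hTc] at h1
  rw [hHc]
  have hz : 0 < Nat.card Z * Nat.card Z := Nat.mul_pos Nat.card_pos Nat.card_pos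
  have h5 : Nat.card {χ : IrrCharacter T // Over hZT (χ : T → ℂ) (θ : Z → ℂ)} *
      Nat.card (T ⧸ Z.subgroupOf T) =
      Nat.card {x : (T ⧸ Z.subgroupOf T) × (T ⧸ Z.subgroupOf T) // P x} := by
    refine Nat.eq_of_mul_eq_mul_left hz ?_
    rw [← h1]
    ring
  rw [← h5]
  ring

end Coset

end CfsgLib.Char.RelMcKay
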