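import Cfsg.Agent.Lib.Char.RelMcKay.Tools
import Cfsg.Agent.Lib.Char.ExtensionCoset

/-!
# Extensions to two-generated abelian quotients
-/

set_option autoImplicit false
set_option linter.style.haveILetI false
set_option linter.unusedSectionVars false

namespace CfsgLib.Char.RelMcKay

open Cfsg CfsgLib.Char
open CfsgLib.Char.Glauberman (Inv res conjEquiv inv_sup inv_mono isCharacter_res)
open CfsgLib.Char.RelGlauberman (conjChar)
open scoped ComplexConjugate CfsgLib.Char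

attribute [local instance 10000] Fintype.ofFinite
attribute [local instance 100000] CfsgLib.Char.instFintypeIrrCharacter

variable {Γ : Type*} [Group Γ] [Finite Γ]
variable {A B C W : Subgroup Γ}

theorem isIrr_res (h : A ≤ B) (h' : B ≤ C) {χ : C → ℂ} (hχ : IsCharacter C χ)
    (hA : IsIrrCharacter A (res (h.trans h') χ)) : IsIrrCharacter B (res h' χ) :=
  isIrr_of_restrict (A.subgroupOf B) (isCharacter_res h' hχ)
    (isIrrCharacter_comp_mulEquiv (Subgroup.subgroupOfEquivOfLe h) hA)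

theorem twist (h : A ≤ B) (hB : B ≤ Subgroup.normalizer (A : Set Γ)) {θ : A → ℂ}
    (hθ : IsIrrCharacter A θ) {χ χ' : B → ℂ} (hχ : IsIrrCharacter B χ) (hχ' : IsIrrCharacter B χ')
    (e : res h χ = θ) (e' : res h χ' = θ) :
    ∃ β : B →* ℂˣ, (∀ b : B, (b : Γ) ∈ A → β b = 1) ∧ χ' = fun b => (β b : ℂ) * χ b := by
  haveI := normal_sub hB
  obtain ⟨β, hβ, he⟩ := extensions_differ (A.subgroupOf B) (isIrr_toSub h hθ) hχ hχ'
    (fun a => congrFun e (Subgroup.subgroupOfEquivOfLe h a))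
    (fun a => congrFun e' (Subgroup.subgroupOfEquivOfLe h a))
  exact ⟨β, fun b hb => hβ ⟨b, hb⟩, he⟩

theorem twist_inj (h : A ≤ B) (hB : B ≤ Subgroup.normalizer (A : Set Γ)) {θ : A → ℂ}
    (hθ : IsIrrCharacter A θ) {χ : B → ℂ} (hχ : IsIrrCharacter B χ) (e : res h χ = θ)
    {β : B →* ℂˣ} (hβ : ∀ b : B, (b : Γ) ∈ A → β b = 1)
    (he : ∀ b, (β b : ℂ) * χ b = χ b) : β = 1 := by
  haveI := normal_sub hB
  have hav : avgN (A.subgroupOf B) (fun b => (β b : ℂ)) = fun b => (β b : ℂ) := by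
    funext b
    have : ∀ a : A.subgroupOf B, (β ((a : B) * b) : ℂ) = β b := fun a => by
      rw [map_mul, hβ a a.2, one_mul]
    simp only [avgN, this, Finset.sum_const, Finset.card_univ, ← Nat.card_eq_fintype_card,
      nsmul_eq_mul]
    rw [inv_mul_cancel_left₀ (Nat.cast_ne_zero.mpr Nat.card_pos.ne')]
  have h1 := (extension_mul_isIrr (A.subgroupOf B) (isIrr_toSub h hθ) hχ
    (fun a => congrFun e (Subgroup.subgroupOfEquivOfLe h a)) (isIrrCharacter_monoidHom β) hav).2.1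
    (funext he)
  exact MonoidHom.ext fun b => Units.ext (congrFun h1 b)

theorem hom_ext_sup (hB : B = A ⊔ W) {M : Type*} [CommGroup M] {f g : B →* M}
    (hA : ∀ b : B, (b : Γ) ∈ A → f b = g b) (hW : ∀ b : B, (b : Γ) ∈ W → f b = g b) : f = g := by
  let E := (f.eqLocus g).map B.subtype
  have hle : A ⊔ W ≤ E :=
    sup_le (fun a ha => ⟨⟨a, hB.ge (Subgroup.mem_sup_left ha)⟩, hA _ ha, rfl⟩)
      (fun a ha => ⟨⟨a, hB.ge (Subgroup.mem_sup_right ha)⟩, hW _ ha, rfl⟩)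
  refine MonoidHom.ext fun b => ?_
  obtain ⟨c, hc, e⟩ := hle (show (b : Γ) ∈ A ⊔ W from (le_of_eq hB) b.2)
  rw [show b = c from Subtype.ext e.symm]
  exact hc

theorem hom_eq_one_of_zpowers {x : Γ} (hB : B = A ⊔ Subgroup.zpowers x) {M : Type*} [CommGroup M]
    {f : B →* M} (hA : ∀ b : B, (b : Γ) ∈ A → f b = 1) (hx : x ∈ B) (hfx : f ⟨x, hx⟩ = 1) :
    f = 1 := by
  refine hom_ext_sup hB hA fun b hb => ?_
  obtain ⟨n, hn⟩ := Subgroup.mem_zpowers_iff.mp hb
  rw [show b = (⟨x, hx⟩ : B) ^ n from Subtype.ext (by simp [hn]), map_zpow, hfx, one_zpow]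
  rfl

/-- `θ` extends to `A ⊔ W`. -/
def ExtTo (θ : A → ℂ) (W : Subgroup Γ) : Prop :=
  ∃ (B : Subgroup Γ) (h : A ≤ B), B = A ⊔ W ∧ ∃ ω : IrrCharacter B, res h (ω : B → ℂ) = θ

theorem exists_ext_zpowers {x : Γ} (hx : x ∈ Subgroup.normalizer (A : Set Γ)) (θ : IrrCharacter A)
    (hfx : Fixes (θ : A → ℂ) x) :
    ∃ η : IrrCharacter ↥(A ⊔ Subgroup.zpowers x), res le_sup_left η.1 = (θ : A → ℂ) :=
  RelGlauberman.exists_extension hx θ
    ((RelGlauberman.inv_zpowers_iff hx).mpr (congrFun ((fixes_iff_conj hx).mp hfx)))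

theorem mem_normalizer_sup {x y : Γ} (_hx : x ∈ Subgroup.normalizer (A : Set Γ))
    (hy : y ∈ Subgroup.normalizer (A : Set Γ)) (hc : y * x * y⁻¹ * x⁻¹ ∈ A) :
    y ∈ Subgroup.normalizer ((A ⊔ Subgroup.zpowers x : Subgroup Γ) : Set Γ) := by
  set B := A ⊔ Subgroup.zpowers x
  have hmem : ∀ b ∈ B, y * b * y⁻¹ ∈ B := by
    intro b hb
    have hle : B ≤ B.comap (MulAut.conj y).toMonoidHom := by
      refine sup_le (fun a ha => ?_) (Subgroup.zpowers_le.mpr ?_)
      · exact Subgroup.mem_sup_left ((Subgroup.mem_normalizer_iff.mp hy a).mp ha)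
      · show y * x * y⁻¹ ∈ B
        rw [show y * x * y⁻¹ = y * x * y⁻¹ * x⁻¹ * x by group]
        exact mul_mem (Subgroup.mem_sup_left hc) (Subgroup.mem_sup_right (Subgroup.mem_zpowers x))
    exact hle hb
  refine Subgroup.mem_normalizer_iff.mpr fun b => ⟨hmem b, fun hb => ?_⟩
  have hinj : Function.Injective (fun a : B => (⟨y * a * y⁻¹, hmem a a.2⟩ : B)) := fun a c e =>
    Subtype.ext (mul_left_cancel (mul_right_cancel (congrArg Subtype.val e)))
  obtain ⟨a, ha⟩ := (Finite.injective_iff_surjective.mp hinj) ⟨_, hb⟩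
  have := mul_left_cancel (mul_right_cancel (congrArg Subtype.val ha))
  exact this ▸ a.2

theorem twist_fixed {x y : Γ} (hy : y ∈ Subgroup.normalizer (A : Set Γ))
    (hc : y * x * y⁻¹ * x⁻¹ ∈ A)
    (hyB : y ∈ Subgroup.normalizer ((A ⊔ Subgroup.zpowers x : Subgroup Γ) : Set Γ))
    {β : ↥(A ⊔ Subgroup.zpowers x) →* ℂˣ}
    (hβ : ∀ b : ↥(A ⊔ Subgroup.zpowers x), (b : Γ) ∈ A → β b = 1) :
    ∀ b, β (conjEquiv hyB b) = β b := by
  have hxm : x ∈ A ⊔ Subgroup.zpowers x := Subgroup.mem_sup_right (Subgroup.mem_zpowers x)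
  have e : (β.comp (conjEquiv hyB).toMonoidHom) * β⁻¹ = 1 := by
    refine hom_eq_one_of_zpowers rfl (fun b hb => ?_) hxm ?_
    · simp only [MonoidHom.mul_apply, MonoidHom.inv_apply, MonoidHom.comp_apply, hβ b hb, inv_one,
        mul_one]
      exact hβ _ ((Subgroup.mem_normalizer_iff.mp hy b).mp hb)
    · simp only [MonoidHom.mul_apply, MonoidHom.inv_apply, MonoidHom.comp_apply]
      show β (conjEquiv hyB ⟨x, hxm⟩) * (β ⟨x, hxm⟩)⁻¹ = 1
      rw [← map_inv, ← map_mul]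
      exact hβ _ (by simpa [mul_assoc] using hc)
  intro b
  have := DFunLike.congr_fun e b
  simp only [MonoidHom.mul_apply, MonoidHom.inv_apply, MonoidHom.comp_apply, MonoidHom.one_apply,
    mul_inv_eq_one] at this
  exact this

theorem ext_of_fix {x y : Γ} (hx : x ∈ Subgroup.normalizer (A : Set Γ))
    (hy : y ∈ Subgroup.normalizer (A : Set Γ)) (hc : y * x * y⁻¹ * x⁻¹ ∈ A) {θ : IrrCharacter A}
    (η : IrrCharacter ↥(A ⊔ Subgroup.zpowers x)) (hη : res le_sup_left η.1 = (θ : A → ℂ))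
    (hf : Fixes η.1 y) : ExtTo (θ : A → ℂ) (Subgroup.zpowers x ⊔ Subgroup.zpowers y) := by
  obtain ⟨ω, hω⟩ := exists_ext_zpowers (mem_normalizer_sup hx hy hc) η hf
  refine ⟨_, le_sup_left.trans le_sup_left, sup_assoc _ _ _, ω, ?_⟩
  rw [← res_res le_sup_left le_sup_left, hω, hη]

/-- `θ` extends to `A⟨x, y⟩` iff `y` fixes the extensions to `A⟨x⟩`. -/
theorem ext_iff_fix {x y : Γ} (hx : x ∈ Subgroup.normalizer (A : Set Γ))
    (hy : y ∈ Subgroup.normalizer (A : Set Γ)) (θ : IrrCharacter A) (hfx : Fixes (θ : A → ℂ) x)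
    (hc : y * x * y⁻¹ * x⁻¹ ∈ A) :
    ExtTo (θ : A → ℂ) (Subgroup.zpowers x ⊔ Subgroup.zpowers y) ↔
      ∀ η : IrrCharacter ↥(A ⊔ Subgroup.zpowers x),
        res le_sup_left η.1 = (θ : A → ℂ) → Fixes η.1 y := by
  have hyB := mem_normalizer_sup hx hy hc
  constructor
  · rintro ⟨B, h, rfl, ω, hω⟩ η hη
    set h1 : A ⊔ Subgroup.zpowers x ≤ A ⊔ (Subgroup.zpowers x ⊔ Subgroup.zpowers y) :=
      sup_le_sup_left le_sup_left A
    have hη₀ : IsIrrCharacter _ (res h1 ω.1) :=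
      isIrr_res le_sup_left h1 (isCharacter_of_isIrr ω.2)
        ((show res (le_sup_left.trans h1) ω.1 = (θ : A → ℂ) from hω).symm ▸ θ.2)
    obtain ⟨β, hβ, e⟩ := twist le_sup_left (sup_le Subgroup.le_normalizer
      (Subgroup.zpowers_le.mpr hx)) θ.2 hη₀ η.2 ((res_res le_sup_left h1 _).trans hω) hη
    have hyω : y ∈ A ⊔ (Subgroup.zpowers x ⊔ Subgroup.zpowers y) :=
      Subgroup.mem_sup_right (Subgroup.mem_sup_right (Subgroup.mem_zpowers y))
    refine (fixes_iff_conj hyB).mpr (funext fun b => ?_)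
    rw [e]
    simp only [twist_fixed hy hc hyB hβ b]
    congr 1
    have hcl := isClassFunction_of_isCharacter (isCharacter_of_isIrr ω.2)
    exact Eq.trans (congrArg ω.1 (Subtype.ext rfl)) (hcl ⟨b, h1 b.2⟩ ⟨y, hyω⟩)
  · intro hall
    obtain ⟨η, hη⟩ := exists_ext_zpowers hx θ hfx
    exact ext_of_fix hx hy hc η hη (hall η hη)

/-- Passing to a larger normal subgroup over which `θ` has an extension. -/
theorem ext_iff_ext {A' : Subgroup Γ} (hAA : A ≤ A') {x y : Γ}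
    (hx : x ∈ Subgroup.normalizer (A : Set Γ)) (hy : y ∈ Subgroup.normalizer (A : Set Γ))
    (hx' : x ∈ Subgroup.normalizer (A' : Set Γ)) (hy' : y ∈ Subgroup.normalizer (A' : Set Γ))
    (θ : IrrCharacter A) (θ' : IrrCharacter A') (hres : res hAA (θ' : A' → ℂ) = (θ : A → ℂ))
    (hfx : Fixes (θ : A → ℂ) x) (hfx' : Fixes (θ' : A' → ℂ) x) (hfy' : Fixes (θ' : A' → ℂ) y)
    (hc : y * x * y⁻¹ * x⁻¹ ∈ A) :
    ExtTo (θ' : A' → ℂ) (Subgroup.zpowers x ⊔ Subgroup.zpowers y) ↔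
      ExtTo (θ : A → ℂ) (Subgroup.zpowers x ⊔ Subgroup.zpowers y) := by
  set W := Subgroup.zpowers x ⊔ Subgroup.zpowers y
  constructor
  · rintro ⟨B, h, rfl, ω, hω⟩
    have h1 : A ⊔ W ≤ A' ⊔ W := sup_le_sup_right hAA W
    have e : res (le_sup_left.trans h1) ω.1 = (θ : A → ℂ) := by
      rw [← hres, ← hω]
      rfl
    exact ⟨_, le_sup_left, rfl,
      ⟨_, isIrr_res le_sup_left h1 (isCharacter_of_isIrr ω.2) (e.symm ▸ θ.2)⟩, e⟩
  · intro hA
    have hfix := (ext_iff_fix hx hy θ hfx hc).mp hA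
    refine (ext_iff_fix hx' hy' θ' hfx' (hAA hc)).mpr fun η hη => ?_
    have hyB := mem_normalizer_sup hx' hy' (hAA hc)
    have hyB₀ := mem_normalizer_sup hx hy hc
    have hBn : A' ⊔ Subgroup.zpowers x ≤ Subgroup.normalizer (A' : Set Γ) :=
      sup_le Subgroup.le_normalizer (Subgroup.zpowers_le.mpr hx')
    have hη' : res le_sup_left (conjChar η hyB).1 = (θ' : A' → ℂ) := funext fun a => by
      refine Eq.trans ?_ (hfy' a (conjEquiv hy' a) rfl)
      exact Eq.trans (congrArg η.1 (Subtype.ext rfl)) (congrFun hη (conjEquiv hy' a))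
    obtain ⟨β, hβ, e⟩ := twist le_sup_left hBn θ'.2 η.2 (conjChar η hyB).2 hη hη'
    have h1 : A ⊔ Subgroup.zpowers x ≤ A' ⊔ Subgroup.zpowers x := sup_le_sup_right hAA _
    have e0 : res (le_sup_left.trans h1) η.1 = (θ : A → ℂ) := by
      rw [← hres, ← hη]
      rfl
    have hη₀ : IsIrrCharacter _ (res h1 η.1) :=
      isIrr_res le_sup_left h1 (isCharacter_of_isIrr η.2) (e0.symm ▸ θ.2)
    have hf0 := hfix ⟨_, hη₀⟩ e0
    have hone : β.comp (Subgroup.inclusion h1) = 1 :=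
      twist_inj le_sup_left (sup_le Subgroup.le_normalizer (Subgroup.zpowers_le.mpr hx)) θ.2 hη₀ e0
        (fun b hb => hβ _ (hAA hb)) fun b => by
        have h2 := congrFun e (Subgroup.inclusion h1 b)
        have h3 := hf0 b (conjEquiv hyB₀ b) rfl
        refine Eq.trans h2.symm ?_
        exact Eq.trans (congrArg η.1 (Subtype.ext rfl)) h3
    have hxm : x ∈ A' ⊔ Subgroup.zpowers x := Subgroup.mem_sup_right (Subgroup.mem_zpowers x)
    have hb1 : β = 1 := hom_eq_one_of_zpowers rfl hβ hxm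
      (DFunLike.congr_fun hone ⟨x, Subgroup.mem_sup_right (Subgroup.mem_zpowers x)⟩)
    refine (fixes_iff_conj hyB).mpr (funext fun b => ?_)
    have h2 := congrFun e b
    rw [hb1] at h2
    simpa [conjChar] using h2

end CfsgLib.Char.RelMcKay
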