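import Cfsg.Agent.Lib.Char.RelMcKay.Corr

/-!
# Fibring characters of degree prime to `p` over invariant characters of an intermediate subgroup
-/

set_option autoImplicit false
set_option linter.style.haveILetI false
set_option linter.unusedSectionVars false

namespace CfsgLib.Char.RelMcKay

open Cfsg CfsgLib.Char
open CfsgLib.Char.Glauberman (Inv res conjEquiv inv_sup inv_mono isCharacter_res)
open CfsgLib.Char.RelGlauberman (conjChar)
open scoped ComplexConjugate CfsgLib.Char Pointwise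

attribute [local instance 10000] Fintype.ofFinite
attribute [local instance 100000] CfsgLib.Char.instFintypeIrrCharacter

variable {Γ : Type*} [Group Γ] [Finite Γ]

/-- The characters of degree prime to `p` over `θ`. -/
abbrev Above (p : ℕ) {H M : Subgroup Γ} (h : H ≤ M) (θ : H → ℂ) :=
  {χ : IrrCharacter M // ¬ p ∣ charDegree (χ : M → ℂ) ∧ Over h (χ : M → ℂ) θ}

/-- Two finite sets fibred over the same classes with fibres of equal size have equal size. -/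
theorem card_eq_of_fibres {A B I : Type*} [Finite A] [Finite B] (r : I → I → Prop)
    (hr : Equivalence r) (R : A → I → Prop) (R' : B → I → Prop)
    (hA : ∀ a, ∃ i, R a i) (hA' : ∀ a i j, R a i → (R a j ↔ r i j))
    (hB : ∀ b, ∃ i, R' b i) (hB' : ∀ b i j, R' b i → (R' b j ↔ r i j))
    (hcard : ∀ i, Nat.card {a // R a i} = Nat.card {b // R' b i}) : Nat.card A = Nat.card B := by
  classical
  let s : Setoid I := ⟨r, hr⟩
  choose fA hfA using hA
  choose fB hfB using hB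
  have e : ∀ q : Quotient s, Nonempty
      ({a // Quotient.mk s (fA a) = q} ≃ {b // Quotient.mk s (fB b) = q}) := by
    intro q
    induction q using Quotient.inductionOn with
    | h i =>
      have ea : ∀ a, Quotient.mk s (fA a) = Quotient.mk s i ↔ R a i :=
        fun a => Quotient.eq.trans (hA' a (fA a) i (hfA a)).symm
      have eb : ∀ b, Quotient.mk s (fB b) = Quotient.mk s i ↔ R' b i :=
        fun b => Quotient.eq.trans (hB' b (fB b) i (hfB b)).symm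
      refine Finite.card_eq.mp ?_
      rw [Nat.card_congr (Equiv.subtypeEquivRight ea), Nat.card_congr (Equiv.subtypeEquivRight eb)]
      exact hcard i
  exact Nat.card_congr (((Equiv.sigmaFiberEquiv fun a => Quotient.mk s (fA a)).symm).trans
    ((Equiv.sigmaCongrRight fun q => (e q).some).trans
      (Equiv.sigmaFiberEquiv fun b => Quotient.mk s (fB b))))

theorem exists_conj_le {p : ℕ} (hp : p.Prime) {M T S : Subgroup Γ} (hS : IsPGroup p S)
    (hSM : S ≤ M) (hidx : ¬ p ∣ T.relIndex M) :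
    ∃ g ∈ M, ∀ s ∈ S, g * s * g⁻¹ ∈ T := by
  haveI := Fact.mk hp
  have hS' : IsPGroup p (S.subgroupOf M) := hS.comap_subtype
  obtain ⟨q, hq⟩ := hS'.nonempty_fixed_point_of_prime_not_dvd_card (M ⧸ T.subgroupOf M)
    (by rwa [← Subgroup.index_eq_card])
  induction q using QuotientGroup.induction_on with
  | H g =>
    refine ⟨(g : Γ)⁻¹, inv_mem g.2, fun s hs => ?_⟩
    have h1 := hq ⟨⟨s, hSM hs⟩, hs⟩
    have h2 : (⟨s, hSM hs⟩ : M) • (QuotientGroup.mk g : M ⧸ T.subgroupOf M) = QuotientGroup.mk g := h1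
    rw [MulAction.Quotient.smul_mk, smul_eq_mul, QuotientGroup.eq, Subgroup.mem_subgroupOf] at h2
    simp only [Subgroup.coe_mul, Subgroup.coe_inv] at h2
    have h3 := T.inv_mem h2
    rw [inv_inv]
    simpa [mul_assoc] using h3

theorem mem_normalizer_of_conj {S : Subgroup Γ} {x : Γ} (h : ∀ s ∈ S, x * s * x⁻¹ ∈ S) :
    x ∈ Subgroup.normalizer (S : Set Γ) := by
  refine Subgroup.mem_normalizer_iff.mpr fun z => ⟨h z, fun hz => ?_⟩
  have hinj : Function.Injective (fun a : S => (⟨x * a * x⁻¹, h a a.2⟩ : S)) := fun a b e =>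
    Subtype.ext (mul_left_cancel (mul_right_cancel (congrArg Subtype.val e)))
  obtain ⟨a, ha⟩ := (Finite.injective_iff_surjective.mp hinj) ⟨_, hz⟩
  have := mul_left_cancel (mul_right_cancel (congrArg Subtype.val ha))
  exact this ▸ a.2

theorem not_dvd_relIndex_of_le {p : ℕ} {S A M : Subgroup Γ} (hSA : S ≤ A) (hAM : A ≤ M)
    (h : ¬ p ∣ S.relIndex M) : ¬ p ∣ S.relIndex A ∧ ¬ p ∣ A.relIndex M := by
  rw [← Subgroup.relIndex_mul_relIndex S A M hSA hAM] at h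
  exact ⟨fun hd => h (hd.mul_right _), fun hd => h (hd.mul_left _)⟩

theorem mem_normalizer_sup_of {A B : Subgroup Γ} {y : Γ} (hA : y ∈ Subgroup.normalizer (A : Set Γ))
    (hB : y ∈ Subgroup.normalizer (B : Set Γ)) :
    y ∈ Subgroup.normalizer ((A ⊔ B : Subgroup Γ) : Set Γ) := by
  refine mem_normalizer_of_conj fun z hz => ?_
  have hle : A ⊔ B ≤ (A ⊔ B).comap (MulAut.conj y).toMonoidHom :=
    sup_le (fun a ha => Subgroup.mem_sup_left ((Subgroup.mem_normalizer_iff.mp hA a).mp ha))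
      (fun b hb => Subgroup.mem_sup_right ((Subgroup.mem_normalizer_iff.mp hB b).mp hb))
  exact hle hz

variable {p : ℕ} {L K M P S : Subgroup Γ} {ν : IrrCharacter L}

/-- A character of degree prime to `p` has an invariant constituent. -/
theorem exists_inv_constituent (hp : p.Prime) (hS : IsPGroup p S) (hSM : S ≤ M) (hP : P = L ⊔ S)
    (hLK : L ≤ K) (hKM : K ≤ M) (hML : M ≤ Subgroup.normalizer (L : Set Γ))
    (hMK : M ≤ Subgroup.normalizer (K : Set Γ)) (hν : Inv L M (ν : L → ℂ))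
    (χ : Above p (hLK.trans hKM) (ν : L → ℂ)) :
    ∃ θ : IrrCharacter K, ¬ p ∣ charDegree (θ : K → ℂ) ∧ Over hLK (θ : K → ℂ) (ν : L → ℂ) ∧
      Inv K P (θ : K → ℂ) ∧ Over hKM (χ.1 : M → ℂ) (θ : K → ℂ) := by
  obtain ⟨θ, hθ, hθν⟩ := (over_mid hLK hKM (isCharacter_of_isIrr χ.1.2)
    (isCharacter_of_isIrr ν.2)).mp χ.2.2
  set T := stab hMK (θ : K → ℂ) with hT
  have hKT : K ≤ T := le_stab hKM (isClassFunction_of_isCharacter (isCharacter_of_isIrr θ.2))
  have hidx : ¬ p ∣ T.relIndex M := by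
    intro hd
    have e := card_clifford hKM hMK θ hT hKT (fun n => n = charDegree (χ.1 : M → ℂ))
    have hne : Nonempty {ψ : IrrCharacter M //
        charDegree (ψ : M → ℂ) = charDegree (χ.1 : M → ℂ) ∧ Over hKM (ψ : M → ℂ) (θ : K → ℂ)} :=
      ⟨⟨χ.1, rfl, hθ⟩⟩
    have hne' : Nat.card {ψ : IrrCharacter T // T.relIndex M * charDegree (ψ : T → ℂ) =
        charDegree (χ.1 : M → ℂ) ∧ Over hKT (ψ : T → ℂ) (θ : K → ℂ)} ≠ 0 := e ▸ Nat.card_pos.ne'
    obtain ⟨⟨ψ, hψ⟩⟩ := (Nat.card_ne_zero.mp hne').1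
    exact χ.2.1 (hψ.1 ▸ hd.mul_right _)
  obtain ⟨g, hg, hgS⟩ := exists_conj_le hp hS hSM hidx
  refine ⟨conjChar θ (hMK hg), ?_, ?_, ?_, ?_⟩
  · rw [charDegree_conjChar]
    intro hd
    obtain ⟨k, hk, -⟩ := degree_ratio' hKM hMK χ.1.2 θ.2 hθ
    exact χ.2.1 (hk ▸ hd.mul_left _)
  · have h1 : conjChar ν (hML hg) = ν := (fixes_iff_conjChar _).mp (hν g hg)
    rw [← h1]
    exact (over_conjChar_iff hLK (hMK hg) (hML hg) θ ν).mpr hθν
  · have hcl := isClassFunction_of_isCharacter (isCharacter_of_isIrr (conjChar θ (hMK hg)).2)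
    rw [hP]
    refine (inv_sup_of_le hLK (hSM.trans hMK) hcl).mpr fun s hs a b e => ?_
    exact (mem_stab.mp (hgS s hs)).2 (conjEquiv (hMK hg) a) (conjEquiv (hMK hg) b)
      (by simp [e, mul_assoc])
  · unfold Over
    rw [classInner_res_conj hKM (isClassFunction_of_isCharacter (isCharacter_of_isIrr χ.1.2)) hg]
    exact hθ

/-- Invariant constituents are conjugate under the normaliser of `P`. -/
theorem conj_of_inv_constituents (hp : p.Prime) (hS : IsPGroup p S) (hSM : S ≤ M)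
    (hidx : ¬ p ∣ S.relIndex M) (hP : P = L ⊔ S) (hKM : K ≤ M)
    (hML : M ≤ Subgroup.normalizer (L : Set Γ)) (hMK : M ≤ Subgroup.normalizer (K : Set Γ))
    {χ : IrrCharacter M} {θ θ' : IrrCharacter K} (hθ : Over hKM (χ : M → ℂ) (θ : K → ℂ))
    (hθ' : Over hKM (χ : M → ℂ) (θ' : K → ℂ)) (hi : Inv K P (θ : K → ℂ))
    (hi' : Inv K P (θ' : K → ℂ)) :
    ∃ (n : Γ) (hn : n ∈ M ⊓ Subgroup.normalizer (P : Set Γ)), conjChar θ (hMK hn.1) = θ' := by
  obtain ⟨g, hg, e⟩ := exists_conj_of_over hKM hMK χ.2 hθ hθ'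
  have hSP : S ≤ P := hP ▸ le_sup_right
  set T := stab hMK (θ' : K → ℂ)
  have hST : S ≤ T := fun s hs => ⟨hSM hs, hi' s (hSP hs)⟩
  have hgs : ∀ s ∈ S, g⁻¹ * s * g ∈ T := fun s hs => by
    refine ⟨mul_mem (mul_mem (inv_mem hg) (hSM hs)) hg, ?_⟩
    intro a b eab
    rw [← e]
    exact hi s (hSP hs) (conjEquiv (hMK hg) a) (conjEquiv (hMK hg) b)
      (by simp [eab, mul_assoc])
  set S₂ := S.map (MulAut.conj g⁻¹).toMonoidHom with hS₂
  have hS₂T : S₂ ≤ T := by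
    rintro _ ⟨s, hs, rfl⟩
    simpa using hgs s hs
  obtain ⟨t, ht, hts⟩ := exists_conj_le hp (hS.map (MulAut.conj g⁻¹).toMonoidHom) hS₂T
    (not_dvd_relIndex_of_le hST stab_le hidx).1
  have hn : g * t⁻¹ ∈ Subgroup.normalizer (S : Set Γ) := by
    have : (g * t⁻¹)⁻¹ ∈ Subgroup.normalizer (S : Set Γ) := mem_normalizer_of_conj fun s hs => by
      have h := hts (g⁻¹ * s * g) ⟨s, hs, by simp⟩
      simpa [mul_assoc] using h
    simpa using inv_mem this
  have hnM : g * t⁻¹ ∈ M := mul_mem hg (inv_mem (stab_le ht))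
  refine ⟨g * t⁻¹, ⟨hnM, hP ▸ mem_normalizer_sup_of (hML hnM) hn⟩, ?_⟩
  rw [← conjChar_mul θ (hMK hg) (hMK (inv_mem (stab_le ht))), e]
  exact (fixes_iff_conjChar _).mp (mem_stab.mp ht).2.inv

theorem conjRel_equivalence {N : Subgroup Γ} (hNK : N ≤ Subgroup.normalizer (K : Set Γ))
    (Q : IrrCharacter K → Prop) :
    Equivalence fun i j : {θ : IrrCharacter K // Q θ} =>
      ∃ (n : Γ) (hn : n ∈ N), conjChar i.1 (hNK hn) = j.1 where
  refl i := ⟨1, N.one_mem, conjChar_one _ _⟩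
  symm := fun {i j} ⟨n, hn, e⟩ => ⟨n⁻¹, N.inv_mem hn, by
    rw [← e, conjChar_mul]
    exact Subtype.ext (funext fun a => congrArg (i.1 : K → ℂ) (Subtype.ext (by simp)))⟩
  trans := fun {i j k} ⟨n, hn, e⟩ ⟨m, hm, e'⟩ => ⟨n * m, N.mul_mem hn hm, by
    rw [← e', ← e, conjChar_mul]⟩

theorem card_subtype_over (hLK : L ≤ K) (hKM : K ≤ M) {θ : IrrCharacter K}
    (hθν : Over hLK (θ : K → ℂ) (ν : L → ℂ)) :
    Nat.card {χ : Above p (hLK.trans hKM) (ν : L → ℂ) // Over hKM (χ.1 : M → ℂ) (θ : K → ℂ)} =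
      Nat.card (Above p hKM (θ : K → ℂ)) :=
  Nat.card_congr
    { toFun := fun χ => ⟨χ.1.1, χ.1.2.1, χ.2⟩
      invFun := fun χ => ⟨⟨χ.1, χ.2.1, (over_mid hLK hKM (isCharacter_of_isIrr χ.1.2)
        (isCharacter_of_isIrr ν.2)).mpr ⟨θ, χ.2.2, hθν⟩⟩, χ.2.2⟩
      left_inv := fun χ => rfl
      right_inv := fun χ => rfl }

/-- Counts in two groups with the same normaliser of `P` agree when they agree above every
invariant character of `K`. -/
theorem card_above_eq (hp : p.Prime) (hS : IsPGroup p S) (hP : P = L ⊔ S) (hLK : L ≤ K)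
    {M₁ M₂ : Subgroup Γ} (h₂ : M₂ ≤ M₁) (hS₂ : S ≤ M₂) (hK₂ : K ≤ M₂)
    (hidx : ¬ p ∣ S.relIndex M₁) (hML : M₁ ≤ Subgroup.normalizer (L : Set Γ))
    (hMK : M₁ ≤ Subgroup.normalizer (K : Set Γ)) (hν : Inv L M₁ (ν : L → ℂ))
    (hN : M₁ ⊓ Subgroup.normalizer (P : Set Γ) ≤ M₂)
    (hcard : ∀ θ : IrrCharacter K, ¬ p ∣ charDegree (θ : K → ℂ) → Over hLK (θ : K → ℂ) (ν : L → ℂ) →
      Inv K P (θ : K → ℂ) →
      Nat.card (Above p (hK₂.trans h₂) (θ : K → ℂ)) = Nat.card (Above p hK₂ (θ : K → ℂ))) :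
    Nat.card (Above p ((hLK.trans hK₂).trans h₂) (ν : L → ℂ)) =
      Nat.card (Above p (hLK.trans hK₂) (ν : L → ℂ)) := by
  set N := M₁ ⊓ Subgroup.normalizer (P : Set Γ)
  have hNK : N ≤ Subgroup.normalizer (K : Set Γ) := inf_le_left.trans hMK
  set Q : IrrCharacter K → Prop := fun θ =>
    ¬ p ∣ charDegree (θ : K → ℂ) ∧ Over hLK (θ : K → ℂ) (ν : L → ℂ) ∧ Inv K P (θ : K → ℂ)
  have side : ∀ (Mx : Subgroup Γ) (hx : Mx ≤ M₁) (hSx : S ≤ Mx) (hKx : K ≤ Mx) (hNx : N ≤ Mx),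
      (∀ a : Above p (hLK.trans hKx) (ν : L → ℂ),
        ∃ i : {θ // Q θ}, Over hKx (a.1 : Mx → ℂ) (i.1 : K → ℂ)) ∧
      ∀ (a : Above p (hLK.trans hKx) (ν : L → ℂ)) (i j : {θ // Q θ}),
        Over hKx (a.1 : Mx → ℂ) (i.1 : K → ℂ) → (Over hKx (a.1 : Mx → ℂ) (j.1 : K → ℂ) ↔
          ∃ (n : Γ) (hn : n ∈ N), conjChar i.1 (hNK hn) = j.1) := by
    intro Mx hx hSx hKx hNx
    refine ⟨fun a => ?_, fun a i j hi => ⟨fun hj => ?_, ?_⟩⟩
    · obtain ⟨θ, h1, h2, h3, h4⟩ := exists_inv_constituent hp hS hSx hP hLK hKx (hx.trans hML)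
        (hx.trans hMK) (inv_mono hx hν) a
      exact ⟨⟨θ, h1, h2, h3⟩, h4⟩
    · have hidx' : ¬ p ∣ S.relIndex Mx := (not_dvd_relIndex_of_le hSx hx hidx).1
      obtain ⟨n, hn, e⟩ := conj_of_inv_constituents hp hS hSx hidx' hP hKx (hx.trans hML)
        (hx.trans hMK) hi hj i.2.2.2 j.2.2.2
      exact ⟨n, ⟨hx hn.1, hn.2⟩, e⟩
    · rintro ⟨n, hn, e⟩
      unfold Over
      rw [← e, classInner_res_conj hKx
        (isClassFunction_of_isCharacter (isCharacter_of_isIrr a.1.2)) (hNx hn) (hNK hn)]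
      exact hi
  obtain ⟨hA, hA'⟩ := side M₁ le_rfl (hS₂.trans h₂) (hK₂.trans h₂) inf_le_left
  obtain ⟨hB, hB'⟩ := side M₂ h₂ hS₂ hK₂ hN
  refine card_eq_of_fibres _ (conjRel_equivalence hNK Q) _ _ hA hA' hB hB' fun i => ?_
  rw [card_subtype_over hLK (hK₂.trans h₂) i.2.2.1, card_subtype_over hLK hK₂ i.2.2.1]
  exact hcard i.1 i.2.1 i.2.2.1 i.2.2.2

end CfsgLib.Char.RelMcKay
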