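import Cfsg.Agent.Lib.Coprime.Action

/-!
# An irreducible layer on which one of two elements acts trivially

`P/L` is a `p`-group on which two elements with commuting actions act. A minimal invariant
subgroup of the centre of `P/P₀` is acted on through a finite field, so a change of generators
makes one of the two elements centralise it.
-/

set_option autoImplicit false
set_option linter.style.haveILetI false

open scoped Pointwise

namespace CfsgLib.Char.RelMcKay

variable {Γ : Type*} [Group Γ]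

theorem euclid {M : Type*} [Group M] (N : Subgroup Γ) (φ : N →* M) (g : M) (Cs : Subgroup Γ) :
    ∀ (j i : ℕ) (x y : Γ) (hx : x ∈ N) (hy : y ∈ N),
      φ ⟨x, hx⟩ = g ^ i → φ ⟨y, hy⟩ = g ^ j → y * x * y⁻¹ * x⁻¹ ∈ Cs →
      ∃ (x' y' : Γ) (_ : x' ∈ N) (hy' : y' ∈ N),
        Subgroup.zpowers x' ⊔ Subgroup.zpowers y' = Subgroup.zpowers x ⊔ Subgroup.zpowers y ∧
        y' * x' * y'⁻¹ * x'⁻¹ ∈ Cs ∧ φ ⟨y', hy'⟩ = 1 := by
  intro j
  induction j using Nat.strong_induction_on with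
  | _ j ih =>
  intro i x y hx hy ex ey hc
  rcases Nat.eq_zero_or_pos j with rfl | hj
  · exact ⟨x, y, hx, hy, rfl, hc, by rw [ey, pow_zero]⟩
  set q := i / j with hq
  have hy2 : x * (y ^ q)⁻¹ ∈ N := mul_mem hx (inv_mem (pow_mem hy q))
  have e : φ ⟨x * (y ^ q)⁻¹, hy2⟩ = g ^ (i % j) := by
    have : (⟨x * (y ^ q)⁻¹, hy2⟩ : N) = ⟨x, hx⟩ * ((⟨y, hy⟩ : N) ^ q)⁻¹ := Subtype.ext (by simp)
    rw [this, map_mul, map_inv, map_pow, ex, ey, ← pow_mul, mul_inv_eq_iff_eq_mul, ← pow_add,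
      Nat.mod_add_div]
  obtain ⟨x', y', hx', hy', hsup, hc', he⟩ := ih (i % j) (Nat.mod_lt _ hj) j y (x * (y ^ q)⁻¹) hy hy2
    ey e (by
      rw [show x * (y ^ q)⁻¹ * y * (x * (y ^ q)⁻¹)⁻¹ * y⁻¹ = (y * x * y⁻¹ * x⁻¹)⁻¹ by
        rw [mul_inv_rev, inv_inv, ← mul_assoc, mul_assoc x (y ^ q)⁻¹ y, mul_assoc x,
          show (y ^ q)⁻¹ * y * y ^ q = y by
            rw [((Commute.refl y).pow_left q).inv_left.eq, mul_assoc, inv_mul_cancel, mul_one]]
        group]
      exact inv_mem hc)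
  refine ⟨x', y', hx', hy', hsup.trans ?_, hc', he⟩
  refine le_antisymm (sup_le le_sup_right ?_) (sup_le ?_ le_sup_left)
  · exact Subgroup.zpowers_le.mpr (mul_mem (Subgroup.mem_sup_left (Subgroup.mem_zpowers x))
      (inv_mem (Subgroup.mem_sup_right (Subgroup.pow_mem _ (Subgroup.mem_zpowers y) q))))
  · refine Subgroup.zpowers_le.mpr ?_
    have h := mul_mem
      (Subgroup.mem_sup_right (S := Subgroup.zpowers y) (Subgroup.mem_zpowers (x * (y ^ q)⁻¹)))
      (Subgroup.mem_sup_left (Subgroup.pow_mem _ (Subgroup.mem_zpowers y) q))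
    rwa [inv_mul_cancel_right] at h

/-- The action of two commuting endomorphisms without common invariant subgroups goes through a
cyclic group. -/
theorem exists_cyclic_of_irreducible {A : Type*} [AddCommGroup A] [Finite A] [Nontrivial A]
    (a b : (AddMonoid.End A)ˣ) (hab : (a : AddMonoid.End A) * b = b * a)
    (hirr : ∀ B : AddSubgroup A, (∀ v ∈ B, (a : AddMonoid.End A) v ∈ B) →
      (∀ v ∈ B, (b : AddMonoid.End A) v ∈ B) → B = ⊥ ∨ B = ⊤) :
    ∃ (g : (AddMonoid.End A)ˣ) (i j : ℕ), a = g ^ i ∧ b = g ^ j := by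
  set R : Subring (AddMonoid.End A) := Subring.closure {(a : AddMonoid.End A), (b : AddMonoid.End A)}
  have hca : ∀ r ∈ R, Commute (a : AddMonoid.End A) r := fun r hr => by
    induction hr using Subring.closure_induction with
    | mem x hx =>
      rcases hx with rfl | rfl
      · exact Commute.refl _
      · exact hab
    | zero => exact Commute.zero_right _
    | one => exact Commute.one_right _
    | add x y _ _ hx hy => exact hx.add_right hy
    | neg x _ hx => exact hx.neg_right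
    | mul x y _ _ hx hy => exact hx.mul_right hy
  have hcb : ∀ r ∈ R, Commute (b : AddMonoid.End A) r := fun r hr => by
    induction hr using Subring.closure_induction with
    | mem x hx =>
      rcases hx with rfl | rfl
      · exact hab.symm
      · exact Commute.refl _
    | zero => exact Commute.zero_right _
    | one => exact Commute.one_right _
    | add x y _ _ hx hy => exact hx.add_right hy
    | neg x _ hx => exact hx.neg_right
    | mul x y _ _ hx hy => exact hx.mul_right hy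
  have hinj : ∀ r ∈ R, r ≠ 0 → Function.Injective r := by
    intro r hr hne
    refine (injective_iff_map_eq_zero r).mpr fun v hv => ?_
    rcases hirr (AddMonoidHom.ker r)
      (fun w hw => by
        have h1 := DFunLike.congr_fun (hca r hr).eq w
        simp only [AddMonoid.End.coe_mul, Function.comp_apply] at h1
        have hw' : r w = 0 := hw
        show r _ = 0
        rw [← h1, hw', map_zero])
      (fun w hw => by
        have h1 := DFunLike.congr_fun (hcb r hr).eq w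
        simp only [AddMonoid.End.coe_mul, Function.comp_apply] at h1
        have hw' : r w = 0 := hw
        show r _ = 0
        rw [← h1, hw', map_zero]) with h | h
    · have : v ∈ AddMonoidHom.ker r := hv
      rwa [h, AddSubgroup.mem_bot] at this
    · exact absurd (DFunLike.ext r 0 fun w => by
        have : w ∈ AddMonoidHom.ker r := h ▸ AddSubgroup.mem_top w
        exact this) hne
  haveI : NoZeroDivisors R := ⟨fun {r s} h => by
    by_contra hc
    push Not at hc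
    have hr : (r : AddMonoid.End A) ≠ 0 := fun e => hc.1 (Subtype.ext e)
    refine hc.2 (Subtype.ext (DFunLike.ext _ _ fun w => hinj r r.2 hr ?_))
    have h1 := DFunLike.congr_fun (congrArg Subtype.val h) w
    simpa using h1⟩
  haveI : Nontrivial R := ⟨⟨0, 1, fun e => by
    obtain ⟨v, hv⟩ := exists_ne (0 : A)
    exact hv (DFunLike.congr_fun (congrArg Subtype.val e) v).symm⟩⟩
  haveI : IsDomain R := NoZeroDivisors.to_isDomain R
  haveI : IsMulCommutative R := Subring.isMulCommutative_closure (fun x hx y hy => by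
    rcases hx with rfl | rfl <;> rcases hy with rfl | rfl
    · rfl
    · exact hab
    · exact hab.symm
    · rfl)
  letI : CommRing R := { (inferInstance : Ring R) with mul_comm := fun a b => IsMulCommutative.is_comm.comm a b }
  haveI : Finite (AddMonoid.End A) := DFunLike.finite _
  haveI : IsDomain R := NoZeroDivisors.to_isDomain R
  -- units of `R`
  have hu : ∀ u : (AddMonoid.End A)ˣ, (u : AddMonoid.End A) ∈ R →
      ∃ v : Rˣ, Units.map R.subtype.toMonoidHom v = u := by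
    intro u hu
    have hmem : ((u ^ (orderOf u - 1) : (AddMonoid.End A)ˣ) : AddMonoid.End A) ∈ R := by
      rw [Units.val_pow_eq_pow_val]; exact pow_mem hu _
    have he : u * u ^ (orderOf u - 1) = 1 := by
      rw [← pow_succ', Nat.sub_add_cancel (orderOf_pos u), pow_orderOf_eq_one]
    refine ⟨⟨⟨_, hu⟩, ⟨_, hmem⟩, Subtype.ext (congrArg Units.val he), Subtype.ext ?_⟩,
      Units.ext rfl⟩
    have he' : u ^ (orderOf u - 1) * u = 1 := by
      rw [← pow_succ, Nat.sub_add_cancel (orderOf_pos u), pow_orderOf_eq_one]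
    exact congrArg Units.val he'
  obtain ⟨va, hva⟩ := hu a (Subring.subset_closure (Or.inl rfl))
  obtain ⟨vb, hvb⟩ := hu b (Subring.subset_closure (Or.inr rfl))
  haveI : IsCyclic Rˣ := instIsCyclicUnitsOfFinite
  obtain ⟨g, hg⟩ := IsCyclic.exists_monoid_generator (α := Rˣ)
  obtain ⟨i, hi⟩ := Submonoid.mem_powers_iff _ _ |>.mp (hg va)
  obtain ⟨j, hj⟩ := Submonoid.mem_powers_iff _ _ |>.mp (hg vb)
  exact ⟨Units.map R.subtype.toMonoidHom g, i, j, by rw [← map_pow, hi, hva],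
    by rw [← map_pow, hj, hvb]⟩

theorem normal_of_invariant [Finite Γ] {P : Subgroup Γ} {x y : Γ}
    (htop : P ⊔ Subgroup.zpowers x ⊔ Subgroup.zpowers y = ⊤) {U : Subgroup Γ}
    (hP : P ≤ Subgroup.centralizer (U : Set Γ)) (hx : ∀ u ∈ U, x * u * x⁻¹ ∈ U)
    (hy : ∀ u ∈ U, y * u * y⁻¹ ∈ U) : U.Normal := by
  have key : ∀ z : Γ, (∀ u ∈ U, z * u * z⁻¹ ∈ U) → z ∈ Subgroup.normalizer (U : Set Γ) := by
    intro z hz
    refine Subgroup.mem_normalizer_iff.mpr fun u => ⟨hz u, fun hu => ?_⟩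
    have hinj : Function.Injective (fun a : U => (⟨z * a * z⁻¹, hz a a.2⟩ : U)) := fun a c e =>
      Subtype.ext (mul_left_cancel (mul_right_cancel (congrArg Subtype.val e)))
    obtain ⟨a, ha⟩ := (Finite.injective_iff_surjective.mp hinj) ⟨_, hu⟩
    have := mul_left_cancel (mul_right_cancel (congrArg Subtype.val ha))
    exact this ▸ a.2
  refine ⟨fun u hu g => ?_⟩
  have hg : g ∈ Subgroup.normalizer (U : Set Γ) := by
    have hle : P ⊔ Subgroup.zpowers x ⊔ Subgroup.zpowers y ≤ Subgroup.normalizer (U : Set Γ) :=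
      sup_le (sup_le (fun z hz => key z fun v hv => by
        rw [show z * v * z⁻¹ = v by rw [← (hP hz) v hv, mul_inv_cancel_right]]
        exact hv) (Subgroup.zpowers_le.mpr (key x hx))) (Subgroup.zpowers_le.mpr (key y hy))
    exact hle (htop ▸ Subgroup.mem_top g)
  exact (Subgroup.mem_normalizer_iff.mp hg u).mp hu

/-- In `W = P⟨x, y⟩` with `P` a nontrivial normal `p`-group and commuting actions of `x` and `y`
on `P`, a change of generators centralises a nontrivial central normal subgroup inside `P`. -/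
theorem exists_min_layer [Finite Γ] {p : ℕ} [Fact p.Prime] {P : Subgroup Γ} [P.Normal] (hne : P ≠ ⊥)
    (hp : IsPGroup p P) {x y : Γ} (htop : P ⊔ Subgroup.zpowers x ⊔ Subgroup.zpowers y = ⊤)
    (hc : y * x * y⁻¹ * x⁻¹ ∈ Subgroup.centralizer (P : Set Γ)) :
    ∃ (V : Subgroup Γ) (g : (AddMonoid.End (Additive V))ˣ) (φ : Γ →* (AddMonoid.End (Additive V))ˣ)
      (i j : ℕ), V.Normal ∧ V ≠ ⊥ ∧ V ≤ P ∧ φ x = g ^ i ∧ φ y = g ^ j ∧
      ∀ z, φ z = 1 → ∀ v ∈ V, z * v * z⁻¹ = v := by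
  haveI : Nontrivial P := (Subgroup.nontrivial_iff_ne_bot P).mpr hne
  haveI : Nontrivial (Subgroup.center P) := hp.center_nontrivial
  set Z := (Subgroup.center P).map P.subtype with hZ
  have hZP : Z ≤ P := Subgroup.map_subtype_le _
  have hZc : P ≤ Subgroup.centralizer (Z : Set Γ) := by
    rintro z hz _ ⟨w, hw, rfl⟩
    exact congrArg Subtype.val ((Subgroup.mem_center_iff.mp hw ⟨z, hz⟩).symm)
  have hZn : Z.Normal := by
    refine ⟨fun u hu g => ?_⟩
    obtain ⟨w, hw, rfl⟩ := hu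
    refine ⟨⟨g * w * g⁻¹, Subgroup.Normal.conj_mem inferInstance (w : Γ) w.2 g⟩, ?_, rfl⟩
    refine Subgroup.mem_center_iff.mpr fun v => Subtype.ext ?_
    show (v : Γ) * (g * w * g⁻¹) = g * w * g⁻¹ * v
    have h1 := congrArg Subtype.val (Subgroup.mem_center_iff.mp hw
      ⟨g⁻¹ * v * g⁻¹⁻¹, Subgroup.Normal.conj_mem inferInstance (v : Γ) v.2 g⁻¹⟩)
    simp only [Subgroup.coe_mul, inv_inv] at h1
    calc (v : Γ) * (g * w * g⁻¹) = g * (g⁻¹ * v * g * w) * g⁻¹ := by group
      _ = g * (w * (g⁻¹ * v * g)) * g⁻¹ := by rw [h1]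
      _ = g * w * g⁻¹ * v := by group
  have hZne : Z ≠ ⊥ := by
    intro e
    rw [hZ, Subgroup.map_eq_bot_iff_of_injective _ P.subtype_injective] at e
    exact (Subgroup.nontrivial_iff_ne_bot _).mp inferInstance e
  obtain ⟨V, hV⟩ := exists_minimal_of_wellFoundedLT
    (fun U : Subgroup Γ => U.Normal ∧ U ≠ ⊥ ∧ U ≤ Z) ⟨Z, hZn, hZne, le_rfl⟩
  obtain ⟨hVn, hVne, hVZ⟩ := hV.prop
  haveI := hVn
  haveI : IsMulCommutative V := ⟨⟨fun a b => Subtype.ext
    ((hZc (hVZ.trans hZP a.2)) b (hVZ b.2)).symm⟩⟩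
  haveI : Nontrivial V := (Subgroup.nontrivial_iff_ne_bot V).mpr hVne
  letI : CommGroup V := IsMulCommutative.instCommGroup
  let φ : Γ →* (AddMonoid.End (Additive V))ˣ :=
    MonoidHom.toHomUnits
      { toFun := fun z => MonoidHom.toAdditive (MulAut.conjNormal z : V ≃* V).toMonoidHom
        map_one' := AddMonoidHom.ext fun v => by
          show Additive.ofMul (MulAut.conjNormal (1 : Γ) (Additive.toMul v)) = v
          simp
        map_mul' := fun a b => AddMonoidHom.ext fun v => by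
          show Additive.ofMul (MulAut.conjNormal (a * b) (Additive.toMul v)) =
            Additive.ofMul (MulAut.conjNormal a (MulAut.conjNormal b (Additive.toMul v)))
          simp }
  have happ : ∀ z (v : V),
      (((φ z : (AddMonoid.End (Additive V))ˣ) : AddMonoid.End (Additive V)) (Additive.ofMul v)) =
        Additive.ofMul (MulAut.conjNormal z v) := fun z v => rfl
  have htriv : ∀ z, φ z = 1 → ∀ v ∈ V, z * v * z⁻¹ = v := by
    intro z hz v hv
    have h := happ z ⟨v, hv⟩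
    rw [hz] at h
    have h' : (⟨v, hv⟩ : V) = MulAut.conjNormal z ⟨v, hv⟩ := Additive.ofMul.injective h
    exact (congrArg Subtype.val h').symm
  have hcomm : φ (y * x * y⁻¹ * x⁻¹) = 1 := by
    refine Units.ext (AddMonoidHom.ext fun v => ?_)
    obtain ⟨w, rfl⟩ := Additive.ofMul.surjective v
    refine (happ _ w).trans (congrArg Additive.ofMul (Subtype.ext ?_))
    rw [MulAut.conjNormal_apply]
    rw [show (y * x * y⁻¹ * x⁻¹) * (w : Γ) = w * (y * x * y⁻¹ * x⁻¹) from
      ((hc (w : Γ) (hZP (hVZ w.2)))).symm]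
    group
  have hab : φ x * φ y = φ y * φ x := by
    rw [map_mul, map_mul, map_mul, map_inv, map_inv, mul_inv_eq_one, mul_inv_eq_iff_eq_mul] at hcomm
    exact hcomm.symm
  obtain ⟨g, i, j, hi, hj⟩ := exists_cyclic_of_irreducible (φ x) (φ y)
    (congrArg Units.val hab) (fun B hBx hBy => by
      set U : Subgroup V := AddSubgroup.toSubgroup' B with hU
      have hmem : ∀ v : V, v ∈ U ↔ Additive.ofMul v ∈ B := fun v => Iff.rfl
      have hn : (U.map V.subtype).Normal := by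
        refine normal_of_invariant htop (fun z hz => ?_) ?_ ?_
        · exact Subgroup.centralizer_le
            (SetLike.coe_subset_coe.mpr ((Subgroup.map_subtype_le U).trans hVZ)) (hZc hz)
        · rintro _ ⟨v, hv, rfl⟩
          exact ⟨MulAut.conjNormal x v, (hmem _).mpr (happ x v ▸ hBx _ ((hmem v).mp hv)), rfl⟩
        · rintro _ ⟨v, hv, rfl⟩
          exact ⟨MulAut.conjNormal y v, (hmem _).mpr (happ y v ▸ hBy _ ((hmem v).mp hv)), rfl⟩
      by_cases hbot : U = ⊥
      · left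
        refine (AddSubgroup.eq_bot_iff_forall B).mpr fun v hv => ?_
        have h1 : Additive.toMul v ∈ U := hv
        rw [hbot, Subgroup.mem_bot] at h1
        exact h1
      · right
        have hle := hV.le_of_le ⟨hn, fun e => hbot
          ((Subgroup.map_eq_bot_iff_of_injective _ V.subtype_injective).mp e),
          (Subgroup.map_subtype_le U).trans hVZ⟩ (Subgroup.map_subtype_le U)
        refine (AddSubgroup.eq_top_iff' B).mpr fun v => ?_
        obtain ⟨w, hw, e⟩ := hle (Additive.toMul v).2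
        have : w = Additive.toMul v := Subtype.ext e
        rw [this] at hw
        exact hw)
  exact ⟨V, g, φ, i, j, hVn, hVne, hVZ.trans hZP, hi, hj, htriv⟩

/-- The layer. -/
theorem exists_layer [Finite Γ] {p : ℕ} [Fact p.Prime] {L P P₀ S Cs : Subgroup Γ} {x y : Γ}
    (hS : IsPGroup p S) (hP : P = L ⊔ S) (hLP₀ : L ≤ P₀) (hP₀ : P₀ ≤ P) (hne : P₀ ≠ P)
    (hPn : P ≤ Subgroup.normalizer (P₀ : Set Γ))
    (hx : x ∈ Subgroup.normalizer (P : Set Γ)) (hy : y ∈ Subgroup.normalizer (P : Set Γ))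
    (hx₀ : x ∈ Subgroup.normalizer (P₀ : Set Γ)) (hy₀ : y ∈ Subgroup.normalizer (P₀ : Set Γ))
    (hCs : ∀ c ∈ Cs, ∀ z ∈ P, z * c * z⁻¹ * c⁻¹ ∈ P₀) (hc : y * x * y⁻¹ * x⁻¹ ∈ Cs) :
    ∃ (Z : Subgroup Γ) (x' y' : Γ), P₀ ≤ Z ∧ Z ≠ P₀ ∧ Z ≤ P ∧
      P ⊔ Subgroup.zpowers x ⊔ Subgroup.zpowers y ≤ Subgroup.normalizer (Z : Set Γ) ∧
      Subgroup.zpowers x' ⊔ Subgroup.zpowers y' = Subgroup.zpowers x ⊔ Subgroup.zpowers y ∧
      y' * x' * y'⁻¹ * x'⁻¹ ∈ Cs ∧ ∀ z ∈ Z, y' * z * y'⁻¹ * z⁻¹ ∈ P₀ := by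
  set W := P ⊔ Subgroup.zpowers x ⊔ Subgroup.zpowers y with hW
  have hWn : W ≤ Subgroup.normalizer (P₀ : Set Γ) :=
    sup_le (sup_le hPn (Subgroup.zpowers_le.mpr hx₀)) (Subgroup.zpowers_le.mpr hy₀)
  have hWP : W ≤ Subgroup.normalizer (P : Set Γ) :=
    sup_le (sup_le Subgroup.le_normalizer (Subgroup.zpowers_le.mpr hx)) (Subgroup.zpowers_le.mpr hy)
  have hPW : P ≤ W := le_sup_left.trans le_sup_left
  have hxW : x ∈ W := Subgroup.mem_sup_left (Subgroup.mem_sup_right (Subgroup.mem_zpowers x))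
  have hyW : y ∈ W := Subgroup.mem_sup_right (Subgroup.mem_zpowers y)
  haveI : (P₀.subgroupOf W).Normal := Subgroup.normal_subgroupOf_of_le_normalizer hWn
  haveI : (P.subgroupOf W).Normal := Subgroup.normal_subgroupOf_of_le_normalizer hWP
  set π := QuotientGroup.mk' (P₀.subgroupOf W) with hπ
  have hπs : Function.Surjective π := QuotientGroup.mk'_surjective _
  have hπ1 : ∀ w : W, π w = 1 ↔ (w : Γ) ∈ P₀ := fun w => by
    rw [hπ, QuotientGroup.mk'_apply, QuotientGroup.eq_one_iff, Subgroup.mem_subgroupOf]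
  set Pb := (P.subgroupOf W).map π with hPb
  haveI : Pb.Normal := Subgroup.Normal.map inferInstance π hπs
  have hPbne : Pb ≠ ⊥ := fun e => hne (le_antisymm hP₀ fun z hz => by
    have : π ⟨z, hPW hz⟩ ∈ Pb := Subgroup.mem_map_of_mem π hz
    rw [e, Subgroup.mem_bot, hπ1] at this
    exact this)
  have hPbp : IsPGroup p Pb := by
    have hLS : Pb ≤ (S.subgroupOf W).map π := by
      have hL : L ≤ W := (hLP₀.trans hP₀).trans hPW
      have hSW : S ≤ W := (le_sup_right.trans_eq hP.symm).trans hPW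
      rw [hPb, show P.subgroupOf W = L.subgroupOf W ⊔ S.subgroupOf W by
        rw [← Subgroup.subgroupOf_sup hL hSW, hP], Subgroup.map_sup]
      refine sup_le ?_ le_rfl
      rintro _ ⟨l, hl, rfl⟩
      rw [(hπ1 l).mpr (hLP₀ hl)]
      exact Subgroup.one_mem _
    exact ((hS.comap_subtype (K := W)).map π).to_le hLS
  have htop : Pb ⊔ Subgroup.zpowers (π ⟨x, hxW⟩) ⊔ Subgroup.zpowers (π ⟨y, hyW⟩) = ⊤ := by
    rw [← MonoidHom.map_zpowers, ← MonoidHom.map_zpowers, hPb, ← Subgroup.map_sup, ← Subgroup.map_sup,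
      ← Subgroup.map_top_of_surjective π hπs]
    congr 1
    apply Subgroup.map_injective W.subtype_injective
    rw [Subgroup.map_sup, Subgroup.map_sup, Subgroup.subgroupOf_map_subtype, inf_eq_left.mpr hPW,
      MonoidHom.map_zpowers, MonoidHom.map_zpowers, ← MonoidHom.range_eq_map, Subgroup.range_subtype]
    rfl
  obtain ⟨V, g, φ, i, j, hVn, hVne, hVP, hi, hj, htriv⟩ := exists_min_layer hPbne hPbp htop (by
    rintro _ ⟨w, hw, rfl⟩
    rw [← map_inv, ← map_inv, ← map_mul, ← map_mul, ← map_mul, ← map_mul, ← map_mul,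
      ← mul_inv_eq_one, ← map_inv, ← map_mul, hπ1]
    have := hCs _ hc w hw
    simp only [Subgroup.coe_mul, Subgroup.coe_inv]
    convert this using 1
    group)
  haveI := hVn
  obtain ⟨x', y', -, hy', hsup, hc', he⟩ := euclid W (φ.comp π) g Cs j i x y hxW hyW hi hj hc
  set Z := (V.comap π).map W.subtype with hZ
  refine ⟨Z, x', y', ?_, ?_, ?_, ?_, hsup, hc', ?_⟩
  · intro z hz
    refine ⟨⟨z, hPW (hP₀ hz)⟩, ?_, rfl⟩
    show π _ ∈ V
    rw [(hπ1 ⟨z, hPW (hP₀ hz)⟩).mpr hz]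
    exact Subgroup.one_mem _
  · intro e
    refine hVne ((Subgroup.eq_bot_iff_forall V).mpr fun v hv => ?_)
    obtain ⟨w, rfl⟩ := hπs v
    rw [hπ1, ← e]
    exact ⟨w, hv, rfl⟩
  · rintro _ ⟨w, hw, rfl⟩
    obtain ⟨u, hu, e⟩ := hVP hw
    have : (w : Γ) * (u : Γ)⁻¹ ∈ P₀ := (hπ1 (w * u⁻¹)).mp (by rw [map_mul, map_inv, e, mul_inv_cancel])
    have h2 := P.mul_mem (hP₀ this) hu
    simpa using h2
  · have : (V.comap π).Normal := Subgroup.Normal.comap inferInstance π
    intro w hw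
    refine Subgroup.mem_normalizer_iff.mpr fun z => ⟨?_, fun hz => ?_⟩
    · rintro ⟨u, hu, rfl⟩
      exact ⟨_, this.conj_mem u hu ⟨w, hw⟩, rfl⟩
    · obtain ⟨u, hu, e⟩ := hz
      refine ⟨_, this.conj_mem u hu ⟨w, hw⟩⁻¹, ?_⟩
      have he' : (u : Γ) = w * z * w⁻¹ := e
      simp [he', mul_assoc]
  · rintro _ ⟨w, hw, rfl⟩
    have h1 := htriv (π ⟨y', hy'⟩) he (π w) hw
    rw [← mul_inv_eq_one, ← map_inv, ← map_mul, ← map_mul, ← map_inv, ← map_mul, hπ1] at h1
    exact h1

/-- Elements centralised by a `p'`-element modulo `L` cover a centralised layer. -/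
theorem exists_fixed_rep [Finite Γ] {p : ℕ} [hp : Fact p.Prime] {L Z P₀ S : Subgroup Γ} {y : Γ}
    {m : ℕ} (hS : IsPGroup p S) (hZ : Z ≤ L ⊔ S) (hLP₀ : L ≤ P₀) (hP₀ : P₀ ≤ Z)
    (hSL : S ≤ Subgroup.normalizer (L : Set Γ)) (hyL : y ∈ Subgroup.normalizer (L : Set Γ))
    (hyZ : y ∈ Subgroup.normalizer (Z : Set Γ)) (hy₀ : y ∈ Subgroup.normalizer (P₀ : Set Γ))
    (hm : ¬ p ∣ m) (hym : y ^ m ∈ L) {z : Γ} (hz : z ∈ Z)
    (hfix : ∀ u ∈ Z, y * u * y⁻¹ * u⁻¹ ∈ P₀) :
    ∃ z₁ ∈ Z, z₁⁻¹ * z ∈ P₀ ∧ y * z₁ * y⁻¹ * z₁⁻¹ ∈ L := by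
  set W := L ⊔ S ⊔ Subgroup.zpowers y with hW
  have hWL : W ≤ Subgroup.normalizer (L : Set Γ) :=
    sup_le (sup_le Subgroup.le_normalizer hSL) (Subgroup.zpowers_le.mpr hyL)
  have hLW : L ≤ W := le_sup_left.trans le_sup_left
  have hSW : S ≤ W := le_sup_right.trans le_sup_left
  have hZW : Z ≤ W := hZ.trans le_sup_left
  have hyW : y ∈ W := Subgroup.mem_sup_right (Subgroup.mem_zpowers y)
  haveI : (L.subgroupOf W).Normal := Subgroup.normal_subgroupOf_of_le_normalizer hWL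
  set π := QuotientGroup.mk' (L.subgroupOf W) with hπ
  have hπ1 : ∀ w : W, π w = 1 ↔ (w : Γ) ∈ L := fun w => by
    rw [hπ, QuotientGroup.mk'_apply, QuotientGroup.eq_one_iff, Subgroup.mem_subgroupOf]
  set A := Subgroup.zpowers (π ⟨y, hyW⟩)
  set K := (Z.subgroupOf W).map π with hK
  set N := (P₀.subgroupOf W).map π
  have hsub : ∀ {X : Subgroup Γ}, y ∈ Subgroup.normalizer (X : Set Γ) → X ≤ W → L ≤ X →
      A ≤ Subgroup.normalizer (((X.subgroupOf W).map π : Subgroup _) : Set _) := by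
    intro X hyX hXW hLX
    refine Subgroup.zpowers_le.mpr (Subgroup.mem_normalizer_iff.mpr fun q => ?_)
    obtain ⟨w, rfl⟩ := QuotientGroup.mk'_surjective (L.subgroupOf W) q
    have hmem : ∀ u : W, π u ∈ (X.subgroupOf W).map π ↔ (u : Γ) ∈ X := fun u => by
      refine ⟨?_, fun h => Subgroup.mem_map_of_mem π h⟩
      rintro ⟨u', hu', e⟩
      have : (u : Γ) * (u' : Γ)⁻¹ ∈ L := (hπ1 (u * u'⁻¹)).mp (by rw [map_mul, map_inv, e, mul_inv_cancel])
      have h2 := X.mul_mem (hLX this) hu'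
      simpa using h2
    rw [← map_inv, ← map_mul, ← map_mul, hmem, hmem]
    simpa using Subgroup.mem_normalizer_iff.mp hyX w
  have hcard : (Nat.card A).Coprime (Nat.card K) := by
    obtain ⟨n, hn⟩ : ∃ n, Nat.card K = p ^ n := by
      refine IsPGroup.iff_card.mp (((hS.comap_subtype (K := W)).map π).to_le ?_)
      rintro _ ⟨w, hw, rfl⟩
      obtain ⟨l, hl, s, hs, e⟩ : ∃ l ∈ L, ∃ s ∈ S, l * s = (w : Γ) := by
        have h1 : (w : Γ) ∈ ((L : Set Γ) * (S : Set Γ)) := by
          rw [← Subgroup.coe_mul_of_right_le_normalizer_left L S hSL]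
          exact hZ hw
        exact Set.mem_mul.mp h1
      refine ⟨⟨s, hSW hs⟩, hs, ?_⟩
      rw [eq_comm, ← mul_inv_eq_one, ← map_inv, ← map_mul, hπ1]
      simp only [Subgroup.coe_mul, Subgroup.coe_inv]
      rw [← e, mul_inv_cancel_right]
      exact hl
    rw [hn, Nat.card_zpowers]
    refine Nat.Coprime.pow_right n ?_
    refine Nat.Coprime.coprime_dvd_left (orderOf_dvd_of_pow_eq_one ?_)
      ((hp.out.coprime_iff_not_dvd.mpr hm).symm)
    rw [← map_pow, hπ1]
    simpa using hym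
  obtain ⟨c, hc, hcN⟩ := CfsgLib.Coprime.exists_centralizer_mem_coset (A := A) (K := K)
    (hsub hyZ hZW (hLP₀.trans hP₀)) hcard (Or.inl inferInstance) (N := N)
    (Subgroup.map_mono fun u hu => hP₀ hu) (hsub hy₀ (hP₀.trans hZW) hLP₀)
    (k := π ⟨z, hZW hz⟩) (Subgroup.mem_map_of_mem π hz) (by
      have hg : π ⟨y, hyW⟩ ∈ {a | (π ⟨z, hZW hz⟩)⁻¹ * (a * π ⟨z, hZW hz⟩ * a⁻¹) ∈ N} := by
        show _ * _ ∈ N
        rw [← map_inv, ← map_inv, ← map_mul, ← map_mul, ← map_mul]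
        refine Subgroup.mem_map_of_mem π ?_
        show z⁻¹ * (y * z * y⁻¹) ∈ P₀
        have h1 := hfix z⁻¹ (inv_mem hz)
        have h2 : y * z⁻¹ * y⁻¹ * z ∈ P₀ := by simpa using h1
        have h3 := inv_mem h2
        simpa [mul_assoc] using h3
      intro a ha
      obtain ⟨n, rfl⟩ := (isOfFinOrder_of_finite _).mem_powers_iff_mem_zpowers.mpr ha
      induction n with
      | zero => simp
      | succ n ih =>
        have hN : π ⟨y, hyW⟩ ∈ Subgroup.normalizer (N : Set _) :=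
          hsub hy₀ (hP₀.trans hZW) hLP₀ (Subgroup.mem_zpowers _)
        have h1 := mul_mem hg ((Subgroup.mem_normalizer_iff.mp hN _).mp
          (ih (Subgroup.pow_mem _ (Subgroup.mem_zpowers _) n)))
        convert h1 using 1
        simp only [pow_succ']
        group)
  obtain ⟨⟨z₁, hz₁, rfl⟩, hc1⟩ := Subgroup.mem_inf.mp hc
  refine ⟨z₁, hz₁, ?_, ?_⟩
  · obtain ⟨u, hu, e⟩ := hcN
    have h1 : ((u : Γ) * ((z₁ : Γ)⁻¹ * z)) ∈ L := (hπ1 (u * (z₁⁻¹ * ⟨z, hZW hz⟩))).mp (by
      rw [map_mul, map_mul, map_inv, e]; group)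
    have h2 := mul_mem (inv_mem (show (u : Γ) ∈ P₀ from hu)) (hLP₀ h1)
    rwa [inv_mul_cancel_left] at h2
  · have h1 := hc1 _ (Subgroup.mem_zpowers (π ⟨y, hyW⟩))
    have h2 : π (⟨y, hyW⟩ * z₁ * (⟨y, hyW⟩ : W)⁻¹ * z₁⁻¹) = 1 := by
      simp only [map_mul, map_inv, h1]
      group
    exact (hπ1 _).mp h2

end CfsgLib.Char.RelMcKay
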