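import Cfsg.Agent.Lib.Char.RelMcKay.Ext
import Cfsg.Agent.Lib.Char.RelMcKay.Corr
import Cfsg.Agent.Lib.Char.RelMcKay.Layer
import Cfsg.Agent.Lib.RelDegreeGraph.Descend

/-!
# Extendibility to a two-generated quotient is preserved by the correspondence
-/

set_option autoImplicit false
set_option linter.style.haveILetI false
set_option linter.unusedSectionVars false

namespace CfsgLib.Char.RelMcKay

open Cfsg CfsgLib.Char
open CfsgLib.Char.Glauberman (Inv res conjEquiv inv_sup inv_mono isCharacter_res)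
open CfsgLib.Char.RelGlauberman (conjChar relFix relFix_conj_mem)
open scoped ComplexConjugate CfsgLib.Char Pointwise commutatorElement

attribute [local instance 10000] Fintype.ofFinite
attribute [local instance 100000] CfsgLib.Char.instFintypeIrrCharacter

variable {Γ : Type*} [Group Γ] [Finite Γ]

theorem comm_zpowers_mem {Q : Subgroup Γ} {w z : Γ} (hw : w ∈ Subgroup.normalizer (Q : Set Γ))
    (h : w * z * w⁻¹ * z⁻¹ ∈ Q) : ∀ u ∈ Subgroup.zpowers w, u * z * u⁻¹ * z⁻¹ ∈ Q := by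
  let R : Subgroup Γ :=
    { carrier := {x | x ∈ Subgroup.normalizer (Q : Set Γ) ∧ x * z * x⁻¹ * z⁻¹ ∈ Q}
      one_mem' := ⟨Subgroup.one_mem _, by simp⟩
      mul_mem' := by
        rintro x y ⟨hx, hx'⟩ ⟨hy, hy'⟩
        refine ⟨mul_mem hx hy, ?_⟩
        rw [show x * y * z * (x * y)⁻¹ * z⁻¹ =
          (x * (y * z * y⁻¹ * z⁻¹) * x⁻¹) * (x * z * x⁻¹ * z⁻¹) by group]
        exact mul_mem ((Subgroup.mem_normalizer_iff.mp hx _).mp hy') hx'
      inv_mem' := by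
        rintro x ⟨hx, hx'⟩
        refine ⟨inv_mem hx, ?_⟩
        rw [show x⁻¹ * z * x⁻¹⁻¹ * z⁻¹ = x⁻¹ * (x * z * x⁻¹ * z⁻¹)⁻¹ * x⁻¹⁻¹ by group]
        exact (Subgroup.mem_normalizer_iff.mp (inv_mem hx) _).mp (inv_mem hx') }
  have hle : Subgroup.zpowers w ≤ R := Subgroup.zpowers_le.mpr ⟨hw, h⟩
  exact fun u hu => (hle hu).2

theorem comm_inv_mem {Q : Subgroup Γ} {a b : Γ} (h : a * b * a⁻¹ * b⁻¹ ∈ Q) :
    b * a * b⁻¹ * a⁻¹ ∈ Q := by
  rw [show b * a * b⁻¹ * a⁻¹ = (a * b * a⁻¹ * b⁻¹)⁻¹ by group]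
  exact inv_mem h

theorem relIndex_zpowers_dvd {K : Subgroup Γ} {y : Γ} (hy : y ∈ Subgroup.normalizer (K : Set Γ))
    {m : ℕ} (h : y ^ m ∈ K) : K.relIndex (Subgroup.zpowers y) ∣ m := by
  haveI : (K.subgroupOf (Subgroup.zpowers y)).Normal :=
    Subgroup.normal_subgroupOf_of_le_normalizer (Subgroup.zpowers_le.mpr hy)
  set gy : Subgroup.zpowers y := ⟨y, Subgroup.mem_zpowers y⟩
  have hgen : ∀ q : Subgroup.zpowers y ⧸ K.subgroupOf (Subgroup.zpowers y),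
      q ∈ Subgroup.zpowers (QuotientGroup.mk gy) := by
    intro q
    induction q using QuotientGroup.induction_on with
    | H u =>
      obtain ⟨u, hu⟩ := u
      obtain ⟨n, rfl⟩ := Subgroup.mem_zpowers_iff.mp hu
      refine ⟨n, ?_⟩
      show (QuotientGroup.mk gy) ^ n = _
      rw [← QuotientGroup.mk_zpow]
      exact congrArg QuotientGroup.mk (Subtype.ext (by simp [gy]))
  rw [Subgroup.relIndex, Subgroup.index_eq_card, ← orderOf_eq_card_of_forall_mem_zpowers hgen]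
  refine orderOf_dvd_of_pow_eq_one ?_
  rw [← QuotientGroup.mk_pow, QuotientGroup.eq_one_iff, Subgroup.mem_subgroupOf]
  simpa [gy] using h

/-- With a cyclic quotient an irreducible character over an invariant one extends it. -/
theorem res_eq_of_zpowers {A : Subgroup Γ} {x : Γ} (hx : x ∈ Subgroup.normalizer (A : Set Γ))
    (θ : IrrCharacter A) (hfx : Fixes (θ : A → ℂ) x)
    (ω : IrrCharacter ↥(A ⊔ Subgroup.zpowers x))
    (hov : Over le_sup_left ω.1 (θ : A → ℂ)) : res le_sup_left ω.1 = (θ : A → ℂ) := by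
  classical
  obtain ⟨η, hη⟩ := exists_ext_zpowers hx θ hfx
  obtain ⟨hN, htop⟩ := RelGlauberman.setting hx
  haveI := hN
  set N := A.subgroupOf (A ⊔ Subgroup.zpowers x) with hNdef
  set θ' := toSub (le_sup_left : A ≤ A ⊔ Subgroup.zpowers x) (θ : A → ℂ) with hθ'
  have hη' : ∀ n : N, η.1 n = θ' n := fun n =>
    congrFun hη (Subgroup.subgroupOfEquivOfLe le_sup_left n)
  have hinv : ∀ u, conjBy N θ' u = θ' := by
    rw [show θ' = fun n : N => η.1 n from funext fun n => (hη' n).symm]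
    exact conjBy_restrict N (isClassFunction_of_isCharacter (isCharacter_of_isIrr η.2))
  have h1 : (fun _ => (1 : ℂ)) * θ' = θ' := funext fun n => one_mul _
  have hbij := gallagher N (φ := fun _ => 1) (θ := θ') isIrrCharacter_one (fun u => rfl) hinv
    (by rw [h1]; exact isIrr_toSub _ θ.2) η.2 hη'
  rw [h1] at hbij
  obtain ⟨b, ⟨hb, hbn⟩, e0⟩ := hbij.surjOn (show ω.1 ∈ {ψ | IsIrrCharacter _ ψ ∧
      classInner (indFun N θ') ψ ≠ 0} from ⟨ω.2, by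
    rw [frobenius_reciprocity N _ (isClassFunction_of_isCharacter (isCharacter_of_isIrr ω.2)),
      ← classInner_conj_symm, hθ', classInner_toSub]
    simpa [Over] using hov⟩)
  rcases avgN_dichotomy N hb with ⟨-, hc⟩ | ⟨h0, -⟩
  swap
  · exfalso
    apply hbn
    rw [frobenius_reciprocity N _ (isClassFunction_of_isCharacter (isCharacter_of_isIrr hb)),
      show classInner (fun _ : N => (1 : ℂ)) (fun n : N => b n) = conj (avgN N b 1) by
        simp [classInner, avgN],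
      h0, Pi.zero_apply, map_zero]
  have hcon : ∀ u, u ∈ N → b u = b 1 := fun u hu => by simpa using hc ⟨u, hu⟩ 1
  haveI := RelGlauberman.isCyclic_quotient N htop
  have hcomm : commutator ↥(A ⊔ Subgroup.zpowers x) ≤ N := by
    rw [commutator_def, Subgroup.commutator_le]
    intro u _ v _
    rw [← QuotientGroup.eq_one_iff]
    letI : CommGroup (↥(A ⊔ Subgroup.zpowers x) ⧸ N) := IsCyclic.commGroup
    show QuotientGroup.mk' N ⁅u, v⁆ = 1
    rw [map_commutatorElement]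
    exact commutatorElement_eq_one_iff_commute.mpr (Commute.all _ _)
  have hb1 := RelDegreeGraph.degree_one_of_commutator hb fun u hu => hcon u (hcomm hu)
  funext a
  have e1 := congrFun e0 (Subgroup.inclusion le_sup_left a)
  simp only [Pi.mul_apply] at e1
  rw [res_apply, show (⟨(a : Γ), le_sup_left (a := A) a.2⟩ : ↥(A ⊔ Subgroup.zpowers x)) =
    Subgroup.inclusion le_sup_left a from rfl, ← e1,
    hcon _ (show Subgroup.inclusion le_sup_left a ∈ N from a.2), hb1, one_mul]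
  exact congrFun hη a

/-- A `p`-element centralising a `p'`-element modulo `A` fixes the extensions. -/
theorem fixes_ext {p : ℕ} (hp : p.Prime) {A : Subgroup Γ} {y t : Γ}
    (hy : y ∈ Subgroup.normalizer (A : Set Γ)) (ht : t ∈ Subgroup.normalizer (A : Set Γ))
    (hc : t * y * t⁻¹ * y⁻¹ ∈ A) {k : ℕ} (hk : orderOf t = p ^ k) {m : ℕ} (hm : ¬ p ∣ m)
    (hym : y ^ m ∈ A) (θ : IrrCharacter A) (hft : Fixes (θ : A → ℂ) t)
    (η : IrrCharacter ↥(A ⊔ Subgroup.zpowers y)) (hη : res le_sup_left η.1 = (θ : A → ℂ)) :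
    Fixes η.1 t := by
  have hBn : A ⊔ Subgroup.zpowers y ≤ Subgroup.normalizer (A : Set Γ) :=
    sup_le Subgroup.le_normalizer (Subgroup.zpowers_le.mpr hy)
  have htB := mem_normalizer_sup hy ht hc
  have hη' : res le_sup_left (conjChar η htB).1 = (θ : A → ℂ) := funext fun a => by
    refine Eq.trans ?_ (hft a (conjEquiv ht a) rfl)
    exact Eq.trans (congrArg η.1 (Subtype.ext rfl)) (congrFun hη (conjEquiv ht a))
  obtain ⟨β, hβ, e⟩ := twist le_sup_left hBn θ.2 η.2 (conjChar η htB).2 hη hη'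
  have hit : ∀ (n : ℕ) (b : ↥(A ⊔ Subgroup.zpowers y)),
      η.1 (conjEquiv (pow_mem htB n) b) = (β b : ℂ) ^ n * η.1 b := by
    intro n
    induction n with
    | zero =>
      intro b
      rw [pow_zero (β b : ℂ), one_mul]
      exact congrArg η.1 (Subtype.ext (by simp))
    | succ n ih =>
      intro b
      have e1 : conjEquiv (pow_mem htB (n + 1)) b = conjEquiv (pow_mem htB n) (conjEquiv htB b) :=
        Subtype.ext (by simp [pow_succ, mul_assoc])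
      have e2 := congrFun e b
      rw [e1, ih, twist_fixed ht hc htB hβ b, pow_succ, mul_assoc]
      exact congrArg _ e2
  have hone : β ^ (p ^ k) = 1 := by
    refine twist_inj le_sup_left hBn θ.2 η.2 hη (fun b hb => by
      rw [MonoidHom.pow_apply, hβ b hb, one_pow]) fun b => ?_
    have h := hit (p ^ k) b
    rw [MonoidHom.pow_apply, Units.val_pow_eq_pow_val, ← h]
    exact congrArg η.1 (Subtype.ext (by simp [← hk, pow_orderOf_eq_one]))
  have hym' : y ∈ A ⊔ Subgroup.zpowers y := Subgroup.mem_sup_right (Subgroup.mem_zpowers y)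
  set u := β ⟨y, hym'⟩
  have h1 : u ^ m = 1 := by rw [← map_pow]; exact hβ _ hym
  have h2 : u ^ (p ^ k) = 1 := DFunLike.congr_fun hone _
  have hu : u = 1 := orderOf_eq_one_iff.mp (Nat.eq_one_of_dvd_coprimes
    ((Nat.Prime.coprime_iff_not_dvd hp).mpr hm |>.pow_left k) (orderOf_dvd_of_pow_eq_one h2)
    (orderOf_dvd_of_pow_eq_one h1))
  have hb : β = 1 := hom_eq_one_of_zpowers rfl hβ hym' hu
  refine (fixes_iff_conj htB).mpr (funext fun b => ?_)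
  have h2 := congrFun e b
  rw [hb] at h2
  simpa [conjChar] using h2

theorem extTo_iff_of_res {C K : Subgroup Γ} (e : C = K) {θ : K → ℂ} {φ : C → ℂ}
    (h : res e.le θ = φ) (W : Subgroup Γ) : ExtTo θ W ↔ ExtTo φ W := by
  subst e
  rw [show φ = θ from h.symm]

theorem corr_unique_of_eq {p : ℕ} {K L P S B : Subgroup Γ} (D : Data p K L P S) (e : D.C = B)
    {θ : IrrCharacter K} (hθ : Inv K P (θ : K → ℂ)) {ξ ζ : IrrCharacter B}
    (hξ : Inv B S (ξ : B → ℂ)) {h : B ≤ K} {a : ℕ}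
    (ha : classInner (res h (θ : K → ℂ)) (ξ : B → ℂ) = a) (hnd : ¬ p ∣ a) (hζ : Corr p P θ ζ) :
    ξ = ζ := by
  subst e
  exact D.corr_unique hθ ⟨h, (D.inv_iff_C ξ).mpr hξ, a, ha, hnd⟩ hζ

/-- **The key lemma.** -/
theorem extTo_corr_iff {p : ℕ} : ∀ (n : ℕ) {K L P S : Subgroup Γ} (D : Data p K L P S),
    L.relIndex K = n → ∀ (C : Subgroup Γ), C = D.C → ∀ (θ : IrrCharacter K) (φ : IrrCharacter C),
    Inv K P (θ : K → ℂ) → Corr p P θ φ → ∀ x y : Γ,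
    (∀ w ∈ Subgroup.zpowers x ⊔ Subgroup.zpowers y, w ∈ Subgroup.normalizer (K : Set Γ) ∧
      w ∈ Subgroup.normalizer (L : Set Γ) ∧ w ∈ Subgroup.normalizer (P : Set Γ) ∧
      Fixes (θ : K → ℂ) w ∧ ∃ m : ℕ, ¬ p ∣ m ∧ w ^ m ∈ L) →
    y * x * y⁻¹ * x⁻¹ ∈ C →
    (ExtTo (θ : K → ℂ) (Subgroup.zpowers x ⊔ Subgroup.zpowers y) ↔
      ExtTo (φ : C → ℂ) (Subgroup.zpowers x ⊔ Subgroup.zpowers y)) := by
  intro n
  induction n using Nat.strong_induction_on with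
  | _ n ih =>
  intro K L P S D hn C hC θ φ hθ hφ x y hW hc
  subst hC
  haveI := Fact.mk D.prime
  set P₀ := relFix P K L D.hPL with hP₀
  have hLP₀ : L ≤ P₀ := fun l hl => ⟨D.L_le hl, fun k hk =>
    mul_mem ((Subgroup.mem_normalizer_iff.mp (D.hKL hk) l).mp hl) (inv_mem hl)⟩
  have hP₀P : P₀ ≤ P := fun z hz => hz.1
  by_cases hne : P₀ = P
  · have e : D.C = K := le_antisymm D.C_le fun k hk => ⟨hk, fun z hz =>
      comm_inv_mem ((show z ∈ P₀ from hne.symm ▸ hz).2 k hk)⟩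
    refine extTo_iff_of_res e ?_ _
    have hirr : IsIrrCharacter D.C (res e.le (θ : K → ℂ)) :=
      isIrrCharacter_comp_mulEquiv (MulEquiv.subgroupCongr e) θ.2
    have hov := hφ.over e.le
    unfold Over at hov
    by_contra hne'
    exact hov (classInner_irr_ne hirr φ.2 hne')
  -- elements of `C` centralise `P` modulo `P₀`
  have hxW : x ∈ Subgroup.zpowers x ⊔ Subgroup.zpowers y :=
    Subgroup.mem_sup_left (Subgroup.mem_zpowers x)
  have hyW : y ∈ Subgroup.zpowers x ⊔ Subgroup.zpowers y :=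
    Subgroup.mem_sup_right (Subgroup.mem_zpowers y)
  have hnP₀ : ∀ {w : Γ}, w ∈ Subgroup.normalizer (K : Set Γ) →
      w ∈ Subgroup.normalizer (L : Set Γ) → w ∈ Subgroup.normalizer (P : Set Γ) →
      w ∈ Subgroup.normalizer (P₀ : Set Γ) := fun hK hL hP => relFix_conj_mem D.hPL hP hK hL
  obtain ⟨Z, x', y', hP₀Z, hZne, hZP, hnZ, hsup, hc', hfix⟩ :=
    exists_layer (L := L) (P₀ := P₀) (Cs := D.C) D.hS D.hP hLP₀ hP₀P hne
      (fun z hz => hnP₀ (D.hPK hz) (D.hPL hz) (Subgroup.le_normalizer hz))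
      (hW x hxW).2.2.1 (hW y hyW).2.2.1
      (hnP₀ (hW x hxW).1 (hW x hxW).2.1 (hW x hxW).2.2.1)
      (hnP₀ (hW y hyW).1 (hW y hyW).2.1 (hW y hyW).2.2.1)
      (fun c hc z hz => hLP₀ (hc.2 z hz)) hc
  rw [← hsup]
  have hW' : ∀ w ∈ Subgroup.zpowers x' ⊔ Subgroup.zpowers y',
      w ∈ Subgroup.normalizer (Z : Set Γ) := fun w hw => by
    rw [hsup] at hw
    exact (sup_le (le_sup_right.trans le_sup_left) le_sup_right |>.trans hnZ) hw
  rw [← hsup] at hW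
  clear hc hxW hyW hsup
  have hxW : x' ∈ Subgroup.zpowers x' ⊔ Subgroup.zpowers y' :=
    Subgroup.mem_sup_left (Subgroup.mem_zpowers x')
  have hyW : y' ∈ Subgroup.zpowers x' ⊔ Subgroup.zpowers y' :=
    Subgroup.mem_sup_right (Subgroup.mem_zpowers y')
  obtain ⟨hxK, hxL, hxP, hfx, -⟩ := hW x' hxW
  obtain ⟨hyK, hyL, hyP, hfy, m, hm, hym⟩ := hW y' hyW
  have hLZ : L ≤ Z := hLP₀.trans hP₀Z
  have hSn : S ≤ Subgroup.normalizer (L : Set Γ) := D.S_le.trans D.hPL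
  have hdecomp : ∀ z ∈ Z, ∃ l ∈ L, ∃ s ∈ S ⊓ Z, l * s = z := by
    intro z hz
    have h1 : z ∈ (L : Set Γ) * (S : Set Γ) := by
      rw [← Subgroup.coe_mul_of_right_le_normalizer_left L S hSn, SetLike.mem_coe, ← D.hP]
      exact hZP hz
    obtain ⟨l, hl, s, hs, e⟩ := Set.mem_mul.mp h1
    refine ⟨l, hl, s, ⟨hs, ?_⟩, e⟩
    rw [show s = l⁻¹ * z by rw [← e, inv_mul_cancel_left]]
    exact Z.mul_mem (Z.inv_mem (hLZ hl)) hz
  have hZS : Z = L ⊔ (S ⊓ Z) := le_antisymm (fun z hz => by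
    obtain ⟨l, hl, s, hs, e⟩ := hdecomp z hz
    exact e ▸ mul_mem (Subgroup.mem_sup_left hl) (Subgroup.mem_sup_right hs))
    (sup_le hLZ inf_le_right)
  have DZ : Data p K L Z (S ⊓ Z) :=
    { prime := D.prime, hLK := D.hLK, hKL := D.hKL, hPK := hZP.trans D.hPK, hPL := hZP.trans D.hPL,
      hidx := D.hidx, hS := D.hS.to_le inf_le_left, hP := hZS }
  set Δ := DZ.C with hΔ
  have hCΔ : D.C ≤ Δ := fun c hc => ⟨hc.1, fun z hz => hc.2 z (hZP hz)⟩
  have hθZ : Inv K Z (θ : K → ℂ) := inv_mono hZP hθ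
  obtain ⟨δ, hδ⟩ := DZ.exists_corr hθZ
  have hPZ : P ≤ Subgroup.normalizer (Z : Set Γ) := (le_sup_left.trans le_sup_left).trans hnZ
  have hPΔ : P ≤ Subgroup.normalizer (Δ : Set Γ) :=
    fun z hz => DZ.normalizes (D.hPK hz) (D.hPL hz) (hPZ hz)
  have hδP : Inv Δ P (δ : Δ → ℂ) := fun z hz =>
    (DZ.fixes_iff hθZ hδ (D.hPK hz) (hPΔ hz) (hPZ hz)).mp (hθ z hz)
  have hWΔ : ∀ w ∈ Subgroup.zpowers x' ⊔ Subgroup.zpowers y',
      w ∈ Subgroup.normalizer (Δ : Set Γ) :=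
    fun w hw => DZ.normalizes (hW w hw).1 (hW w hw).2.1 (hW' w hw)
  have hδW : ∀ w ∈ Subgroup.zpowers x' ⊔ Subgroup.zpowers y', Fixes (δ : Δ → ℂ) w := fun w hw =>
    (DZ.fixes_iff hθZ hδ (hW w hw).1 (hWΔ w hw) (hW' w hw)).mp (hW w hw).2.2.2.1
  -- the smaller pair
  have hlt : L.relIndex Δ < n := by
    have h1 := Subgroup.relIndex_mul_relIndex L Δ K DZ.L_le_C DZ.C_le
    have h2 : Δ.relIndex K ≠ 1 := fun e => by
      refine hZne (le_antisymm (fun z hz => ⟨hZP hz, fun k hk => ?_⟩) hP₀Z)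
      exact comm_inv_mem ((Subgroup.relIndex_eq_one.mp e hk).2 z hz)
    have h3 : L.relIndex K ≠ 0 := Subgroup.index_ne_zero_of_finite
    rw [← hn, ← h1]
    rw [← h1] at h3
    have h4 : 2 ≤ Δ.relIndex K := by
      have := right_ne_zero_of_mul h3
      omega
    have h5 := left_ne_zero_of_mul h3
    calc L.relIndex Δ = L.relIndex Δ * 1 := (mul_one _).symm
      _ < L.relIndex Δ * Δ.relIndex K := Nat.mul_lt_mul_of_pos_left h4 (Nat.pos_of_ne_zero h5)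
  have DΔ : Data p Δ L P S :=
    { prime := D.prime, hLK := DZ.L_le_C, hKL := DZ.C_le.trans D.hKL, hPK := hPΔ, hPL := D.hPL,
      hidx := fun h => D.hidx (h.trans (Dvd.intro _
        (Subgroup.relIndex_mul_relIndex L Δ K DZ.L_le_C DZ.C_le))),
      hS := D.hS, hP := D.hP }
  have hCeq : D.C = DΔ.C := by
    ext c
    exact ⟨fun hc => ⟨hCΔ hc, hc.2⟩, fun hc => ⟨DZ.C_le hc.1, hc.2⟩⟩
  have hS' : S ⊓ Z ≤ Subgroup.normalizer (D.C : Set Γ) := inf_le_left.trans (D.S_le.trans D.P_normC)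
  have hcorr : Corr p P δ φ := by
    obtain ⟨_, hφi, a, ha, hand⟩ := hφ
    obtain ⟨ξ, hξi, ⟨a1, ha1, hnd1⟩, b, hb, hbnd⟩ := mult_comp D.prime hCΔ DZ.C_le DZ.hS
      (inf_le_right.trans DZ.hPK) (inf_le_right.trans DZ.P_normC) hS' (isCharacter_of_isIrr θ.2)
      (inv_mono inf_le_right hθZ) φ.2 (inv_mono (inf_le_left.trans D.S_le) hφi) ha hand
    have e : ξ = δ :=
      DZ.corr_unique hθZ ⟨DZ.C_le, (DZ.inv_iff_C ξ).mpr hξi, a1, ha1, hnd1⟩ hδ
    exact ⟨hCΔ, hφi, b, e ▸ hb, hbnd⟩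
  refine Iff.trans ?_ (ih _ hlt DΔ rfl D.C hCeq δ φ hδP hcorr x' y' (fun w hw =>
    ⟨hWΔ w hw, (hW w hw).2.1, (hW w hw).2.2.1, hδW w hw, (hW w hw).2.2.2.2⟩) hc')
  -- transfer through the elements of `Z` centralised by `y'`
  set Z₁ := relFix Z (Subgroup.zpowers y') L DZ.hPL with hZ₁
  have hZ₁Z : Z₁ ≤ Z := fun z hz => hz.1
  have hmemZ₁ : ∀ z, z ∈ Z₁ ↔ z ∈ Z ∧ y' * z * y'⁻¹ * z⁻¹ ∈ L := fun z =>
    ⟨fun h => ⟨h.1, h.2 y' (Subgroup.mem_zpowers y')⟩, fun h => ⟨h.1, comm_zpowers_mem hyL h.2⟩⟩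
  have hLZ₁ : L ≤ Z₁ := fun l hl => (hmemZ₁ l).mpr
    ⟨hLZ hl, mul_mem ((Subgroup.mem_normalizer_iff.mp hyL l).mp hl) (inv_mem hl)⟩
  have hxZ₁ : x' ∈ Subgroup.normalizer (Z₁ : Set Γ) := by
    have hxZ := hW' x' hxW
    have hmem : ∀ z ∈ Z₁, x' * z * x'⁻¹ ∈ Z₁ := by
      intro z hz
      obtain ⟨hzZ, hzy⟩ := (hmemZ₁ z).mp hz
      have hwZ : x' * z * x'⁻¹ ∈ Z := (Subgroup.mem_normalizer_iff.mp hxZ z).mp hzZ
      refine (hmemZ₁ _).mpr ⟨hwZ, ?_⟩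
      set c := y' * x' * y'⁻¹ * x'⁻¹ with hcdef
      set w := x' * z * x'⁻¹ with hw
      have hcL : c ∈ Subgroup.normalizer (L : Set Γ) := D.hKL hc'.1
      rw [show y' * w * y'⁻¹ * w⁻¹ =
          (c * (x' * (y' * z * y'⁻¹ * z⁻¹) * x'⁻¹) * c⁻¹) * (c * w * c⁻¹ * w⁻¹) by
        rw [hcdef, hw]; group]
      exact mul_mem ((Subgroup.mem_normalizer_iff.mp hcL _).mp
        ((Subgroup.mem_normalizer_iff.mp hxL _).mp hzy)) (comm_inv_mem (hc'.2 w (hZP hwZ)))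
    refine Subgroup.mem_normalizer_iff.mpr fun z => ⟨hmem z, fun hz => ?_⟩
    have hinj : Function.Injective (fun a : Z₁ => (⟨x' * a * x'⁻¹, hmem a a.2⟩ : Z₁)) :=
      fun a b e => Subtype.ext (mul_left_cancel (mul_right_cancel (congrArg Subtype.val e)))
    obtain ⟨a, ha⟩ := (Finite.injective_iff_surjective.mp hinj) ⟨_, hz⟩
    have := mul_left_cancel (mul_right_cancel (congrArg Subtype.val ha))
    exact this ▸ a.2
  set K' := K ⊔ Subgroup.zpowers y' with hK'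
  have hK'L : K' ≤ Subgroup.normalizer (L : Set Γ) :=
    sup_le D.hKL (Subgroup.zpowers_le.mpr hyL)
  have hyΔ : y' ∈ Subgroup.normalizer (Δ : Set Γ) := hWΔ y' hyW
  have hZ₁n : ∀ z ∈ Z₁, z ∈ Subgroup.normalizer (K' : Set Γ) := fun z hz =>
    mem_normalizer_sup hyK (DZ.hPK (hZ₁Z hz)) (D.hLK (comm_inv_mem ((hmemZ₁ z).mp hz).2))
  have hidx : ¬ p ∣ L.relIndex K' := by
    rw [← Subgroup.relIndex_mul_relIndex L K K' D.hLK le_sup_left, hK',
      CfsgLib.Coprime.relIndex_sup_of_le_normalizer (Subgroup.zpowers_le.mpr hyK), D.prime.dvd_mul]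
    exact fun h => h.elim D.hidx fun h => hm (h.trans (relIndex_zpowers_dvd hyK (D.hLK hym)))
  have hT : Z₁ = L ⊔ (S ⊓ Z₁) := by
    refine le_antisymm (fun z hz => ?_) (sup_le hLZ₁ inf_le_right)
    obtain ⟨l, hl, s, hs, e⟩ := hdecomp z (hZ₁Z hz)
    refine e ▸ mul_mem (Subgroup.mem_sup_left hl) (Subgroup.mem_sup_right ⟨hs.1, ?_⟩)
    rw [show s = l⁻¹ * z by rw [← e, inv_mul_cancel_left]]
    exact Z₁.mul_mem (Z₁.inv_mem (hLZ₁ hl)) hz
  have D₁ : Data p K' L Z₁ (S ⊓ Z₁) :=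
    { prime := D.prime, hLK := D.hLK.trans le_sup_left, hKL := hK'L, hPK := hZ₁n,
      hPL := hZ₁Z.trans DZ.hPL, hidx := hidx, hS := D.hS.to_le inf_le_left, hP := hT }
  have hB : D₁.C = Δ ⊔ Subgroup.zpowers y' := by
    refine le_antisymm ?_ (sup_le (fun k hk => ⟨Subgroup.mem_sup_left hk.1,
      fun z hz => hk.2 z (hZ₁Z hz)⟩) (Subgroup.zpowers_le.mpr
        ⟨Subgroup.mem_sup_right (Subgroup.mem_zpowers y'),
          fun z hz => comm_inv_mem ((hmemZ₁ z).mp hz).2⟩))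
    have hyC₁ : Subgroup.zpowers y' ≤ D₁.C := Subgroup.zpowers_le.mpr
      ⟨Subgroup.mem_sup_right (Subgroup.mem_zpowers y'),
        fun z hz => comm_inv_mem ((hmemZ₁ z).mp hz).2⟩
    intro g hg
    have h1 : g ∈ (K : Set Γ) * (Subgroup.zpowers y' : Set Γ) := by
      rw [← Subgroup.coe_mul_of_right_le_normalizer_left _ _ (Subgroup.zpowers_le.mpr hyK)]
      exact hg.1
    obtain ⟨k, hk, u, hu, e⟩ := Set.mem_mul.mp h1
    refine e ▸ mul_mem (Subgroup.mem_sup_left ⟨hk, ?_⟩) (Subgroup.mem_sup_right hu)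
    have hkC : k ∈ D₁.C := by
      rw [show k = g * u⁻¹ by rw [← e, mul_inv_cancel_right]]
      exact mul_mem hg (inv_mem (hyC₁ hu))
    intro z hz
    obtain ⟨z₁, hz₁, hz₁₀, hz₁y⟩ := exists_fixed_rep (hS := D.hS) (hZ := hZP.trans D.hP.le)
      hLP₀ hP₀Z hSn hyL (hW' y' hyW) (hnP₀ hyK hyL hyP) hm hym hz hfix
    refine comm_mem_sup (A := Z₁) (B := P₀) (hZ₁Z.trans DZ.hPL) (hP₀P.trans D.hPL) hkC.2
      (fun p₀ hp₀ => comm_inv_mem (hp₀.2 k hk)) z ?_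
    have h2 := mul_mem (Subgroup.mem_sup_left (T := P₀) ((hmemZ₁ z₁).mpr ⟨hz₁, hz₁y⟩))
      (Subgroup.mem_sup_right (S := Z₁) hz₁₀)
    rwa [mul_inv_cancel_left] at h2
  -- the extension of `θ` and its correspondent
  obtain ⟨η, hη⟩ := exists_ext_zpowers hyK θ hfy
  have hηS : Inv K' (S ⊓ Z₁) η.1 := by
    intro t ht
    obtain ⟨k, hk⟩ := IsPGroup.iff_orderOf.mp D₁.hS ⟨t, ht⟩
    refine fixes_ext D.prime hyK (DZ.hPK (hZ₁Z ht.2)) ?_ (k := k)
      (by rw [← hk]; exact Subgroup.orderOf_coe (⟨t, ht⟩ : ↥(S ⊓ Z₁))) hm (D.hLK hym) θ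
      (hθ t (D.S_le ht.1)) η hη
    exact D.hLK (comm_inv_mem ((hmemZ₁ t).mp ht.2).2)
  have hηi : Inv K' Z₁ η.1 := (D₁.inv_iff_K η).mpr hηS
  obtain ⟨ζ', hζ'⟩ := D₁.exists_corr hηi
  obtain ⟨ζ, hζ, hζfix⟩ : ∃ ζ : IrrCharacter ↥(Δ ⊔ Subgroup.zpowers y'), Corr p Z₁ η ζ ∧
      ∀ w, w ∈ Subgroup.normalizer (K' : Set Γ) → w ∈ Subgroup.normalizer (D₁.C : Set Γ) →
        w ∈ Subgroup.normalizer (Z₁ : Set Γ) → (Fixes η.1 w ↔ Fixes ζ.1 w) := by
    clear hη hηS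
    revert ζ'
    rw [← hB]
    exact fun ζ' hζ' => ⟨ζ', hζ', fun w h1 h2 h3 => D₁.fixes_iff hηi hζ' h1 h2 h3⟩
  have hΔB : Δ ≤ Δ ⊔ Subgroup.zpowers y' := le_sup_left
  have hBK : Δ ⊔ Subgroup.zpowers y' ≤ K' := sup_le_sup_right DZ.C_le _
  have hζδ : res le_sup_left ζ.1 = (δ : Δ → ℂ) := by
    refine res_eq_of_zpowers hyΔ δ (hδW y' hyW) ζ ?_
    obtain ⟨_, hδi, a, ha, hand⟩ := hδ
    have ha' : classInner (res (hΔB.trans hBK) η.1) (δ : Δ → ℂ) = a := by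
      rw [← ha, ← hη]
      rfl
    have hTB : S ⊓ Z₁ ≤ Subgroup.normalizer ((Δ ⊔ Subgroup.zpowers y' : Subgroup Γ) : Set Γ) :=
      hB ▸ (inf_le_right.trans D₁.P_normC)
    obtain ⟨ξ, hξi, ⟨a1, ha1, hnd1⟩, b, hb, hbnd⟩ := mult_comp D.prime hΔB hBK D₁.hS
      (inf_le_right.trans D₁.hPK) hTB (inf_le_left.trans (D.S_le.trans hPΔ))
      (isCharacter_of_isIrr η.2) hηS δ.2
      (inv_mono (inf_le_left.trans D.S_le) hδP) ha' hand
    have e : ξ = ζ := corr_unique_of_eq D₁ hB hηi hξi ha1 hnd1 hζ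
    unfold Over
    rw [← e, hb, Nat.cast_ne_zero]
    exact fun e0 => hbnd (e0 ▸ dvd_zero p)
  have hcx : x' * y' * x'⁻¹ * y'⁻¹ ∈ D.C := comm_inv_mem hc'
  have hxK' : x' ∈ Subgroup.normalizer (K' : Set Γ) := mem_normalizer_sup hyK hxK (D.C_le hcx)
  have hxB : x' ∈ Subgroup.normalizer (D₁.C : Set Γ) :=
    hB ▸ mem_normalizer_sup hyΔ (hWΔ x' hxW) (hCΔ hcx)
  rw [sup_comm (Subgroup.zpowers x')]
  refine Iff.trans (Iff.trans
    ⟨fun h => (ext_iff_fix hyK hxK θ hfy (D.C_le hcx)).mp h η hη,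
      fun h => ext_of_fix hyK hxK (D.C_le hcx) η hη h⟩ (hζfix x' hxK' hxB hxZ₁))
    ⟨fun h => ext_of_fix hyΔ (hWΔ x' hxW) (hCΔ hcx) ζ hζδ h,
      fun h => (ext_iff_fix hyΔ (hWΔ x' hxW) δ (hδW y' hyW) (hCΔ hcx)).mp h ζ hζδ⟩

end CfsgLib.Char.RelMcKay
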