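import Cfsg.Agent.Lib.Char.RelMcKay.Step
import Cfsg.Agent.Lib.PSolvable.Core
import Cfsg.Prelude.Def_Local

/-!
# The relative count of characters of degree prime to `p` in `p`-solvable groups
-/

set_option autoImplicit false
set_option linter.style.haveILetI false
set_option linter.unusedSectionVars false

namespace CfsgLib.Char.RelMcKay

open Cfsg CfsgLib.Char
open CfsgLib.Char.Glauberman (Inv res conjEquiv inv_sup inv_mono isCharacter_res)
open CfsgLib.Char.RelGlauberman (conjChar relFix)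
open scoped ComplexConjugate CfsgLib.Char Pointwise

attribute [local instance 10000] Fintype.ofFinite
attribute [local instance 100000] CfsgLib.Char.instFintypeIrrCharacter

variable {Γ : Type*} [Group Γ] [Finite Γ]

theorem exists_layer_above {p : ℕ} (hp : p.Prime) (hG : Cfsg.IsPSolvable p Γ) {L M : Subgroup Γ}
    (hLM : L ≤ M) (hML : M ≤ Subgroup.normalizer (L : Set Γ)) (hne : L ≠ M) :
    ∃ K : Subgroup Γ, L ≤ K ∧ K ≠ L ∧ K ≤ M ∧ M ≤ Subgroup.normalizer (K : Set Γ) ∧
      ((∃ a : ℕ, L.relIndex K = p ^ a) ∨ ¬ p ∣ L.relIndex K) := by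
  obtain ⟨n, H, h0, hlast, hmono, hn, hfac⟩ := hG
  have hex : ∃ i : Fin n, H i.castSucc ⊓ M ≤ L ∧ ¬ H i.succ ⊓ M ≤ L := by
    by_contra h
    have hall : ∀ i : Fin (n + 1), H i ⊓ M ≤ L := by
      intro i
      induction i using Fin.induction with
      | zero => rw [h0, bot_inf_eq]; exact bot_le
      | succ j ih =>
        by_contra hj
        exact h ⟨j, ih, hj⟩
    have h1 := hall (Fin.last n)
    rw [hlast, top_inf_eq] at h1
    exact hne (le_antisymm hLM h1)
  obtain ⟨i, hi, hi'⟩ := hex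
  haveI := hn i.castSucc
  have hsucc := hn i.succ
  have hMn : M ≤ Subgroup.normalizer ((H i.succ ⊓ M : Subgroup Γ) : Set Γ) :=
    CfsgLib.Coprime.le_normalizer_inf_of_le (Subgroup.normalizer_eq_top_iff.mpr hsucc ▸ le_top)
      Subgroup.le_normalizer
  refine ⟨L ⊔ (H i.succ ⊓ M), le_sup_left, fun e => hi' (sup_eq_left.mp e), sup_le hLM inf_le_right,
    CfsgLib.Coprime.le_normalizer_sup_of_le hML hMn, ?_⟩
  have hdvd : L.relIndex (L ⊔ (H i.succ ⊓ M)) ∣ (H i.castSucc).relIndex (H i.succ) := by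
    rw [CfsgLib.Coprime.relIndex_sup_of_le_normalizer (inf_le_right.trans hML)]
    exact (Subgroup.relIndex_dvd_of_le_left _ hi).trans
      (CfsgLib.PSolvable.relIndex_inf_dvd _ _ _ (hmono i.castSucc_le_succ))
  rcases hfac i with ⟨m, hm⟩ | hc
  · obtain ⟨a, -, ha⟩ := (Nat.dvd_prime_pow hp).mp (hm ▸ hdvd)
    exact Or.inl ⟨a, ha⟩
  · exact Or.inr fun h => (hp.coprime_iff_not_dvd.mp hc.symm) (h.trans hdvd)

theorem relIndex_lt {L A B : Subgroup Γ} (hLA : L ≤ A) (hAB : A ≤ B) (hne : A ≠ B) :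
    L.relIndex A < L.relIndex B := by
  rw [← Subgroup.relIndex_mul_relIndex L A B hLA hAB]
  have h1 : A.relIndex B ≠ 1 := fun e => hne (le_antisymm hAB (Subgroup.relIndex_eq_one.mp e))
  have h2 : A.relIndex B ≠ 0 := Subgroup.index_ne_zero_of_finite
  have h3 : L.relIndex A ≠ 0 := Subgroup.index_ne_zero_of_finite
  calc L.relIndex A = L.relIndex A * 1 := (mul_one _).symm
    _ < L.relIndex A * A.relIndex B :=
      Nat.mul_lt_mul_of_pos_left (by omega) (Nat.pos_of_ne_zero h3)

theorem relIndex_lt' {L A B : Subgroup Γ} (hLA : L ≤ A) (hAB : A ≤ B) (hne : A ≠ L) :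
    A.relIndex B < L.relIndex B := by
  rw [← Subgroup.relIndex_mul_relIndex L A B hLA hAB]
  have h1 : L.relIndex A ≠ 1 := fun e => hne (le_antisymm (Subgroup.relIndex_eq_one.mp e) hLA)
  have h2 : A.relIndex B ≠ 0 := Subgroup.index_ne_zero_of_finite
  have h3 : L.relIndex A ≠ 0 := Subgroup.index_ne_zero_of_finite
  calc A.relIndex B = 1 * A.relIndex B := (one_mul _).symm
    _ < L.relIndex A * A.relIndex B :=
      Nat.mul_lt_mul_of_pos_right (by omega) (Nat.pos_of_ne_zero h2)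

theorem above_congr {p : ℕ} {H M M' : Subgroup Γ} (e : M = M') (h : H ≤ M) (h' : H ≤ M')
    (θ : H → ℂ) : Nat.card (Above p h θ) = Nat.card (Above p h' θ) := by
  subst e
  rfl

theorem card_above_stab {p : ℕ} (hp : p.Prime) {H M T : Subgroup Γ} (h : H ≤ M)
    (hM : M ≤ Subgroup.normalizer (H : Set Γ)) (θ : IrrCharacter H) (hT : T = stab hM (θ : H → ℂ))
    (hHT : H ≤ T) (hidx : ¬ p ∣ T.relIndex M) :
    Nat.card (Above p h (θ : H → ℂ)) = Nat.card (Above p hHT (θ : H → ℂ)) := by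
  rw [card_clifford h hM θ hT hHT (fun k => ¬ p ∣ k)]
  exact Nat.card_congr (Equiv.subtypeEquivRight fun ψ =>
    ⟨fun hψ => ⟨fun hd => hψ.1 (hd.mul_left _), hψ.2⟩,
      fun hψ => ⟨fun hd => (hp.dvd_mul.mp hd).elim hidx hψ.1, hψ.2⟩⟩)

/-- **The relative count.** -/
theorem card_above_eq_normalizer {p : ℕ} (hp : p.Prime) (hG : Cfsg.IsPSolvable p Γ) :
    ∀ (n : ℕ) {L M P S : Subgroup Γ} (hLM : L ≤ M), L.relIndex M = n →
    M ≤ Subgroup.normalizer (L : Set Γ) → IsPGroup p S → S ≤ M → ¬ p ∣ S.relIndex M → P = L ⊔ S →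
    ∀ (ν : IrrCharacter L), Inv L P (ν : L → ℂ) →
    ∀ (hLN : L ≤ M ⊓ Subgroup.normalizer (P : Set Γ)),
      Nat.card (Above p hLM (ν : L → ℂ)) = Nat.card (Above p hLN (ν : L → ℂ)) := by
  intro n
  induction n using Nat.strong_induction_on with
  | _ n ih =>
  intro L M P S hLM hn hML hS hSM hidx hP ν hν hLN
  set N := M ⊓ Subgroup.normalizer (P : Set Γ) with hNdef
  have hSP : S ≤ P := hP ▸ le_sup_right
  have hLP : L ≤ P := hP ▸ le_sup_left
  have hPM : P ≤ M := hP ▸ sup_le hLM hSM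
  have hPN : P ≤ N := le_inf hPM Subgroup.le_normalizer
  by_cases hinv : Inv L M (ν : L → ℂ)
  swap
  · -- reduce to the inertia group
    set T := stab hML (ν : L → ℂ) with hT
    have hclν := isClassFunction_of_isCharacter (isCharacter_of_isIrr ν.2)
    have hLT : L ≤ T := le_stab hLM hclν
    have hST : S ≤ T := fun s hs => ⟨hSM hs, hν s (hSP hs)⟩
    have hTM : T ≠ M := fun e => hinv fun g hg => (mem_stab.mp (e.ge hg)).2
    obtain ⟨hidxT, hidxM⟩ := not_dvd_relIndex_of_le hST stab_le hidx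
    have hLN' : L ≤ T ⊓ Subgroup.normalizer (P : Set Γ) :=
      le_inf hLT (hLP.trans Subgroup.le_normalizer)
    have e := ih (L.relIndex T) (hn ▸ relIndex_lt hLT stab_le hTM) hLT rfl (stab_le.trans hML) hS
      hST hidxT hP ν hν hLN'
    rw [card_above_stab hp hLM hML ν hT hLT hidxM, e]
    have hNL : N ≤ Subgroup.normalizer (L : Set Γ) := inf_le_left.trans hML
    have hT' : T ⊓ Subgroup.normalizer (P : Set Γ) = stab hNL (ν : L → ℂ) := by
      ext g
      exact ⟨fun h => ⟨⟨(mem_stab.mp h.1).1, h.2⟩, (mem_stab.mp h.1).2⟩,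
        fun h => ⟨⟨h.1.1, h.2⟩, h.1.2⟩⟩
    have hS' : S ≤ T ⊓ Subgroup.normalizer (P : Set Γ) :=
      le_inf hST (hSP.trans Subgroup.le_normalizer)
    refine (card_above_stab hp hLN hNL ν hT' hLN' ?_).symm
    exact (not_dvd_relIndex_of_le hS' (inf_le_inf_right _ stab_le)
      (not_dvd_relIndex_of_le (hSP.trans hPN) inf_le_left hidx).1).2
  by_cases hnorm : M ≤ Subgroup.normalizer (P : Set Γ)
  · exact above_congr (inf_eq_left.mpr hnorm).symm hLM hLN _
  have hne : L ≠ M := by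
    rintro rfl
    exact hnorm ((le_antisymm hLP hPM) ▸ Subgroup.le_normalizer)
  obtain ⟨K, hLK, hKne, hKM, hMK, hlayer⟩ := exists_layer_above hp hG hLM hML hne
  have hlt : K.relIndex M < n := hn ▸ relIndex_lt' hLK hKM hKne
  rcases hlayer with ⟨a, ha⟩ | hK'
  · -- a `p`-layer lies in `P`
    have hKP : K ≤ P := by
      have hPK : P ≤ Subgroup.normalizer (K : Set Γ) := hPM.trans hMK
      have h1 : ¬ p ∣ P.relIndex (P ⊔ K) :=
        (not_dvd_relIndex_of_le (hSP.trans le_sup_left) (sup_le hPM hKM) hidx).1 |> fun h =>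
          (not_dvd_relIndex_of_le hSP le_sup_left h).2
      have h2 : P.relIndex (P ⊔ K) ∣ p ^ a := by
        have h3 := Subgroup.relIndex_mul_relIndex L P (P ⊔ K) hLP le_sup_left
        have h4 := Subgroup.relIndex_mul_relIndex L K (P ⊔ K) hLK le_sup_right
        rw [sup_comm P K, CfsgLib.Coprime.relIndex_sup_of_le_normalizer hPK] at h4
        have h5 : K.relIndex P ∣ L.relIndex P := Subgroup.relIndex_dvd_of_le_left P hLK
        obtain ⟨c, hc⟩ := h5
        rw [sup_comm K P, ← h3, hc, ha] at h4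
        refine ⟨c, ?_⟩
        have hpos : 0 < K.relIndex P := Nat.pos_of_ne_zero Subgroup.index_ne_zero_of_finite
        refine Nat.eq_of_mul_eq_mul_left hpos ?_
        rw [mul_comm (P.relIndex (P ⊔ K)) c, ← mul_assoc, ← h4]
        ring
      obtain ⟨i, -, hi⟩ := (Nat.dvd_prime_pow hp).mp h2
      rcases i with _ | i
      · exact le_sup_right.trans (Subgroup.relIndex_eq_one.mp (by rw [hi, pow_zero]))
      · exact absurd (hi ▸ dvd_pow_self p i.succ_ne_zero) h1
    refine card_above_eq (M₁ := M) (M₂ := N) hp hS hP hLK inf_le_left (hSP.trans hPN)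
      (hKP.trans hPN) hidx hML hMK hinv le_rfl fun θ _ _ hθ => ?_
    refine ih _ hlt hKM rfl hMK hS hSM hidx ?_ θ hθ (hKP.trans hPN)
    exact le_antisymm (hP.le.trans (sup_le_sup_right hLK S)) (sup_le hKP hSP)
  · -- a `p'`-layer
    set M' := M ⊓ Subgroup.normalizer ((K ⊔ P : Subgroup Γ) : Set Γ) with hM'
    have hKM' : K ≤ M' := le_inf hKM (le_sup_left.trans Subgroup.le_normalizer)
    have hSM' : S ≤ M' := le_inf hSM ((hSP.trans le_sup_right).trans Subgroup.le_normalizer)
    have hKS : K ⊔ P = K ⊔ S := by rw [hP, ← sup_assoc, sup_eq_left.mpr hLK]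
    have hNM' : N ≤ M' := fun x hx =>
      ⟨hx.1, mem_normalizer_sup_of (hMK hx.1) hx.2⟩
    have e1 : Nat.card (Above p hLM (ν : L → ℂ)) =
        Nat.card (Above p (hLK.trans hKM') (ν : L → ℂ)) := by
      refine card_above_eq (M₁ := M) (M₂ := M') hp hS hP hLK inf_le_left hSM' hKM' hidx hML hMK
        hinv hNM' fun θ _ _ hθ => ?_
      refine ih _ hlt hKM rfl hMK hS hSM hidx hKS θ ?_ hKM'
      exact (inv_sup_iff Subgroup.le_normalizer (hPM.trans hMK)).mpr
        ⟨inv_self le_rfl (isClassFunction_of_isCharacter (isCharacter_of_isIrr θ.2)), hθ⟩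
    rw [e1]
    have hMeq : M' ⊓ Subgroup.normalizer (P : Set Γ) = N :=
      le_antisymm (inf_le_inf_right _ inf_le_left) (le_inf hNM' inf_le_right)
    have hLN' : L ≤ M' ⊓ Subgroup.normalizer (P : Set Γ) := hMeq ▸ hLN
    rw [← above_congr hMeq hLN' hLN]
    by_cases hlt' : M' = M
    · have D : Data p K L P S :=
        { prime := hp, hLK := hLK, hKL := hKM.trans hML, hPK := hPM.trans hMK, hPL := hPM.trans hML,
          hidx := hK', hS := hS, hP := hP }
      exact card_above_pprime D hSM' (not_dvd_relIndex_of_le hSM' inf_le_left hidx).1 hKM'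
        (inf_le_left.trans hMK) (inf_le_left.trans hML) inf_le_right (inv_mono inf_le_left hinv) hLN'
    · exact ih _ (hn ▸ relIndex_lt (hLK.trans hKM') inf_le_left hlt') (hLK.trans hKM') rfl
        (inf_le_left.trans hML) hS hSM' (not_dvd_relIndex_of_le hSM' inf_le_left hidx).1 hP ν hν hLN'

end CfsgLib.Char.RelMcKay
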