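import Cfsg.Agent.Lib.Char.RelMcKay.Ext
import Cfsg.Agent.Lib.Char.RelMcKay.Corr
import Cfsg.Agent.Lib.Coprime.Action
import Cfsg.Agent.Lib.Char.InducedRestrict
import Cfsg.Agent.Lib.Char.PowerExtension
import Cfsg.Agent.Lib.RelDegreeGraph.Det

/-!
# Pairs of characters of `KP` and `CP` of degree prime to `p`

The restrictions correspond and the determinants on `P` are tied by the degrees.
-/

set_option autoImplicit false
set_option linter.style.haveILetI false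
set_option linter.unusedSectionVars false

namespace CfsgLib.Char.RelMcKay

open Cfsg CfsgLib.Char
open CfsgLib.Char.Glauberman (Inv res conjEquiv inv_sup inv_mono isCharacter_res)
open CfsgLib.Char.RelGlauberman (conjChar relFix)
open scoped ComplexConjugate CfsgLib.Char Pointwise

attribute [local instance 10000] Fintype.ofFinite
attribute [local instance 100000] CfsgLib.Char.instFintypeIrrCharacter

variable {Γ : Type*} [Group Γ] [Finite Γ]

theorem over_unique {L M : Subgroup Γ} (h : L ≤ M) (hM : M ≤ Subgroup.normalizer (L : Set Γ))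
    {χ : M → ℂ} (hχ : IsIrrCharacter M χ) {ν : IrrCharacter L} (hinv : Inv L M (ν : L → ℂ))
    (hov : Over h χ (ν : L → ℂ)) {ν' : IrrCharacter L} (hov' : Over h χ (ν' : L → ℂ)) : ν' = ν := by
  obtain ⟨g, hg, e⟩ := exists_conj_of_over h hM hχ hov hov'
  rw [← e]
  exact (fixes_iff_conjChar (hM hg)).mp (hinv g hg)

theorem isIrr_twist {A B : Subgroup Γ} (h : A ≤ B) (hB : B ≤ Subgroup.normalizer (A : Set Γ))
    {θ : A → ℂ} (hθ : IsIrrCharacter A θ) {χ : B → ℂ} (hχ : IsIrrCharacter B χ)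
    (e : res h χ = θ) {β : B →* ℂˣ} (hβ : ∀ b : B, (b : Γ) ∈ A → β b = 1) :
    IsIrrCharacter B (fun b => (β b : ℂ) * χ b) := by
  haveI := normal_sub hB
  have hav : avgN (A.subgroupOf B) (fun b => (β b : ℂ)) = fun b => (β b : ℂ) := by
    funext b
    have : ∀ a : A.subgroupOf B, (β ((a : B) * b) : ℂ) = β b := fun a => by
      rw [map_mul, hβ a a.2, one_mul]
    simp only [avgN, this, Finset.sum_const, Finset.card_univ, ← Nat.card_eq_fintype_card,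
      nsmul_eq_mul]
    rw [inv_mul_cancel_left₀ (Nat.cast_ne_zero.mpr Nat.card_pos.ne')]
  exact (extension_mul_isIrr (A.subgroupOf B) (isIrr_toSub h hθ) hχ
    (fun a => congrFun e (Subgroup.subgroupOfEquivOfLe h a)) (isIrrCharacter_monoidHom β) hav).1

theorem detChar_res {A B : Subgroup Γ} (h : A ≤ B) {χ : B → ℂ} (hχ : IsCharacter B χ) (a : A) :
    detChar (res h χ) a = detChar χ ⟨a, h a.2⟩ :=
  detChar_comp (Subgroup.inclusion h) hχ a

theorem detChar_of_res_smul {L B : Subgroup Γ} (h : L ≤ B) {χ : B → ℂ} (hχ : IsCharacter B χ)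
    {ν : L → ℂ} (hν : IsCharacter L ν) {e : ℕ} (he : res h χ = (e : ℂ) • ν) (l : L) :
    detChar χ ⟨l, h l.2⟩ = detChar ν l ^ e := by
  rw [← detChar_res h hχ l, he, Nat.cast_smul_eq_nsmul, RelDegreeGraph.detChar_nsmul hν]

theorem detChar_conj {A : Subgroup Γ} (χ : IrrCharacter A) {y : Γ}
    (hy : y ∈ Subgroup.normalizer (A : Set Γ)) (a : A) :
    detChar (conjChar χ hy : A → ℂ) a = detChar (χ : A → ℂ) (conjEquiv hy a) :=
  detChar_comp (conjEquiv hy).toMonoidHom (isCharacter_of_isIrr χ.2) a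

theorem res_conjChar {A B : Subgroup Γ} (h : A ≤ B) {χ : IrrCharacter B} {θ : IrrCharacter A}
    (e : res h (χ : B → ℂ) = (θ : A → ℂ)) {y : Γ} (hyB : y ∈ Subgroup.normalizer (B : Set Γ))
    (hyA : y ∈ Subgroup.normalizer (A : Set Γ)) :
    res h (conjChar χ hyB : B → ℂ) = (conjChar θ hyA : A → ℂ) := by
  funext a
  exact Eq.trans (congrArg (χ : B → ℂ) (Subtype.ext rfl)) (congrFun e (conjEquiv hyA a))

theorem extend_hom {A B Z : Subgroup Γ} (hBZ : B ≤ Z)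
    (hn : Z ≤ Subgroup.normalizer (A : Set Γ)) (hsup : Z = A ⊔ B) {M : Type*} [CommGroup M]
    (f : B →* M) (hf : ∀ b : B, (b : Γ) ∈ A → f b = 1) :
    ∃ F : Z →* M, (∀ z : Z, (z : Γ) ∈ A → F z = 1) ∧ ∀ b : B, F ⟨b, hBZ b.2⟩ = f b := by
  haveI := normal_sub hn
  set g : B →* Z ⧸ A.subgroupOf Z := (QuotientGroup.mk' _).comp (Subgroup.inclusion hBZ)
  have hg : Function.Surjective g := by
    intro q
    obtain ⟨z, rfl⟩ := QuotientGroup.mk'_surjective (A.subgroupOf Z) q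
    have hz : (z : Γ) ∈ (A : Set Γ) * (B : Set Γ) := by
      rw [← Subgroup.coe_mul_of_right_le_normalizer_left _ _ (hBZ.trans hn), SetLike.mem_coe, ← hsup]
      exact z.2
    obtain ⟨a, ha, b, hb, e⟩ := Set.mem_mul.mp hz
    refine ⟨⟨b, hb⟩, ?_⟩
    show QuotientGroup.mk' _ _ = _
    rw [← mul_inv_eq_one, ← map_inv, ← map_mul, ← MonoidHom.mem_ker, QuotientGroup.ker_mk',
      Subgroup.mem_subgroupOf]
    simp only [Subgroup.coe_mul, Subgroup.coe_inv, Subgroup.coe_inclusion]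
    rw [← e, show b * (a * b)⁻¹ = a⁻¹ by group]
    exact inv_mem ha
  have hker : g.ker ≤ f.ker := fun b hb => hf b (by
    have h1 : Subgroup.inclusion hBZ b ∈ (QuotientGroup.mk' (A.subgroupOf Z)).ker := hb
    rwa [QuotientGroup.ker_mk'] at h1)
  refine ⟨(g.liftOfSurjective hg ⟨f, hker⟩).comp (QuotientGroup.mk' _), fun z hz => ?_, fun b => ?_⟩
  · rw [MonoidHom.comp_apply,
      show QuotientGroup.mk' (A.subgroupOf Z) z = 1 from (QuotientGroup.eq_one_iff z).mpr hz, map_one]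
  · exact MonoidHom.liftOfRightInverse_comp_apply g _ (Function.rightInverse_surjInv hg) _ b

namespace Data

variable {p : ℕ} {K L P S : Subgroup Γ} (D : Data p K L P S)
include D

theorem inf_eq : P ⊓ K = L := by
  refine le_antisymm (fun z hz => ?_) (le_inf D.L_le D.hLK)
  haveI := Fact.mk D.prime
  obtain ⟨hzP, hzK⟩ := hz
  have h1 : z ∈ (L : Set Γ) * (S : Set Γ) := by
    rw [← Subgroup.coe_mul_of_right_le_normalizer_left L S (D.S_le.trans D.hPL), SetLike.mem_coe,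
      ← D.hP]
    exact hzP
  obtain ⟨l, hl, s, hs, rfl⟩ := Set.mem_mul.mp h1
  refine mul_mem hl ?_
  have hsK : s ∈ K := by
    rw [show s = l⁻¹ * (l * s) by rw [inv_mul_cancel_left]]
    exact K.mul_mem (K.inv_mem (D.hLK hl)) hzK
  obtain ⟨k, hk⟩ := IsPGroup.iff_orderOf.mp D.hS ⟨s, hs⟩
  have hsk : s ^ (p ^ k) = 1 := by
    rw [← hk, Subgroup.orderOf_mk]
    exact pow_orderOf_eq_one s
  haveI := normal_sub D.hKL
  have hm : s ^ L.relIndex K ∈ L := by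
    have := (L.subgroupOf K).pow_index_mem ⟨s, hsK⟩
    rwa [Subgroup.mem_subgroupOf, SubgroupClass.coe_pow] at this
  have hcop : (p ^ k).Coprime (L.relIndex K) :=
    (Nat.Prime.coprime_iff_not_dvd D.prime).mpr D.hidx |>.pow_left k
  have := Nat.gcd_eq_gcd_ab (p ^ k) (L.relIndex K)
  rw [hcop.gcd_eq_one, Nat.cast_one] at this
  rw [show s = s ^ (1 : ℤ) from (zpow_one s).symm, this, zpow_add, zpow_mul, zpow_natCast, hsk,
    one_zpow, one_mul, zpow_mul, zpow_natCast]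
  exact zpow_mem hm _

theorem C_inf : P ⊓ D.C = L :=
  le_antisymm ((inf_le_inf_left P D.C_le).trans D.inf_eq.le) (le_inf D.L_le D.L_le_C)

theorem inf_normalizer_le : K ⊓ Subgroup.normalizer (P : Set Γ) ≤ D.C := fun k hk =>
  ⟨hk.1, fun z hz => by
    have h1 : z * k * z⁻¹ * k⁻¹ ∈ P ⊓ K := by
      refine ⟨?_, K.mul_mem ((Subgroup.mem_normalizer_iff.mp (D.hPK hz) k).mp hk.1) (K.inv_mem hk.1)⟩
      rw [show z * k * z⁻¹ * k⁻¹ = z * (k * z⁻¹ * k⁻¹) by group]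
      exact P.mul_mem hz ((Subgroup.mem_normalizer_iff.mp hk.2 _).mp (P.inv_mem hz))
    rwa [D.inf_eq] at h1⟩

theorem C_normP : D.C ≤ Subgroup.normalizer (P : Set Γ) := by
  intro c hc
  have key : ∀ c ∈ D.C, ∀ z ∈ P, c * z * c⁻¹ ∈ P := fun c hc z hz => by
    rw [show c * z * c⁻¹ = (z * c * z⁻¹ * c⁻¹)⁻¹ * z by group]
    exact P.mul_mem (P.inv_mem (D.L_le (hc.2 z hz))) hz
  refine Subgroup.mem_normalizer_iff.mpr fun z => ⟨key c hc z, fun hz => ?_⟩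
  have := key _ (inv_mem hc) _ hz
  simpa [mul_assoc] using this

/-- A `p`-power times an element of `L`. -/
theorem pow_card_mem {z : Γ} (hz : z ∈ P) : z ^ Nat.card S ∈ L := by
  have hn : (L.subgroupOf P).Normal := normal_sub D.hPL
  haveI := hn
  have h1 : z ∈ (L : Set Γ) * (S : Set Γ) := by
    rw [← Subgroup.coe_mul_of_right_le_normalizer_left L S (D.S_le.trans D.hPL), SetLike.mem_coe,
      ← D.hP]
    exact hz
  obtain ⟨l, hl, s, hs, rfl⟩ := Set.mem_mul.mp h1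
  have h2 : QuotientGroup.mk' (L.subgroupOf P) (⟨l * s, hz⟩ ^ Nat.card S) = 1 := by
    rw [map_pow, show (⟨l * s, hz⟩ : P) = ⟨l, D.L_le hl⟩ * ⟨s, D.S_le hs⟩ from rfl, map_mul,
      show QuotientGroup.mk' (L.subgroupOf P) ⟨l, D.L_le hl⟩ = 1 from
        (QuotientGroup.eq_one_iff _).mpr hl, one_mul, ← map_pow,
      show (⟨s, D.S_le hs⟩ : P) ^ Nat.card S = 1 from Subtype.ext (by
        have h3 := congrArg Subtype.val (pow_card_eq_one' (x := (⟨s, hs⟩ : S)))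
        rw [SubgroupClass.coe_pow] at h3 ⊢
        exact h3), map_one]
  rwa [QuotientGroup.mk'_apply, QuotientGroup.eq_one_iff, Subgroup.mem_subgroupOf,
    SubgroupClass.coe_pow] at h2

theorem relIndex_sup_pow {A : Subgroup Γ} (hA : L ≤ A) (hPA : P ≤ Subgroup.normalizer (A : Set Γ)) :
    ∃ a : ℕ, A.relIndex (A ⊔ P) ∣ p ^ a := by
  haveI := Fact.mk D.prime
  obtain ⟨a, ha⟩ := IsPGroup.iff_card.mp D.hS
  refine ⟨a, ?_⟩
  rw [CfsgLib.Coprime.relIndex_sup_of_le_normalizer hPA]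
  refine (Subgroup.relIndex_dvd_of_le_left P hA).trans ?_
  conv_lhs => arg 2; rw [D.hP]
  rw [CfsgLib.Coprime.relIndex_sup_of_le_normalizer (D.S_le.trans D.hPL), ← ha]
  exact Subgroup.relIndex_dvd_card L S

theorem eq_one_of_dvd {A : Subgroup Γ} (hA : L ≤ A) (hPA : P ≤ Subgroup.normalizer (A : Set Γ))
    {k : ℕ} (hk : k ∣ A.relIndex (A ⊔ P)) (hnd : ¬ p ∣ k) : k = 1 := by
  obtain ⟨a, ha⟩ := D.relIndex_sup_pow hA hPA
  obtain ⟨i, -, hi⟩ := (Nat.dvd_prime_pow D.prime).mp (hk.trans ha)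
  rcases i with _ | i
  · rw [hi, pow_zero]
  · exact absurd (hi ▸ dvd_pow_self p i.succ_ne_zero) hnd

/-- A character of `AP` of degree prime to `p` restricts irreducibly to `A`. -/
theorem exists_res_irr {A : Subgroup Γ} (hA : L ≤ A) (hPA : P ≤ Subgroup.normalizer (A : Set Γ))
    (χ : IrrCharacter ↥(A ⊔ P)) (hχ : ¬ p ∣ charDegree χ.1) :
    ∃ θ : IrrCharacter A, res le_sup_left χ.1 = (θ : A → ℂ) ∧
      charDegree χ.1 = charDegree (θ : A → ℂ) ∧ Inv A P (θ : A → ℂ) := by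
  obtain ⟨θ, hθ⟩ := exists_over (le_sup_left : A ≤ A ⊔ P) χ.2
  obtain ⟨k, hk, hd⟩ := degree_ratio' le_sup_left (sup_le Subgroup.le_normalizer hPA) χ.2 θ.2 hθ
  have hk1 := D.eq_one_of_dvd hA hPA hd fun h => hχ (hk ▸ h.mul_right _)
  rw [hk1, one_mul] at hk
  have e := res_eq_of_deg le_sup_left χ.2 hθ hk
  refine ⟨θ, e, hk, fun z hz a b eab => ?_⟩
  rw [← congrFun e a, ← congrFun e b]
  exact fixes_of_mem (isClassFunction_of_isCharacter (isCharacter_of_isIrr χ.2))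
    (Subgroup.mem_sup_right (S := A) hz) ⟨a, Subgroup.mem_sup_left a.2⟩
    ⟨b, Subgroup.mem_sup_left b.2⟩ eab

/-- Normalising the determinant by a linear twist. -/
theorem exists_twist_hom {A : Subgroup Γ} (hA : L ≤ A) (hPA : P ≤ Subgroup.normalizer (A : Set Γ))
    (hAP : P ⊓ A = L) (r : P →* ℂˣ) (hr : ∀ a : P, (a : Γ) ∈ L → r a = 1) {q : ℕ} (hq : ¬ p ∣ q) :
    ∃ β : ↥(A ⊔ P) →* ℂˣ, (∀ b : ↥(A ⊔ P), (b : Γ) ∈ A → β b = 1) ∧
      ∀ a : P, β ⟨a, Subgroup.mem_sup_right a.2⟩ ^ q = r a := by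
  haveI := Fact.mk D.prime
  obtain ⟨k, hk⟩ := IsPGroup.iff_card.mp D.hS
  have hcop : Nat.Coprime q (p ^ k) :=
    ((Nat.Prime.coprime_iff_not_dvd D.prime).mpr hq).symm.pow_right k
  have hr1 : ∀ a : P, r a ^ (p ^ k) = 1 := fun a => by
    rw [← map_pow, ← hk]
    refine hr _ ?_
    rw [SubgroupClass.coe_pow]
    exact D.pow_card_mem a.2
  obtain ⟨F, hF1, hF2⟩ := extend_hom (A := A) (B := P) (Z := A ⊔ P) le_sup_right
    (sup_le Subgroup.le_normalizer hPA) rfl ((zpowGroupHom (Nat.gcdA q (p ^ k))).comp r)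
    fun b hb => by
      rw [MonoidHom.comp_apply, hr b (hAP ▸ ⟨b.2, hb⟩), map_one]
  refine ⟨F, hF1, fun a => ?_⟩
  rw [hF2, MonoidHom.comp_apply, zpowGroupHom_apply, ← zpow_natCast, ← zpow_mul]
  have h1 := Nat.gcd_eq_gcd_ab q (p ^ k)
  rw [hcop.gcd_eq_one, Nat.cast_one] at h1
  have h2 : r a ^ ((Nat.gcdA q (p ^ k)) * q + (Nat.gcdB q (p ^ k)) * ((p ^ k : ℕ) : ℤ)) = r a := by
    rw [show Nat.gcdA q (p ^ k) * q + Nat.gcdB q (p ^ k) * ((p ^ k : ℕ) : ℤ) = (1 : ℤ) by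
      rw [h1]; ring, zpow_one]
  rw [zpow_add, zpow_mul' (r a) (Nat.gcdB q (p ^ k)), zpow_natCast, hr1, one_zpow, mul_one] at h2
  exact h2

/-- The relation between characters of `KP` and `CP`. -/
def Pair (θh : IrrCharacter ↥(K ⊔ P)) (φh : IrrCharacter ↥(D.C ⊔ P)) : Prop :=
  ∃ (θ : IrrCharacter K) (φ : IrrCharacter D.C),
    res le_sup_left θh.1 = (θ : K → ℂ) ∧ res le_sup_left φh.1 = (φ : D.C → ℂ) ∧
      Inv K P (θ : K → ℂ) ∧ Corr p P θ φ ∧ ¬ p ∣ charDegree (θ : K → ℂ) ∧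
      ∀ a : P, detChar θh.1 ⟨a, Subgroup.mem_sup_right a.2⟩ ^ charDegree (φ : D.C → ℂ) =
        detChar φh.1 ⟨a, Subgroup.mem_sup_right a.2⟩ ^ charDegree (θ : K → ℂ)

theorem eq_of_det {A : Subgroup Γ} (hA : L ≤ A) (hPA : P ≤ Subgroup.normalizer (A : Set Γ))
    {χ χ' : IrrCharacter ↥(A ⊔ P)} {θ : IrrCharacter A} (e : res le_sup_left χ.1 = (θ : A → ℂ))
    (e' : res le_sup_left χ'.1 = (θ : A → ℂ)) (hθ : ¬ p ∣ charDegree (θ : A → ℂ)) {q : ℕ}
    (hq : ¬ p ∣ q)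
    (hdet : ∀ a : P, detChar χ.1 ⟨a, Subgroup.mem_sup_right a.2⟩ ^ q =
      detChar χ'.1 ⟨a, Subgroup.mem_sup_right a.2⟩ ^ q) : χ = χ' := by
  obtain ⟨β, hβ, he⟩ := twist le_sup_left (sup_le Subgroup.le_normalizer hPA) θ.2 χ.2 χ'.2 e e'
  have hd : χ.1 1 = (charDegree (θ : A → ℂ) : ℂ) := by
    rw [← irr_deg θ.2, ← e, res_one]
  obtain ⟨f, hf⟩ := exists_det_hom (isCharacter_of_isIrr χ.2)
  haveI := Fact.mk D.prime
  obtain ⟨k, hk⟩ := IsPGroup.iff_card.mp D.hS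
  have hone : β = 1 := by
    refine hom_ext_sup rfl hβ fun b hb => ?_
    have h1 := hdet ⟨(b : Γ), hb⟩
    rw [he, detChar_linear_mul (isCharacter_of_isIrr χ.2) β _ hd, hf] at h1
    simp only [mul_pow, ← pow_mul] at h1
    have h2 : β b ^ (charDegree (θ : A → ℂ) * q) = 1 := Units.ext (by
      rw [Units.val_pow_eq_pow_val, Units.val_one]
      exact mul_right_cancel₀ (pow_ne_zero q (Units.ne_zero _)) (h1.symm.trans (one_mul _).symm))
    have h3 : β b ^ (p ^ k) = 1 := by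
      rw [← map_pow, ← hk]
      exact hβ _ (hA (by rw [SubgroupClass.coe_pow]; exact D.pow_card_mem hb))
    have hnd : ¬ p ∣ charDegree (θ : A → ℂ) * q := fun h =>
      (D.prime.dvd_mul.mp h).elim hθ hq
    exact orderOf_eq_one_iff.mp (Nat.eq_one_of_dvd_coprimes
      (((Nat.Prime.coprime_iff_not_dvd D.prime).mpr hnd).pow_left k)
      (orderOf_dvd_of_pow_eq_one h3) (orderOf_dvd_of_pow_eq_one h2))
  refine Subtype.ext ?_
  rw [he, hone]
  simp

theorem pair_left_unique {θh θh' : IrrCharacter ↥(K ⊔ P)} {φh : IrrCharacter ↥(D.C ⊔ P)}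
    (h : D.Pair θh φh) (h' : D.Pair θh' φh) : θh = θh' := by
  obtain ⟨θ, φ, e1, e2, hi, hc, hd, hdet⟩ := h
  obtain ⟨θ', φ', e1', e2', hi', hc', -, hdet'⟩ := h'
  obtain rfl : φ = φ' := Subtype.ext (e2.symm.trans e2')
  obtain rfl : θ = θ' := D.corr_injective hi hi' hc hc'
  refine D.eq_of_det D.hLK D.hPK e1 e1' hd (q := charDegree (φ : D.C → ℂ))
    (fun h => hd ((D.dvd_degree_iff hi hc).mpr h)) fun a => (hdet a).trans (hdet' a).symm

theorem pair_right_unique {θh : IrrCharacter ↥(K ⊔ P)} {φh φh' : IrrCharacter ↥(D.C ⊔ P)}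
    (h : D.Pair θh φh) (h' : D.Pair θh φh') : φh = φh' := by
  obtain ⟨θ, φ, e1, e2, hi, hc, hd, hdet⟩ := h
  obtain ⟨θ', φ', e1', e2', -, hc', -, hdet'⟩ := h'
  obtain rfl : θ = θ' := Subtype.ext (e1.symm.trans e1')
  obtain rfl : φ = φ' := D.corr_unique hi hc hc'
  refine D.eq_of_det D.L_le_C D.P_normC e2 e2' (fun h => hd ((D.dvd_degree_iff hi hc).mpr h))
    (q := charDegree (θ : K → ℂ)) hd fun a => (hdet a).symm.trans (hdet' a)

theorem pair_conj {θh : IrrCharacter ↥(K ⊔ P)} {φh : IrrCharacter ↥(D.C ⊔ P)} (h : D.Pair θh φh)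
    {y : Γ} (hyK : y ∈ Subgroup.normalizer (K : Set Γ))
    (hyC : y ∈ Subgroup.normalizer (D.C : Set Γ)) (hyP : y ∈ Subgroup.normalizer (P : Set Γ))
    (hy1 : y ∈ Subgroup.normalizer ((K ⊔ P : Subgroup Γ) : Set Γ))
    (hy2 : y ∈ Subgroup.normalizer ((D.C ⊔ P : Subgroup Γ) : Set Γ)) :
    D.Pair (conjChar θh hy1) (conjChar φh hy2) := by
  obtain ⟨θ, φ, e1, e2, hi, hc, hd, hdet⟩ := h
  refine ⟨conjChar θ hyK, conjChar φ hyC, res_conjChar _ e1 hy1 hyK, res_conjChar _ e2 hy2 hyC,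
    inv_conjChar hi hyK hyP, hc.conj hyK hyC hyP, by rwa [charDegree_conjChar], fun a => ?_⟩
  rw [charDegree_conjChar, charDegree_conjChar, detChar_conj, detChar_conj]
  exact hdet ⟨y * a * y⁻¹, (Subgroup.mem_normalizer_iff.mp hyP _).mp a.2⟩

variable {ν : IrrCharacter L}

/-- The determinant on `L` is governed by `ν`. -/
theorem det_on_L {A : Subgroup Γ} (hA : L ≤ A) (hAL : A ⊔ P ≤ Subgroup.normalizer (L : Set Γ))
    (hν : Inv L (A ⊔ P) (ν : L → ℂ)) (χ : IrrCharacter ↥(A ⊔ P))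
    (hov : Over (hA.trans le_sup_left) χ.1 (ν : L → ℂ)) :
    ∃ e : ℕ, charDegree χ.1 = e * charDegree (ν : L → ℂ) ∧
      ∀ l : L, detChar χ.1 ⟨l, Subgroup.mem_sup_left (hA l.2)⟩ = detChar (ν : L → ℂ) l ^ e := by
  obtain ⟨e, -, -, he, hd⟩ := res_eq_smul (hA.trans le_sup_left) hAL χ.2 ν.2 hν hov
  exact ⟨e, hd, fun l => detChar_of_res_smul _ (isCharacter_of_isIrr χ.2)
    (isCharacter_of_isIrr ν.2) he l⟩

/-- The normalised twist. -/
theorem exists_normalised {A : Subgroup Γ} (hA : L ≤ A) (hPA : P ≤ Subgroup.normalizer (A : Set Γ))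
    (hAP : P ⊓ A = L) (χ : IrrCharacter ↥(A ⊔ P)) {θ : IrrCharacter A}
    (e : res le_sup_left χ.1 = (θ : A → ℂ)) (hθ : ¬ p ∣ charDegree (θ : A → ℂ)) {q : ℕ}
    (hq : ¬ p ∣ q) (t : P →* ℂˣ)
    (hL : ∀ a : P, (a : Γ) ∈ L →
      detChar χ.1 ⟨a, Subgroup.mem_sup_right a.2⟩ ^ q = (t a : ℂ)) :
    ∃ χ' : IrrCharacter ↥(A ⊔ P), res le_sup_left χ'.1 = (θ : A → ℂ) ∧
      ∀ a : P, detChar χ'.1 ⟨a, Subgroup.mem_sup_right a.2⟩ ^ q = (t a : ℂ) := by
  obtain ⟨f, hf⟩ := exists_det_hom (isCharacter_of_isIrr χ.2)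
  set i : P →* ↥(A ⊔ P) := Subgroup.inclusion le_sup_right
  set r : P →* ℂˣ := t * ((powMonoidHom q).comp (f.comp i))⁻¹
  obtain ⟨β, hβ, hβq⟩ := D.exists_twist_hom hA hPA hAP r (fun a ha => by
      have h := hL a ha
      rw [hf] at h
      simp only [r, MonoidHom.mul_apply, MonoidHom.inv_apply, MonoidHom.comp_apply,
        powMonoidHom_apply, mul_inv_eq_one]
      refine Units.ext ?_
      rw [Units.val_pow_eq_pow_val, ← h]
      rfl)
    (q := charDegree (θ : A → ℂ) * q) (fun h => (D.prime.dvd_mul.mp h).elim hθ hq)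
  have hd : χ.1 1 = (charDegree (θ : A → ℂ) : ℂ) := by rw [← irr_deg θ.2, ← e, res_one]
  refine ⟨⟨_, isIrr_twist le_sup_left (sup_le Subgroup.le_normalizer hPA) θ.2 χ.2 e hβ⟩, ?_,
    fun a => ?_⟩
  · funext x
    show (β _ : ℂ) * χ.1 _ = _
    rw [hβ ⟨x, Subgroup.mem_sup_left x.2⟩ x.2, Units.val_one, one_mul]
    exact congrFun e x
  · show detChar (fun b => (β b : ℂ) * χ.1 b) _ ^ q = _
    rw [detChar_linear_mul (isCharacter_of_isIrr χ.2) β _ hd, hf]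
    have h1 := congrArg Units.val (hβq a)
    rw [mul_pow, ← pow_mul, ← Units.val_pow_eq_pow_val, h1]
    simp [r, i, mul_assoc, Subgroup.inclusion]

theorem over_C_of_over (hM : K ⊔ P ≤ Subgroup.normalizer (L : Set Γ))
    (hν : Inv L (K ⊔ P) (ν : L → ℂ)) {θh : IrrCharacter ↥(K ⊔ P)} {φh : IrrCharacter ↥(D.C ⊔ P)}
    (h : D.Pair θh φh) :
    Over (D.hLK.trans le_sup_left) θh.1 (ν : L → ℂ) ↔
      Over (D.L_le_C.trans le_sup_left) φh.1 (ν : L → ℂ) := by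
  obtain ⟨θ, φ, e1, e2, -, hc, -, -⟩ := h
  have hov := hc.over D.C_le
  have key : Over (D.hLK.trans le_sup_left) θh.1 (ν : L → ℂ) ↔ Over D.hLK (θ : K → ℂ) (ν : L → ℂ) := by
    unfold Over
    rw [← res_res D.hLK le_sup_left, e1]
  have key' : Over (D.L_le_C.trans le_sup_left) φh.1 (ν : L → ℂ) ↔
      Over D.L_le_C (φ : D.C → ℂ) (ν : L → ℂ) := by
    unfold Over
    rw [← res_res D.L_le_C le_sup_left, e2]
  rw [key, key']
  constructor
  · intro h1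
    obtain ⟨ν', hν'⟩ := exists_over D.L_le_C φ.2
    have h2 : Over D.hLK (θ : K → ℂ) (ν' : L → ℂ) :=
      (over_mid D.L_le_C D.C_le (isCharacter_of_isIrr θ.2) (isCharacter_of_isIrr ν'.2)).mpr
        ⟨φ, hov, hν'⟩
    rwa [over_unique D.hLK D.hKL θ.2 (inv_mono le_sup_left hν) h1 h2] at hν'
  · intro h1
    exact (over_mid D.L_le_C D.C_le (isCharacter_of_isIrr θ.2) (isCharacter_of_isIrr ν.2)).mpr
      ⟨φ, hov, h1⟩

theorem pair_deg {θh : IrrCharacter ↥(K ⊔ P)} {φh : IrrCharacter ↥(D.C ⊔ P)} (h : D.Pair θh φh) :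
    ¬ p ∣ charDegree θh.1 ∧ ¬ p ∣ charDegree φh.1 := by
  obtain ⟨θ, φ, e1, e2, hi, hc, hd, -⟩ := h
  have h1 : charDegree θh.1 = charDegree (θ : K → ℂ) :=
    charDegree_eq (by rw [← irr_deg θ.2, ← e1, res_one])
  have h2 : charDegree φh.1 = charDegree (φ : D.C → ℂ) :=
    charDegree_eq (by rw [← irr_deg φ.2, ← e2, res_one])
  exact ⟨h1 ▸ hd, h2 ▸ fun h => hd ((D.dvd_degree_iff hi hc).mpr h)⟩

theorem exists_pair_right (hM : K ⊔ P ≤ Subgroup.normalizer (L : Set Γ))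
    (hν : Inv L (K ⊔ P) (ν : L → ℂ)) (θh : IrrCharacter ↥(K ⊔ P))
    (hd : ¬ p ∣ charDegree θh.1) (hov : Over (D.hLK.trans le_sup_left) θh.1 (ν : L → ℂ)) :
    ∃ φh : IrrCharacter ↥(D.C ⊔ P), D.Pair θh φh := by
  classical
  obtain ⟨θ, e1, hdeg, hi⟩ := D.exists_res_irr D.hLK D.hPK θh hd
  obtain ⟨φ, hc⟩ := D.exists_corr hi
  have hφd : ¬ p ∣ charDegree (φ : D.C → ℂ) := fun h => hd (hdeg ▸ (D.dvd_degree_iff hi hc).mpr h)
  have hCP : D.C ⊔ P ≤ K ⊔ P := sup_le_sup_right D.C_le P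
  obtain ⟨_, hφi, m, hm, hnd⟩ := id hc
  choose a ha using fun ψ : IrrCharacter ↥(D.C ⊔ P) => exists_nat_classInner
    (isCharacter_res hCP (isCharacter_of_isIrr θh.2)) (isCharacter_of_isIrr ψ.2)
  choose b hb using fun ψ : IrrCharacter ↥(D.C ⊔ P) => exists_nat_classInner
    (isCharacter_res (le_sup_left : D.C ≤ D.C ⊔ P) (isCharacter_of_isIrr ψ.2))
    (isCharacter_of_isIrr φ.2)
  have hsum : m = ∑ ψ, a ψ * b ψ := by
    have h := classInner_res_trans (le_sup_left : D.C ≤ D.C ⊔ P) hCP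
      (isClassFunction_of_isCharacter (isCharacter_of_isIrr θh.2)) (φ : D.C → ℂ)
    rw [show res ((le_sup_left : D.C ≤ D.C ⊔ P).trans hCP) θh.1 = res D.C_le (θ : K → ℂ) by
      rw [← e1]; rfl, hm] at h
    simp only [ha, hb] at h
    exact_mod_cast h
  obtain ⟨ψ, hψ⟩ : ∃ ψ, ¬ p ∣ a ψ * b ψ := by
    by_contra h
    push Not at h
    exact hnd (hsum ▸ Finset.dvd_sum fun ψ _ => h ψ)
  have hbne : b ψ ≠ 0 := fun e => hψ (by simp [e])
  have hCn : D.C ⊔ P ≤ Subgroup.normalizer (D.C : Set Γ) := sup_le Subgroup.le_normalizer D.P_normC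
  have hφinv : Inv D.C (D.C ⊔ P) (φ : D.C → ℂ) :=
    (inv_sup_iff Subgroup.le_normalizer D.P_normC).mpr
      ⟨inv_self le_rfl (isClassFunction_of_isCharacter (isCharacter_of_isIrr φ.2)), hφi⟩
  have hovψ : Over le_sup_left ψ.1 (φ : D.C → ℂ) := by
    unfold Over; rw [hb, Nat.cast_ne_zero]; exact hbne
  obtain ⟨e, -, he, -, hed⟩ := res_eq_smul le_sup_left hCn ψ.2 φ.2 hφinv hovψ
  have heb : e = b ψ := Nat.cast_injective (R := ℂ) (he.symm.trans (hb ψ))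
  obtain ⟨k, hk, hkd⟩ := degree_ratio' le_sup_left hCn ψ.2 φ.2 hovψ
  have hke : k = e := Nat.eq_of_mul_eq_mul_right (irr_deg_pos φ.2) (hk.symm.trans hed)
  have he1 : e = 1 := D.eq_one_of_dvd D.L_le_C D.P_normC (hke ▸ hkd)
    fun h => hψ ((heb ▸ h).mul_left _)
  have e2 : res le_sup_left ψ.1 = (φ : D.C → ℂ) :=
    res_eq_of_deg le_sup_left ψ.2 hovψ (by rw [hed, he1, one_mul])
  obtain ⟨f, hf⟩ := exists_det_hom (isCharacter_of_isIrr θh.2)
  set t : P →* ℂˣ := (powMonoidHom (charDegree (φ : D.C → ℂ))).comp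
    (f.comp (Subgroup.inclusion (le_sup_right : P ≤ K ⊔ P))) with ht
  have htval : ∀ a : P, (t a : ℂ) =
      detChar θh.1 ⟨a, Subgroup.mem_sup_right a.2⟩ ^ charDegree (φ : D.C → ℂ) := fun a => by
    rw [hf]; simp [t, Subgroup.inclusion]
  -- the compatibility on `L`
  have hνC : Inv L (D.C ⊔ P) (ν : L → ℂ) := inv_mono hCP hν
  obtain ⟨eθ, heθ, hdθ⟩ := D.det_on_L D.hLK hM hν θh hov
  have hovC : Over (D.L_le_C.trans le_sup_left) ψ.1 (ν : L → ℂ) := by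
    obtain ⟨ν', hν'⟩ := exists_over D.L_le_C φ.2
    have h1 : Over (D.hLK.trans le_sup_left) θh.1 (ν' : L → ℂ) := by
      unfold Over
      rw [← res_res D.hLK le_sup_left, e1]
      exact (over_mid D.L_le_C D.C_le (isCharacter_of_isIrr θ.2) (isCharacter_of_isIrr ν'.2)).mpr
        ⟨φ, hc.over D.C_le, hν'⟩
    rw [over_unique (D.hLK.trans le_sup_left) hM θh.2 hν hov h1] at hν'
    unfold Over
    rw [← res_res D.L_le_C le_sup_left, e2]
    exact hν'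
  obtain ⟨eψ, heψ, hdψ⟩ := D.det_on_L D.L_le_C (hCP.trans hM) hνC ψ hovC
  have hψdeg : charDegree ψ.1 = charDegree (φ : D.C → ℂ) :=
    charDegree_eq (by rw [← irr_deg φ.2, ← e2, res_one])
  obtain ⟨φh, e3, hdet⟩ := D.exists_normalised D.L_le_C D.P_normC D.C_inf ψ e2 hφd
    (q := charDegree (θ : K → ℂ)) (hdeg ▸ hd) t fun x hx => by
      have h1 := hdψ ⟨x, hx⟩
      have h2 := hdθ ⟨x, hx⟩
      rw [htval]
      rw [show detChar ψ.1 ⟨(x : Γ), Subgroup.mem_sup_right x.2⟩ = _ from h1,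
        show detChar θh.1 ⟨(x : Γ), Subgroup.mem_sup_right x.2⟩ = _ from h2, ← pow_mul, ← pow_mul]
      congr 1
      rw [← hdeg, heθ, ← hψdeg, heψ]
      ring
  exact ⟨φh, θ, φ, e1, e3, hi, hc, hdeg ▸ hd, fun x => by rw [hdet x, htval x]⟩

theorem classInner_ind_res (φh : IrrCharacter ↥(D.C ⊔ P)) {φ : IrrCharacter D.C}
    (e2 : res le_sup_left φh.1 = (φ : D.C → ℂ)) (θ : IrrCharacter K)
    (hCP : D.C ⊔ P ≤ K ⊔ P) :
    classInner (res (le_sup_left : K ≤ K ⊔ P)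
        (indFun ((D.C ⊔ P).subgroupOf (K ⊔ P)) fun x => φh.1 (Subgroup.subgroupOfEquivOfLe hCP x)))
      (θ : K → ℂ) = classInner (φ : D.C → ℂ) (res D.C_le (θ : K → ℂ)) := by
  classical
  set Z := K ⊔ P
  haveI := normal_sub (show Z ≤ Subgroup.normalizer (K : Set Γ) from
    sup_le Subgroup.le_normalizer D.hPK)
  have htop : K.subgroupOf Z ⊔ (D.C ⊔ P).subgroupOf Z = ⊤ := by
    rw [← Subgroup.subgroupOf_sup le_sup_left hCP, ← sup_assoc, sup_eq_left.mpr D.C_le,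
      Subgroup.subgroupOf_self]
  set φ' : (D.C ⊔ P).subgroupOf Z → ℂ := fun x => φh.1 (Subgroup.subgroupOfEquivOfLe hCP x) with hφ'
  have hmac := indFun_restrict_of_sup_eq_top (K.subgroupOf Z) ((D.C ⊔ P).subgroupOf Z) htop
    (θ := φ') (isClassFunction_of_isCharacter (isCharacter_of_isIrr
      (isIrrCharacter_comp_mulEquiv _ φh.2)))
  have hle : ∀ x : Γ, x ∈ K → x ∈ D.C ⊔ P → x ∈ D.C := by
    intro x hxK hx
    have h1 : x ∈ (D.C : Set Γ) * (P : Set Γ) := by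
      rw [← Subgroup.coe_mul_of_right_le_normalizer_left _ _ D.P_normC]
      exact hx
    obtain ⟨c, hc, z, hz, rfl⟩ := Set.mem_mul.mp h1
    refine mul_mem hc (D.L_le_C ?_)
    rw [← D.inf_eq]
    refine ⟨hz, ?_⟩
    rw [show z = c⁻¹ * (c * z) by rw [inv_mul_cancel_left]]
    exact K.mul_mem (K.inv_mem (D.C_le hc)) hxK
  let E : D.C ≃* ↥(((D.C ⊔ P).subgroupOf Z).subgroupOf (K.subgroupOf Z)) :=
    { toFun := fun c => ⟨⟨⟨c, Subgroup.mem_sup_left (D.C_le c.2)⟩, D.C_le c.2⟩,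
        show (c : Γ) ∈ D.C ⊔ P from Subgroup.mem_sup_left c.2⟩
      invFun := fun x => ⟨(x.1.1 : Γ), hle _ x.1.2 x.2⟩
      left_inv := fun c => rfl
      right_inv := fun x => rfl
      map_mul' := fun a b => rfl }
  rw [← classInner_toSub, hmac, frobenius_reciprocity _ _
    (isClassFunction_of_isCharacter (isCharacter_of_isIrr (isIrr_toSub _ θ.2))),
    ← classInner_comp_mulEquiv E, ← e2]
  rfl

theorem exists_pair_left (hM : K ⊔ P ≤ Subgroup.normalizer (L : Set Γ))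
    (hν : Inv L (K ⊔ P) (ν : L → ℂ)) (φh : IrrCharacter ↥(D.C ⊔ P))
    (hd : ¬ p ∣ charDegree φh.1) (hov : Over (D.L_le_C.trans le_sup_left) φh.1 (ν : L → ℂ)) :
    ∃ θh : IrrCharacter ↥(K ⊔ P), D.Pair θh φh := by
  classical
  obtain ⟨φ, e2, hdeg, hφi⟩ := D.exists_res_irr D.L_le_C D.P_normC φh hd
  obtain ⟨θ, hi, hc⟩ := D.corr_surjective hφi
  have hθd : ¬ p ∣ charDegree (θ : K → ℂ) := fun h => hd (hdeg ▸ (D.dvd_degree_iff hi hc).mp h)
  have hCP : D.C ⊔ P ≤ K ⊔ P := sup_le_sup_right D.C_le P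
  obtain ⟨_, -, m, hm, hnd⟩ := id hc
  set χ := indFun ((D.C ⊔ P).subgroupOf (K ⊔ P))
    fun x => φh.1 (Subgroup.subgroupOfEquivOfLe hCP x) with hχdef
  have hχ : IsCharacter ↥(K ⊔ P) χ :=
    isCharacter_indFun _ (isCharacter_of_isIrr (isIrrCharacter_comp_mulEquiv _ φh.2))
  choose a ha using fun ω : IrrCharacter ↥(K ⊔ P) =>
    exists_nat_classInner (isCharacter_res (le_refl (K ⊔ P)) hχ) (isCharacter_of_isIrr ω.2)
  choose b hb using fun ω : IrrCharacter ↥(K ⊔ P) => exists_nat_classInner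
    (isCharacter_res (le_sup_left : K ≤ K ⊔ P) (isCharacter_of_isIrr ω.2))
    (isCharacter_of_isIrr θ.2)
  have hsum : m = ∑ ω, a ω * b ω := by
    have h := classInner_res_trans (le_sup_left : K ≤ K ⊔ P) (le_refl (K ⊔ P))
      (isClassFunction_of_isCharacter hχ) (θ : K → ℂ)
    rw [D.classInner_ind_res φh e2 θ hCP, ← classInner_conj_symm, hm, map_natCast] at h
    simp only [ha, hb] at h
    exact_mod_cast h
  obtain ⟨ω, hω⟩ : ∃ ω, ¬ p ∣ a ω * b ω := by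
    by_contra h
    push Not at h
    exact hnd (hsum ▸ Finset.dvd_sum fun ω _ => h ω)
  have hbne : b ω ≠ 0 := fun e => hω (by simp [e])
  have hKn : K ⊔ P ≤ Subgroup.normalizer (K : Set Γ) := sup_le Subgroup.le_normalizer D.hPK
  have hθinv : Inv K (K ⊔ P) (θ : K → ℂ) :=
    (inv_sup_iff Subgroup.le_normalizer D.hPK).mpr
      ⟨inv_self le_rfl (isClassFunction_of_isCharacter (isCharacter_of_isIrr θ.2)), hi⟩
  have hovω : Over le_sup_left ω.1 (θ : K → ℂ) := by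
    unfold Over; rw [hb, Nat.cast_ne_zero]; exact hbne
  obtain ⟨e, -, he, -, hed⟩ := res_eq_smul le_sup_left hKn ω.2 θ.2 hθinv hovω
  have heb : e = b ω := Nat.cast_injective (R := ℂ) (he.symm.trans (hb ω))
  obtain ⟨k, hk, hkd⟩ := degree_ratio' le_sup_left hKn ω.2 θ.2 hovω
  have hke : k = e := Nat.eq_of_mul_eq_mul_right (irr_deg_pos θ.2) (hk.symm.trans hed)
  have he1 : e = 1 := D.eq_one_of_dvd D.hLK D.hPK (hke ▸ hkd)
    fun h => hω ((heb ▸ h).mul_left _)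
  have e1 : res le_sup_left ω.1 = (θ : K → ℂ) :=
    res_eq_of_deg le_sup_left ω.2 hovω (by rw [hed, he1, one_mul])
  obtain ⟨f, hf⟩ := exists_det_hom (isCharacter_of_isIrr φh.2)
  set t : P →* ℂˣ := (powMonoidHom (charDegree (θ : K → ℂ))).comp
    (f.comp (Subgroup.inclusion (le_sup_right : P ≤ D.C ⊔ P))) with ht
  have htval : ∀ a : P, (t a : ℂ) =
      detChar φh.1 ⟨a, Subgroup.mem_sup_right a.2⟩ ^ charDegree (θ : K → ℂ) := fun a => by
    rw [hf]; simp [t, Subgroup.inclusion]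
  have hovK : Over (D.hLK.trans le_sup_left) ω.1 (ν : L → ℂ) := by
    unfold Over
    rw [← res_res D.hLK le_sup_left, e1]
    refine (over_mid D.L_le_C D.C_le (isCharacter_of_isIrr θ.2) (isCharacter_of_isIrr ν.2)).mpr
      ⟨φ, hc.over D.C_le, ?_⟩
    have := hov
    unfold Over at this ⊢
    rwa [← res_res D.L_le_C le_sup_left, e2] at this
  obtain ⟨eφ, heφ, hdφ⟩ := D.det_on_L D.L_le_C (hCP.trans hM) (inv_mono hCP hν) φh hov
  obtain ⟨eω, heω, hdω⟩ := D.det_on_L D.hLK hM hν ω hovK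
  have hωdeg : charDegree ω.1 = charDegree (θ : K → ℂ) :=
    charDegree_eq (by rw [← irr_deg θ.2, ← e1, res_one])
  obtain ⟨θh, e3, hdet⟩ := D.exists_normalised D.hLK D.hPK D.inf_eq ω e1 hθd
    (q := charDegree (φ : D.C → ℂ)) (hdeg ▸ hd) t fun x hx => by
      have h1 := hdω ⟨x, hx⟩
      have h2 := hdφ ⟨x, hx⟩
      rw [htval]
      rw [show detChar ω.1 ⟨(x : Γ), Subgroup.mem_sup_right x.2⟩ = _ from h1,
        show detChar φh.1 ⟨(x : Γ), Subgroup.mem_sup_right x.2⟩ = _ from h2, ← pow_mul, ← pow_mul]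
      congr 1
      rw [← hdeg, heφ, ← hωdeg, heω]
      ring
  exact ⟨θh, θ, φ, e3, e2, hi, hc, hθd, fun x => by rw [hdet x, htval x]⟩

end Data

end CfsgLib.Char.RelMcKay
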