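import Cfsg.Agent.Lib.Char.RelMcKay.Count
import Cfsg.Agent.Lib.Char.RelMcKay.Fix
import Cfsg.Agent.Lib.Char.RelMcKay.Pair
import Cfsg.Agent.Lib.Char.RelMcKay.Fibre

/-!
# The step of a `p'`-layer `K/L` with `KP` normal
-/

set_option autoImplicit false
set_option linter.style.haveILetI false
set_option linter.unusedSectionVars false

namespace CfsgLib.Char.RelMcKay

open Cfsg CfsgLib.Char
open CfsgLib.Char.Glauberman (Inv res conjEquiv inv_sup inv_mono isCharacter_res)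
open CfsgLib.Char.RelGlauberman (conjChar relFix)
open scoped ComplexConjugate CfsgLib.Char Pointwise

attribute [local instance 10000] Fintype.ofFinite
attribute [local instance 100000] CfsgLib.Char.instFintypeIrrCharacter

variable {Γ : Type*} [Group Γ] [Finite Γ]

/-- A `p'`-supplement of `P` containing a given normal `p'`-layer. -/
theorem exists_supplement_modulo {p : ℕ} (hp : p.Prime) {N L P S C : Subgroup Γ}
    (hS : IsPGroup p S) (hP : P = L ⊔ S) (hLC : L ≤ C) (hPN : P ≤ N) (hCN : C ≤ N)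
    (hNL : N ≤ Subgroup.normalizer (L : Set Γ)) (hNP : N ≤ Subgroup.normalizer (P : Set Γ))
    (hNC : N ≤ Subgroup.normalizer (C : Set Γ)) (hC : ¬ p ∣ L.relIndex C)
    (hidx : ¬ p ∣ P.relIndex N) :
    ∃ H : Subgroup Γ, H ≤ N ∧ C ≤ H ∧ P ⊔ H = N ∧ P ⊓ H ≤ L ∧
      ∃ m : ℕ, ¬ p ∣ m ∧ ∀ h ∈ H, h ^ m ∈ L := by
  haveI := Fact.mk hp
  have hLP : L ≤ P := hP ▸ le_sup_left
  have hLN : L ≤ N := hLP.trans hPN
  have hSN : S ≤ N := (hP ▸ le_sup_right : S ≤ P).trans hPN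
  haveI := normal_sub hNL
  set π := QuotientGroup.mk' (L.subgroupOf N) with hπ
  have hπs : Function.Surjective π := QuotientGroup.mk'_surjective _
  have hπ1 : ∀ w : N, π w = 1 ↔ (w : Γ) ∈ L := fun w => by
    rw [hπ, QuotientGroup.mk'_apply, QuotientGroup.eq_one_iff, Subgroup.mem_subgroupOf]
  have hker : ∀ {X : Subgroup Γ}, L ≤ X → X ≤ N → ((X.subgroupOf N).map π).comap π = X.subgroupOf N :=
    fun {X} hLX hXN => Subgroup.comap_map_eq_self (by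
      rw [hπ, QuotientGroup.ker_mk']; exact fun w hw => hLX hw)
  set Pb := (P.subgroupOf N).map π with hPb
  set Cb := (C.subgroupOf N).map π with hCb
  haveI : Pb.Normal := (normal_sub hNP).map π hπs
  haveI : Cb.Normal := (normal_sub hNC).map π hπs
  have hPbp : IsPGroup p Pb := by
    have hLS : Pb ≤ (S.subgroupOf N).map π := by
      rw [hPb, show P.subgroupOf N = L.subgroupOf N ⊔ S.subgroupOf N by
        rw [← Subgroup.subgroupOf_sup hLN hSN, hP], Subgroup.map_sup]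
      refine sup_le ?_ le_rfl
      rintro _ ⟨l, hl, rfl⟩
      rw [(hπ1 l).mpr hl]
      exact Subgroup.one_mem _
    exact ((hS.comap_subtype (K := N)).map π).to_le hLS
  obtain ⟨a, ha⟩ := IsPGroup.iff_card.mp hPbp
  have hidx' : ¬ p ∣ Pb.index := by
    rw [← Subgroup.index_comap_of_surjective _ hπs, hPb, hker hLP hPN]
    exact hidx
  have hcop : (Nat.card Pb).Coprime Pb.index := by
    rw [ha]
    exact ((Nat.Prime.coprime_iff_not_dvd hp).mpr hidx').pow_left a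
  obtain ⟨B, hB⟩ := Subgroup.exists_right_complement'_of_coprime hcop
  have hBc : ¬ p ∣ Nat.card B := by rw [← hB.symm.index_eq_card]; exact hidx'
  have hCc : ¬ p ∣ Nat.card Cb := by
    have e : Nat.card Cb = L.relIndex C := by
      rw [hCb, ← Subgroup.relIndex_bot_left, ← Subgroup.map_bot π, Subgroup.relIndex_map_map,
        bot_sup_eq, hπ, QuotientGroup.ker_mk', sup_eq_left.mpr (fun w hw => hLC hw :
          L.subgroupOf N ≤ C.subgroupOf N), Subgroup.relIndex_subgroupOf hCN]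
    rw [e]; exact hC
  have hHc : ¬ p ∣ Nat.card ↥(Cb ⊔ B) := by
    intro hd
    have h1 := CfsgLib.Coprime.card_sup_mul_card_inf (K := Cb) (S := B)
      Subgroup.le_normalizer_of_normal
    have h2 : p ∣ Nat.card Cb * Nat.card B := h1 ▸ hd.mul_right _
    exact (hp.dvd_mul.mp h2).elim hCc hBc
  set H := ((Cb ⊔ B).comap π).map N.subtype with hH
  refine ⟨H, Subgroup.map_subtype_le _, fun c hc => ?_, ?_, ?_, Nat.card ↥(Cb ⊔ B), hHc, ?_⟩
  · exact ⟨⟨c, hCN hc⟩, Subgroup.mem_sup_left (Subgroup.mem_map_of_mem π hc), rfl⟩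
  · refine le_antisymm (sup_le hPN (Subgroup.map_subtype_le _)) fun x hx => ?_
    have h1 : π ⟨x, hx⟩ ∈ Pb ⊔ B := by rw [hB.sup_eq_top]; exact Subgroup.mem_top _
    rw [Subgroup.mem_sup_of_normal_left] at h1
    obtain ⟨u, ⟨w, hw, rfl⟩, b, hb, e⟩ := h1
    have h2 : π (w⁻¹ * ⟨x, hx⟩) = b := by rw [map_mul, map_inv, ← e, inv_mul_cancel_left]
    have h3 : ((w⁻¹ * ⟨x, hx⟩ : N) : Γ) ∈ H :=
      ⟨_, show π _ ∈ Cb ⊔ B by rw [h2]; exact Subgroup.mem_sup_right hb, rfl⟩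
    have h4 := mul_mem (Subgroup.mem_sup_left (T := H) (show (w : Γ) ∈ P from hw))
      (Subgroup.mem_sup_right (S := P) h3)
    simpa using h4
  · rintro x ⟨hxP, w, hw, rfl⟩
    refine (hπ1 w).mp ?_
    have h1 : π w ∈ Pb ⊓ (Cb ⊔ B) := ⟨Subgroup.mem_map_of_mem π hxP, hw⟩
    rwa [CfsgLib.Coprime.inf_eq_bot_of_coprime_card (by
      rw [ha]; exact ((Nat.Prime.coprime_iff_not_dvd hp).mpr hHc).pow_left a),
      Subgroup.mem_bot] at h1
  · rintro _ ⟨w, hw, rfl⟩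
    have h1 : (⟨π w, hw⟩ : ↥(Cb ⊔ B)) ^ Nat.card ↥(Cb ⊔ B) = 1 := pow_card_eq_one'
    have h2 := congrArg Subtype.val h1
    rw [SubgroupClass.coe_pow] at h2
    have h3 : π (w ^ Nat.card ↥(Cb ⊔ B)) = 1 := by rw [map_pow]; exact h2
    simpa using (hπ1 _).mp h3

variable {p : ℕ} {K L P S : Subgroup Γ} {ν : IrrCharacter L}

theorem fixes_of_res {A B : Subgroup Γ} {h : A ≤ B} {χ : B → ℂ} {θ : A → ℂ} (e : res h χ = θ)
    {w : Γ} (hw : Fixes χ w) : Fixes θ w := fun a b eab => by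
  rw [← congrFun e a, ← congrFun e b]
  exact hw _ _ eab

/-- The counts above a pair agree. -/
theorem card_above_pair (D : Data p K L P S) {M H : Subgroup Γ} (hKM : K ⊔ P ≤ M)
    (hMK : M ≤ Subgroup.normalizer (K : Set Γ)) (hML : M ≤ Subgroup.normalizer (L : Set Γ))
    (hMZ : M ≤ Subgroup.normalizer ((K ⊔ P : Subgroup Γ) : Set Γ))
    (hidx : ¬ p ∣ (K ⊔ P).relIndex M)
    (hdec : M ≤ K ⊔ (M ⊓ Subgroup.normalizer (P : Set Γ)))
    (hCN : D.C ⊔ P ≤ M ⊓ Subgroup.normalizer (P : Set Γ))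
    (hidxN : ¬ p ∣ (D.C ⊔ P).relIndex (M ⊓ Subgroup.normalizer (P : Set Γ)))
    (hHN : H ≤ M ⊓ Subgroup.normalizer (P : Set Γ)) (hCH : D.C ≤ H)
    (hPH : P ⊔ H = M ⊓ Subgroup.normalizer (P : Set Γ)) (hPHi : P ⊓ H ≤ L)
    {m : ℕ} (hm : ¬ p ∣ m) (hHm : ∀ h ∈ H, h ^ m ∈ L)
    {θh : IrrCharacter ↥(K ⊔ P)} {φh : IrrCharacter ↥(D.C ⊔ P)} (hpair : D.Pair θh φh) :
    Nat.card (Above p hKM θh.1) = Nat.card (Above p hCN φh.1) := by
  have hNK : (M ⊓ Subgroup.normalizer (P : Set Γ)) ≤ Subgroup.normalizer (K : Set Γ) := inf_le_left.trans hMK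
  have hNL : (M ⊓ Subgroup.normalizer (P : Set Γ)) ≤ Subgroup.normalizer (L : Set Γ) := inf_le_left.trans hML
  have hNC : (M ⊓ Subgroup.normalizer (P : Set Γ)) ≤ Subgroup.normalizer (D.C : Set Γ) :=
    fun n hn => D.normalizes (hNK hn) (hNL hn) hn.2
  have hNZ' : (M ⊓ Subgroup.normalizer (P : Set Γ)) ≤ Subgroup.normalizer ((D.C ⊔ P : Subgroup Γ) : Set Γ) :=
    fun n hn => mem_normalizer_sup_of (hNC hn) hn.2
  have hNZ : (M ⊓ Subgroup.normalizer (P : Set Γ)) ≤ Subgroup.normalizer ((K ⊔ P : Subgroup Γ) : Set Γ) := inf_le_left.trans hMZ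
  have hfix : ∀ n, n ∈ (M ⊓ Subgroup.normalizer (P : Set Γ)) → (Fixes θh.1 n ↔ Fixes φh.1 n) := by
    intro n hn
    rw [fixes_iff_conjChar (hNZ hn), fixes_iff_conjChar (hNZ' hn)]
    have h2 := D.pair_conj hpair (hNK hn) (hNC hn) hn.2 (hNZ hn) (hNZ' hn)
    constructor
    · intro e
      rw [e] at h2
      exact D.pair_right_unique h2 hpair
    · intro e
      rw [e] at h2
      exact D.pair_left_unique h2 hpair
  obtain ⟨hθd, hφd⟩ := D.pair_deg hpair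
  set T := stab hMZ θh.1 with hT
  set T' := stab hNZ' φh.1 with hT'
  have hclθ := isClassFunction_of_isCharacter (isCharacter_of_isIrr θh.2)
  have hclφ := isClassFunction_of_isCharacter (isCharacter_of_isIrr φh.2)
  have hZT : (K ⊔ P) ≤ T := le_stab hKM hclθ
  have hZT' : (D.C ⊔ P) ≤ T' := le_stab hCN hclφ
  -- all characters over the pair have degree prime to `p`
  have count : ∀ {A Mx Tx : Subgroup Γ} (hA : A ≤ Mx) (hn : Mx ≤ Subgroup.normalizer (A : Set Γ))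
      (χ : IrrCharacter A) (hTx : Tx = stab hn (χ : A → ℂ)) (hAT : A ≤ Tx),
      ¬ p ∣ charDegree (χ : A → ℂ) → ¬ p ∣ A.relIndex Mx →
      Nat.card (Above p hA (χ : A → ℂ)) =
        Nat.card {ψ : IrrCharacter Tx // Over hAT (ψ : Tx → ℂ) (χ : A → ℂ)} := by
    intro A Mx Tx hA hn χ hTx hAT hd hi
    rw [card_clifford hA hn χ hTx hAT (fun k => ¬ p ∣ k)]
    obtain ⟨h1, h2⟩ : ¬ p ∣ A.relIndex Tx ∧ ¬ p ∣ Tx.relIndex Mx := by
      have hTM : Tx ≤ Mx := hTx ▸ stab_le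
      rw [← Subgroup.relIndex_mul_relIndex A Tx Mx hAT hTM] at hi
      exact ⟨fun h => hi (h.mul_right _), fun h => hi (h.mul_left _)⟩
    refine Nat.card_congr (Equiv.subtypeEquivRight fun ψ => ⟨fun h => h.2, fun h => ⟨?_, h⟩⟩)
    obtain ⟨k, hk, hkd⟩ := degree_ratio' hAT
      (hTx ▸ stab_le.trans hn) ψ.2 χ.2 h
    rw [hk]
    intro hdvd
    rcases D.prime.dvd_mul.mp hdvd with h3 | h3
    · exact h2 h3
    rcases D.prime.dvd_mul.mp h3 with h4 | h4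
    · exact h1 (h4.trans hkd)
    · exact hd h4
  rw [count hKM hMZ θh hT hZT hθd hidx, count hCN hNZ' φh hT' hZT' hφd hidxN]
  -- representatives
  set H₀ := H ⊓ T with hH₀
  have hH₀N : H₀ ≤ (M ⊓ Subgroup.normalizer (P : Set Γ)) := inf_le_left.trans hHN
  have hH₀T' : H₀ ≤ T' := fun h hh => ⟨hH₀N hh, (hfix h (hH₀N hh)).mp (mem_stab.mp hh.2).2⟩
  have hdecH : ∀ n ∈ (M ⊓ Subgroup.normalizer (P : Set Γ)), ∃ a ∈ P, ∃ h ∈ H, a * h = n := by
    intro n hn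
    have h1 : n ∈ (P : Set Γ) * (H : Set Γ) := by
      rw [← Subgroup.coe_mul_of_right_le_normalizer_left _ _ (hHN.trans inf_le_right), hPH]
      exact hn
    obtain ⟨a, ha, h, hh, e⟩ := Set.mem_mul.mp h1
    exact ⟨a, ha, h, hh, e⟩
  have hsupT : T = (K ⊔ P) ⊔ H₀ := by
    refine le_antisymm (fun t ht => ?_) (sup_le hZT inf_le_right)
    have h1 : t ∈ (K : Set Γ) * ((M ⊓ Subgroup.normalizer (P : Set Γ) : Subgroup Γ) : Set Γ) := by
      rw [← Subgroup.coe_mul_of_right_le_normalizer_left _ _ hNK]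
      exact hdec (stab_le ht)
    obtain ⟨k, hk, n, hn, e⟩ := Set.mem_mul.mp h1
    obtain ⟨a, ha, h, hh, e'⟩ := hdecH n hn
    have hkZ : k * a ∈ (K ⊔ P) := mul_mem (Subgroup.mem_sup_left hk) (Subgroup.mem_sup_right ha)
    have he : t = k * a * h := by rw [← e, ← e', mul_assoc]
    have hhT : h ∈ T := by
      rw [show h = (k * a)⁻¹ * t by rw [he, inv_mul_cancel_left]]
      exact T.mul_mem (T.inv_mem (hZT hkZ)) ht
    exact he ▸ mul_mem (Subgroup.mem_sup_left hkZ) (Subgroup.mem_sup_right ⟨hh, hhT⟩)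
  have hsupT' : T' = (D.C ⊔ P) ⊔ H₀ := by
    refine le_antisymm (fun t ht => ?_) (sup_le hZT' hH₀T')
    obtain ⟨a, ha, h, hh, e⟩ := hdecH t (stab_le ht)
    have hhT' : h ∈ T' := by
      rw [show h = a⁻¹ * t by rw [← e, inv_mul_cancel_left]]
      exact T'.mul_mem (T'.inv_mem (hZT' (Subgroup.mem_sup_right ha))) ht
    refine e ▸ mul_mem (Subgroup.mem_sup_left (Subgroup.mem_sup_right ha))
      (Subgroup.mem_sup_right ⟨hh, ⟨(hHN hh).1, ?_⟩⟩)
    exact (hfix h (hHN hh)).mpr (mem_stab.mp hhT').2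
  have hHZ : ∀ h ∈ H, h ∈ (K ⊔ P) → h ∈ D.C := by
    intro h hh hz
    have h1 : h ∈ (K : Set Γ) * (P : Set Γ) := by
      rw [← Subgroup.coe_mul_of_right_le_normalizer_left _ _ D.hPK]
      exact hz
    obtain ⟨k, hk, a, ha, e⟩ := Set.mem_mul.mp h1
    have hkP : k ∈ Subgroup.normalizer (P : Set Γ) := by
      rw [show k = h * a⁻¹ by rw [← e, mul_inv_cancel_right]]
      exact mul_mem (hHN hh).2 (Subgroup.le_normalizer (P.inv_mem ha))
    have hkC : k ∈ D.C := D.inf_normalizer_le ⟨hk, hkP⟩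
    have haH : a ∈ H := by
      rw [show a = k⁻¹ * h by rw [← e, inv_mul_cancel_left]]
      exact H.mul_mem (H.inv_mem (hCH hkC)) hh
    exact e ▸ mul_mem hkC (D.L_le_C (hPHi ⟨ha, haH⟩))
  have hCT : D.C ≤ H₀ := fun c hc => ⟨hCH hc, hZT (Subgroup.mem_sup_left (D.C_le hc))⟩
  have hinfZ : H₀ ⊓ (K ⊔ P) = D.C := le_antisymm (fun h hh => hHZ h hh.1.1 hh.2)
    (fun c hc => ⟨hCT hc, Subgroup.mem_sup_left (D.C_le hc)⟩)
  have hinfZ' : H₀ ⊓ (D.C ⊔ P) = D.C := le_antisymm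
    (fun h hh => hHZ h hh.1.1 (sup_le_sup_right D.C_le P hh.2))
    (fun c hc => ⟨hCT hc, Subgroup.mem_sup_left hc⟩)
  have e1 := card_over_mul hZT (stab_le.trans hMZ) θh (fun g hg => (mem_stab.mp hg).2)
    (inf_le_right : H₀ ≤ T) hsupT
  have e2 := card_over_mul hZT' (stab_le.trans hNZ') φh (fun g hg => (mem_stab.mp hg).2)
    hH₀T' hsupT'
  rw [hinfZ] at e1
  rw [hinfZ'] at e2
  refine Nat.eq_of_mul_eq_mul_right (Nat.mul_pos Nat.card_pos Nat.card_pos)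
    (e1.trans (Eq.trans (Nat.card_congr (Equiv.subtypeEquivRight fun x => ?_)) e2.symm))
  obtain ⟨θ, φ, r1, r2, hi, hc, -, -⟩ := hpair
  -- commutators of representatives
  have hcom : ∀ a b : H₀, ((b : Γ) * a * (b : Γ)⁻¹ * (a : Γ)⁻¹ ∈ (K ⊔ P) ↔
      (b : Γ) * a * (b : Γ)⁻¹ * (a : Γ)⁻¹ ∈ D.C) ∧ ((b : Γ) * a * (b : Γ)⁻¹ * (a : Γ)⁻¹ ∈ (D.C ⊔ P) ↔
      (b : Γ) * a * (b : Γ)⁻¹ * (a : Γ)⁻¹ ∈ D.C) := fun a b => by
    have hmem : (b : Γ) * a * (b : Γ)⁻¹ * (a : Γ)⁻¹ ∈ H₀ :=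
      H₀.mul_mem (H₀.mul_mem (H₀.mul_mem b.2 a.2) (H₀.inv_mem b.2)) (H₀.inv_mem a.2)
    exact ⟨⟨fun h => hHZ _ hmem.1 h, fun h => Subgroup.mem_sup_left (D.C_le h)⟩,
      ⟨fun h => hHZ _ hmem.1 (sup_le_sup_right D.C_le P h), fun h => Subgroup.mem_sup_left h⟩⟩
  -- extendibility
  have hwH : ∀ w ∈ H₀, w ∈ Subgroup.normalizer (K : Set Γ) ∧
      w ∈ Subgroup.normalizer (D.C : Set Γ) ∧ w ∈ Subgroup.normalizer ((K ⊔ P : Subgroup Γ) : Set Γ) ∧
      w ∈ Subgroup.normalizer ((D.C ⊔ P : Subgroup Γ) : Set Γ) ∧ Fixes θh.1 w ∧ Fixes φh.1 w := fun w hw =>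
    ⟨hNK (hH₀N hw), hNC (hH₀N hw), hNZ (hH₀N hw), hNZ' (hH₀N hw), (mem_stab.mp hw.2).2,
      (mem_stab.mp (hH₀T' hw)).2⟩
  have key : ∀ a b : H₀, (b : Γ) * a * (b : Γ)⁻¹ * (a : Γ)⁻¹ ∈ D.C →
      (ExtTo θh.1 (Subgroup.zpowers (a : Γ) ⊔ Subgroup.zpowers (b : Γ)) ↔
        ExtTo φh.1 (Subgroup.zpowers (a : Γ) ⊔ Subgroup.zpowers (b : Γ))) := by
    intro a b hab
    obtain ⟨haK, haC, haZ, haZ', hfa, hfa'⟩ := hwH a a.2
    obtain ⟨hbK, hbC, hbZ, hbZ', hfb, hfb'⟩ := hwH b b.2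
    rw [ext_iff_ext le_sup_left haK hbK haZ hbZ θ θh r1 (fixes_of_res r1 hfa) hfa hfb (D.C_le hab),
      ext_iff_ext le_sup_left haC hbC haZ' hbZ' φ φh r2 (fixes_of_res r2 hfa') hfa' hfb' hab]
    refine extTo_corr_iff _ D rfl D.C rfl θ φ hi hc a b (fun w hw => ?_) hab
    have hw' : w ∈ H₀ := (sup_le (Subgroup.zpowers_le.mpr a.2) (Subgroup.zpowers_le.mpr b.2) :
      Subgroup.zpowers (a : Γ) ⊔ Subgroup.zpowers (b : Γ) ≤ H₀) hw
    exact ⟨hNK (hH₀N hw'), hNL (hH₀N hw'), (hH₀N hw').2, fixes_of_res r1 (hwH w hw').2.2.2.2.1,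
      m, hm, hHm w hw'.1⟩
  unfold GoodPair
  rw [(hcom x.1 x.2).1, (hcom x.1 x.2).2]
  refine and_congr_right fun _ => ⟨fun h b hb => ?_, fun h b hb => ?_⟩
  · exact (key x.1 b ((hcom x.1 b).2.mp hb)).mp (h b ((hcom x.1 b).1.mpr ((hcom x.1 b).2.mp hb)))
  · exact (key x.1 b ((hcom x.1 b).1.mp hb)).mpr (h b ((hcom x.1 b).2.mpr ((hcom x.1 b).1.mp hb)))

/-- **The step.** -/
theorem card_above_pprime (D : Data p K L P S) {M : Subgroup Γ} (hSM : S ≤ M)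
    (hidx : ¬ p ∣ S.relIndex M) (hKM : K ≤ M) (hMK : M ≤ Subgroup.normalizer (K : Set Γ))
    (hML : M ≤ Subgroup.normalizer (L : Set Γ))
    (hMZ : M ≤ Subgroup.normalizer ((K ⊔ P : Subgroup Γ) : Set Γ)) (hν : Inv L M (ν : L → ℂ))
    (hLN : L ≤ M ⊓ Subgroup.normalizer (P : Set Γ)) :
    Nat.card (Above p (D.hLK.trans hKM) (ν : L → ℂ)) = Nat.card (Above p hLN (ν : L → ℂ)) := by
  set N := M ⊓ Subgroup.normalizer (P : Set Γ) with hNdef
  set Z := K ⊔ P with hZdef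
  set Z' := D.C ⊔ P with hZ'def
  have hPM : P ≤ M := D.hP.le.trans (sup_le (D.hLK.trans hKM) hSM)
  have hPN : P ≤ N := le_inf hPM Subgroup.le_normalizer
  have hZM : Z ≤ M := sup_le hKM hPM
  have hSZ : S ≤ Z := D.S_le.trans le_sup_right
  have hNK : N ≤ Subgroup.normalizer (K : Set Γ) := inf_le_left.trans hMK
  have hNL : N ≤ Subgroup.normalizer (L : Set Γ) := inf_le_left.trans hML
  have hNC : N ≤ Subgroup.normalizer (D.C : Set Γ) :=
    fun n hn => D.normalizes (hNK hn) (hNL hn) hn.2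
  have hCN : D.C ≤ N := le_inf (D.C_le.trans hKM) D.C_normP
  have hZ'N : Z' ≤ N := sup_le hCN hPN
  have hidxZ : ¬ p ∣ Z.relIndex M := (not_dvd_relIndex_of_le hSZ hZM hidx).2
  have hidxN : ¬ p ∣ S.relIndex N := (not_dvd_relIndex_of_le (D.S_le.trans hPN) inf_le_left hidx).1
  have hidxP : ¬ p ∣ P.relIndex N := (not_dvd_relIndex_of_le D.S_le hPN hidxN).2
  have hidxZ' : ¬ p ∣ Z'.relIndex N :=
    (not_dvd_relIndex_of_le (D.S_le.trans le_sup_right) hZ'N hidxN).2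
  -- the Frattini argument
  have hdec : M ≤ K ⊔ N := by
    intro x hx
    have hidxS : ¬ p ∣ S.relIndex Z := (not_dvd_relIndex_of_le hSZ hZM hidx).1
    obtain ⟨z, hz, hzS⟩ := exists_conj_le D.prime (D.hS.map (MulAut.conj x).toMonoidHom)
      (T := S) (M := Z) (by
        rintro _ ⟨s, hs, rfl⟩
        exact (Subgroup.mem_normalizer_iff.mp (hMZ hx) s).mp (hSZ hs)) hidxS
    have hzx : z * x ∈ Subgroup.normalizer (S : Set Γ) := mem_normalizer_of_conj fun s hs => by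
      have h := hzS (x * s * x⁻¹) ⟨s, hs, by simp⟩
      simpa [mul_assoc] using h
    have hzN : z * x ∈ N := ⟨mul_mem (hZM hz) hx, D.hP ▸
      mem_normalizer_sup_of (mul_mem (hML (hZM hz)) (hML hx)) hzx⟩
    have h1 : z ∈ K ⊔ N := (sup_le_sup_left hPN K) hz
    have h2 := mul_mem (inv_mem h1) (Subgroup.mem_sup_right (S := K) hzN)
    rwa [inv_mul_cancel_left] at h2
  have hidxC : ¬ p ∣ L.relIndex D.C := fun h => D.hidx (h.trans (Dvd.intro _
    (Subgroup.relIndex_mul_relIndex L D.C K D.L_le_C D.C_le)))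
  obtain ⟨H, hHN, hCH, hPH, hPHi, m, hm, hHm⟩ := exists_supplement_modulo D.prime D.hS D.hP
    D.L_le_C hPN hCN hNL inf_le_right hNC hidxC hidxP
  have hZn : Z ≤ Subgroup.normalizer (L : Set Γ) := hZM.trans hML
  have hνZ : Inv L Z (ν : L → ℂ) := inv_mono hZM hν
  have hNZ : N ≤ Subgroup.normalizer (Z : Set Γ) := inf_le_left.trans hMZ
  have hNZ' : N ≤ Subgroup.normalizer (Z' : Set Γ) :=
    fun n hn => mem_normalizer_sup_of (hNC hn) hn.2
  set Q : IrrCharacter Z → Prop := fun θ =>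
    ¬ p ∣ charDegree (θ : Z → ℂ) ∧ Over (D.hLK.trans le_sup_left) (θ : Z → ℂ) (ν : L → ℂ)
  let R' : Above p hLN (ν : L → ℂ) → {θ // Q θ} → Prop := fun b i =>
    ∃ φh : IrrCharacter Z', D.Pair i.1 φh ∧ Over hZ'N (b.1 : N → ℂ) (φh : Z' → ℂ)
  refine card_eq_of_fibres _ (conjRel_equivalence hNZ Q)
    (fun a i => Over hZM (a.1 : M → ℂ) (i.1 : Z → ℂ)) R' ?_ ?_ ?_ ?_ ?_
  · intro a
    obtain ⟨θ, h1, h2⟩ := (over_mid (D.hLK.trans le_sup_left) hZM (isCharacter_of_isIrr a.1.2)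
      (isCharacter_of_isIrr ν.2)).mp a.2.2
    obtain ⟨k, hk, -⟩ := degree_ratio' hZM hMZ a.1.2 θ.2 h1
    exact ⟨⟨θ, fun h => a.2.1 (hk ▸ h.mul_left _), h2⟩, h1⟩
  · intro a i j hi
    constructor
    · intro hj
      obtain ⟨g, hg, e⟩ := exists_conj_of_over hZM hMZ a.1.2 hi hj
      have h1 : g ∈ (K : Set Γ) * (N : Set Γ) := by
        rw [← Subgroup.coe_mul_of_right_le_normalizer_left _ _ hNK]
        exact hdec hg
      obtain ⟨k, hk, n, hn, rfl⟩ := Set.mem_mul.mp h1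
      refine ⟨n, hn, ?_⟩
      rw [← e, ← conjChar_mul i.1 (hMZ (hKM hk)) (hMZ hn.1)]
      congr 1
      exact ((fixes_iff_conjChar _).mp (fixes_of_mem
        (isClassFunction_of_isCharacter (isCharacter_of_isIrr i.1.2))
        (Subgroup.mem_sup_left hk))).symm
    · rintro ⟨n, hn, e⟩
      unfold Over
      rw [← e, classInner_res_conj hZM
        (isClassFunction_of_isCharacter (isCharacter_of_isIrr a.1.2)) hn.1 (hNZ hn)]
      exact hi
  · intro b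
    obtain ⟨φh, h1, h2⟩ := (over_mid (D.L_le_C.trans le_sup_left) hZ'N (isCharacter_of_isIrr b.1.2)
      (isCharacter_of_isIrr ν.2)).mp b.2.2
    obtain ⟨k, hk, -⟩ := degree_ratio' hZ'N hNZ' b.1.2 φh.2 h1
    obtain ⟨θh, hpair⟩ := D.exists_pair_left hZn hνZ φh (fun h => b.2.1 (hk ▸ h.mul_left _)) h2
    exact ⟨⟨θh, (D.pair_deg hpair).1, (D.over_C_of_over hZn hνZ hpair).mpr h2⟩, φh, hpair, h1⟩
  · rintro b i j ⟨φi, hpi, hoi⟩
    constructor
    · rintro ⟨φj, hpj, hoj⟩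
      obtain ⟨n, hn, e⟩ := exists_conj_of_over hZ'N hNZ' b.1.2 hoi hoj
      refine ⟨n, hn, ?_⟩
      have h := D.pair_conj hpi (hNK hn) (hNC hn) hn.2 (hNZ hn) (hNZ' hn)
      rw [e] at h
      exact D.pair_left_unique h hpj
    · rintro ⟨n, hn, e⟩
      refine ⟨conjChar φi (hNZ' hn), ?_, ?_⟩
      · rw [← e]
        exact D.pair_conj hpi (hNK hn) (hNC hn) hn.2 (hNZ hn) (hNZ' hn)
      · unfold Over
        rw [classInner_res_conj hZ'N
          (isClassFunction_of_isCharacter (isCharacter_of_isIrr b.1.2)) hn (hNZ' hn)]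
        exact hoi
  · intro i
    obtain ⟨φh, hpair⟩ := D.exists_pair_right hZn hνZ i.1 i.2.1 i.2.2
    rw [card_subtype_over (D.hLK.trans le_sup_left) hZM i.2.2,
      card_above_pair D hZM hMK hML hMZ hidxZ hdec hZ'N hidxZ' hHN hCH hPH hPHi hm hHm hpair,
      ← card_subtype_over (D.L_le_C.trans le_sup_left) hZ'N
        ((D.over_C_of_over hZn hνZ hpair).mp i.2.2)]
    refine Nat.card_congr (Equiv.subtypeEquivRight fun b => ⟨fun h => ⟨φh, hpair, h⟩, ?_⟩)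
    rintro ⟨φ', hp', ho'⟩
    rwa [D.pair_right_unique hpair hp']

end CfsgLib.Char.RelMcKay
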