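import Cfsg.Agent.Lib.Char.RelGlauberman.Main
import Cfsg.Agent.Lib.Char.Projective
import Cfsg.Agent.Lib.Char.Constituents
import Cfsg.Prelude.Def_Blocks

/-!
# Characters over characters of subgroups inside a fixed finite group
-/

set_option autoImplicit false
set_option linter.style.haveILetI false
set_option linter.unusedSectionVars false

namespace CfsgLib.Char.RelMcKay

open Cfsg CfsgLib.Char
open CfsgLib.Char.Glauberman (Inv res conjEquiv inv_sup inv_mono isCharacter_res)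
open CfsgLib.Char.RelGlauberman (conjChar)
open scoped ComplexConjugate CfsgLib.Char

attribute [local instance 10000] Fintype.ofFinite
attribute [local instance 100000] CfsgLib.Char.instFintypeIrrCharacter

variable {Γ : Type*} [Group Γ] [Finite Γ]
variable {H K M : Subgroup Γ}

theorem res_res (h : H ≤ K) (h' : K ≤ M) (χ : M → ℂ) : res h (res h' χ) = res (h.trans h') χ := rfl

theorem res_apply (h : H ≤ M) (χ : M → ℂ) (a : H) : res h χ a = χ ⟨a, h a.2⟩ := rfl

theorem res_one (h : H ≤ M) (χ : M → ℂ) : res h χ 1 = χ 1 := rfl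

theorem charDegree_eq {G : Type*} [Group G] {χ : G → ℂ} {n : ℕ} (h : χ 1 = n) :
    charDegree χ = n := by
  simp [charDegree, h]

theorem irr_deg {G : Type*} [Group G] [Finite G] {χ : G → ℂ} (h : IsIrrCharacter G χ) :
    χ 1 = charDegree χ := by
  obtain ⟨n, -, hn⟩ := exists_nat_degree_irr h
  rw [charDegree_eq hn, hn]

theorem irr_deg_pos {G : Type*} [Group G] [Finite G] {χ : G → ℂ} (h : IsIrrCharacter G χ) :
    0 < charDegree χ :=
  Nat.pos_of_ne_zero fun e => irr_degree_ne_zero h (by rw [irr_deg h, e, Nat.cast_zero])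

/-- `θ` as a function on `H.subgroupOf M`. -/
def toSub (h : H ≤ M) (θ : H → ℂ) : H.subgroupOf M → ℂ :=
  fun x => θ (Subgroup.subgroupOfEquivOfLe h x)

theorem isIrr_toSub (h : H ≤ M) {θ : H → ℂ} (hθ : IsIrrCharacter H θ) :
    IsIrrCharacter (H.subgroupOf M) (toSub h θ) :=
  isIrrCharacter_comp_mulEquiv _ hθ

theorem classInner_toSub (h : H ≤ M) (χ : M → ℂ) (θ : H → ℂ) :
    classInner (fun x : H.subgroupOf M => χ x) (toSub h θ) = classInner (res h χ) θ :=
  classInner_comp_mulEquiv (Subgroup.subgroupOfEquivOfLe h) (res h χ) θ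

theorem normal_sub (hM : M ≤ Subgroup.normalizer (H : Set Γ)) : (H.subgroupOf M).Normal :=
  Subgroup.normal_subgroupOf_of_le_normalizer hM

/-- `θ` is a constituent of the restriction of `χ`. -/
def Over (h : H ≤ M) (χ : M → ℂ) (θ : H → ℂ) : Prop := classInner (res h χ) θ ≠ 0

theorem classInner_res_trans (h : H ≤ K) (h' : K ≤ M) {χ : M → ℂ} (hχ : IsClassFunction M χ)
    (ν : H → ℂ) :
    classInner (res (h.trans h') χ) ν = ∑ θ : IrrCharacter K,
      classInner (res h' χ) (θ : K → ℂ) * classInner (res h (θ : K → ℂ)) ν := by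
  have e : res (h.trans h') χ = ∑ θ : IrrCharacter K,
      classInner (res h' χ) (θ : K → ℂ) • res h (θ : K → ℂ) := by
    funext a
    have := congrFun (classFunction_expansion (G := K)
      (f := res h' χ) (isClassFunction_comp (Subgroup.inclusion h') hχ)) ⟨a, h a.2⟩
    simp only [Finset.sum_apply, Pi.smul_apply] at this ⊢
    exact this
  rw [e, classInner_sum_left]
  simp only [classInner_smul_left]

theorem over_mid (h : H ≤ K) (h' : K ≤ M) {χ : M → ℂ} (hχ : IsCharacter M χ) {ν : H → ℂ}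
    (hν : IsCharacter H ν) :
    Over (h.trans h') χ ν ↔ ∃ θ : IrrCharacter K, Over h' χ θ ∧ Over h (θ : K → ℂ) ν := by
  unfold Over
  rw [classInner_res_trans h h' (isClassFunction_of_isCharacter hχ)]
  choose a ha using fun θ : IrrCharacter K =>
    exists_nat_classInner (isCharacter_res h' hχ) (isCharacter_of_isIrr θ.2)
  choose b hb using fun θ : IrrCharacter K =>
    exists_nat_classInner (isCharacter_res h (isCharacter_of_isIrr θ.2)) hν
  simp only [ha, hb, ← Nat.cast_mul, ← Nat.cast_sum, Nat.cast_ne_zero, ne_eq, Finset.sum_eq_zero_iff,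
    not_forall, mul_eq_zero, not_or, Finset.mem_univ, true_implies]

theorem exists_over (h : H ≤ M) {χ : M → ℂ} (hχ : IsIrrCharacter M χ) :
    ∃ θ : IrrCharacter H, Over h χ (θ : H → ℂ) := by
  by_contra hc
  simp only [Over, not_exists, not_not] at hc
  have := congrFun (classFunction_expansion
    (isClassFunction_of_isCharacter (isCharacter_res h (isCharacter_of_isIrr hχ)))) 1
  simp only [hc, zero_smul, Finset.sum_const_zero, Pi.zero_apply, res_one] at this
  exact irr_degree_ne_zero hχ this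

theorem over_self {χ : M → ℂ} (hχ : IsIrrCharacter M χ) : Over le_rfl χ χ := by
  unfold Over
  rw [show res (le_rfl : M ≤ M) χ = χ from rfl, classInner_irr_self hχ]
  exact one_ne_zero

theorem degree_ratio' (h : H ≤ M) (hM : M ≤ Subgroup.normalizer (H : Set Γ)) {χ : M → ℂ}
    (hχ : IsIrrCharacter M χ) {θ : H → ℂ} (hθ : IsIrrCharacter H θ) (hov : Over h χ θ) :
    ∃ k : ℕ, charDegree χ = k * charDegree θ ∧ k ∣ H.relIndex M := by
  haveI := normal_sub hM
  obtain ⟨k, hk, hd⟩ := degree_ratio (H.subgroupOf M) (isIrr_toSub h hθ) hχ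
    (by rw [classInner_toSub]; exact hov)
  refine ⟨k, ?_, hd⟩
  have e : toSub h θ 1 = θ 1 := congrArg θ (map_one _)
  rw [e, irr_deg hθ, irr_deg hχ] at hk
  exact_mod_cast hk

/-- `g` fixes the function `θ` on `H`. -/
def Fixes (θ : H → ℂ) (g : Γ) : Prop := ∀ a b : H, (b : Γ) = g * a * g⁻¹ → θ b = θ a

theorem inv_iff {T : Subgroup Γ} {θ : H → ℂ} : Inv H T θ ↔ ∀ g ∈ T, Fixes θ g := Iff.rfl

theorem fixes_iff_conj {θ : H → ℂ} {g : Γ} (hg : g ∈ Subgroup.normalizer (H : Set Γ)) :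
    Fixes θ g ↔ (fun a => θ (conjEquiv hg a)) = θ :=
  ⟨fun h => funext fun a => h a _ rfl, fun h a b e => by
    rw [show b = conjEquiv hg a from Subtype.ext e]; exact congrFun h a⟩

theorem fixes_iff_conjChar {θ : IrrCharacter H} {g : Γ}
    (hg : g ∈ Subgroup.normalizer (H : Set Γ)) :
    Fixes (θ : H → ℂ) g ↔ conjChar θ hg = θ :=
  (fixes_iff_conj hg).trans ⟨fun h => Subtype.ext h, fun h => congrArg Subtype.val h⟩

theorem fixes_of_mem {θ : H → ℂ} (hθ : IsClassFunction H θ) {g : Γ} (hg : g ∈ H) : Fixes θ g :=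
  fun a b e => by
    rw [show b = ⟨g, hg⟩ * a * (⟨g, hg⟩ : H)⁻¹ from Subtype.ext e]; exact hθ a ⟨g, hg⟩

theorem fixes_one (θ : H → ℂ) : Fixes θ (1 : Γ) := fun a b e =>
  congrArg θ (Subtype.ext (by simpa using e))

theorem Fixes.mul {θ : H → ℂ} {a b : Γ} (hb : b ∈ Subgroup.normalizer (H : Set Γ))
    (ha' : Fixes θ a) (hb' : Fixes θ b) : Fixes θ (a * b) := fun x y e => by
  rw [ha' (conjEquiv hb x) y (by simp [e, mul_assoc]), hb' x (conjEquiv hb x) rfl]

theorem Fixes.inv {θ : H → ℂ} {a : Γ} (ha' : Fixes θ a) : Fixes θ a⁻¹ :=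
  fun x y e => (ha' y x (by simp [e, mul_assoc])).symm

/-- The elements of `M` fixing `θ`. -/
def stab (hM : M ≤ Subgroup.normalizer (H : Set Γ)) (θ : H → ℂ) : Subgroup Γ where
  carrier := {g | g ∈ M ∧ Fixes θ g}
  one_mem' := ⟨M.one_mem, fixes_one θ⟩
  mul_mem' := fun {_ _} ha hb => ⟨M.mul_mem ha.1 hb.1, ha.2.mul (hM hb.1) hb.2⟩
  inv_mem' := fun {_} ha => ⟨M.inv_mem ha.1, ha.2.inv⟩

theorem mem_stab {hM : M ≤ Subgroup.normalizer (H : Set Γ)} {θ : H → ℂ} {g : Γ} :
    g ∈ stab hM θ ↔ g ∈ M ∧ Fixes θ g := Iff.rfl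

theorem stab_le {hM : M ≤ Subgroup.normalizer (H : Set Γ)} {θ : H → ℂ} : stab hM θ ≤ M :=
  fun _ hg => hg.1

theorem le_stab (h : H ≤ M) {hM : M ≤ Subgroup.normalizer (H : Set Γ)} {θ : H → ℂ}
    (hθ : IsClassFunction H θ) : H ≤ stab hM θ :=
  fun _ hg => ⟨h hg, fixes_of_mem hθ hg⟩

theorem conjChar_one (θ : IrrCharacter H) (h1 : (1 : Γ) ∈ Subgroup.normalizer (H : Set Γ)) :
    conjChar θ h1 = θ :=
  Subtype.ext (funext fun a => congrArg (θ : H → ℂ) (Subtype.ext (by simp)))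

theorem conjChar_mul (θ : IrrCharacter H) {a b : Γ} (ha : a ∈ Subgroup.normalizer (H : Set Γ))
    (hb : b ∈ Subgroup.normalizer (H : Set Γ)) :
    conjChar (conjChar θ ha) hb = conjChar θ (mul_mem ha hb) :=
  Subtype.ext (funext fun c => congrArg (θ : H → ℂ) (Subtype.ext (by simp [mul_assoc])))

theorem conjChar_injective {y : Γ} (hy : y ∈ Subgroup.normalizer (H : Set Γ)) :
    Function.Injective fun θ : IrrCharacter H => conjChar θ hy := fun θ θ' e => by
  refine Subtype.ext (funext fun a => ?_)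
  obtain ⟨c, rfl⟩ := (conjEquiv hy).surjective a
  exact congrFun (congrArg Subtype.val e) c

theorem charDegree_conjChar (θ : IrrCharacter H) {y : Γ} (hy : y ∈ Subgroup.normalizer (H : Set Γ)) :
    charDegree (conjChar θ hy : H → ℂ) = charDegree (θ : H → ℂ) := by
  unfold charDegree conjChar
  simp only [map_one]

theorem over_conjChar_iff (h : H ≤ K) {y : Γ} (hyK : y ∈ Subgroup.normalizer (K : Set Γ))
    (hyH : y ∈ Subgroup.normalizer (H : Set Γ)) (χ : IrrCharacter K) (θ : IrrCharacter H) :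
    Over h (conjChar χ hyK : K → ℂ) (conjChar θ hyH : H → ℂ) ↔
      Over h (χ : K → ℂ) (θ : H → ℂ) := by
  unfold Over
  rw [show (conjChar χ hyK : K → ℂ) = fun g => (χ : K → ℂ) (conjEquiv hyK g) from rfl,
    RelGlauberman.classInner_conjChar]

theorem classInner_res_conj (h : H ≤ M) {χ : M → ℂ} (hχ : IsClassFunction M χ) {g : Γ} (hg : g ∈ M)
    (hgH : g ∈ Subgroup.normalizer (H : Set Γ)) (θ : IrrCharacter H) :
    classInner (res h χ) (conjChar θ hgH : H → ℂ) = classInner (res h χ) (θ : H → ℂ) := by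
  have hgM : g ∈ Subgroup.normalizer (M : Set Γ) := Subgroup.le_normalizer hg
  refine Eq.trans ?_ (RelGlauberman.classInner_conjChar h hgM hgH (χ := χ) θ)
  congr 1
  funext a
  show χ ⟨a, h a.2⟩ = χ (conjEquiv hgM ⟨a, h a.2⟩)
  exact (hχ ⟨a, h a.2⟩ ⟨g, hg⟩).symm

theorem exists_conj_of_over (h : H ≤ M) (hM : M ≤ Subgroup.normalizer (H : Set Γ)) {χ : M → ℂ}
    (hχ : IsIrrCharacter M χ) {θ φ : IrrCharacter H} (hθ : Over h χ (θ : H → ℂ))
    (hφ : Over h χ (φ : H → ℂ)) : ∃ (g : Γ) (hg : g ∈ M), conjChar θ (hM hg) = φ := by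
  haveI := normal_sub hM
  obtain ⟨g, hg⟩ := exists_conjBy_of_constituents (H.subgroupOf M) hχ (isIrr_toSub h θ.2)
    (isIrr_toSub h φ.2) (by rw [classInner_toSub]; exact hθ) (by rw [classInner_toSub]; exact hφ)
  refine ⟨g, g.2, Subtype.ext (funext fun a => ?_)⟩
  have := congrFun hg ((Subgroup.subgroupOfEquivOfLe h).symm a)
  simp only [toSub, MulEquiv.apply_symm_apply] at this
  exact this

/-- Over an invariant character the restriction is a multiple of it. -/
theorem res_eq_smul (h : H ≤ M) (hM : M ≤ Subgroup.normalizer (H : Set Γ)) {χ : M → ℂ}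
    (hχ : IsIrrCharacter M χ) {θ : H → ℂ} (hθ : IsIrrCharacter H θ) (hinv : Inv H M θ)
    (hov : Over h χ θ) :
    ∃ e : ℕ, 0 < e ∧ classInner (res h χ) θ = e ∧ res h χ = (e : ℂ) • θ ∧
      charDegree χ = e * charDegree θ := by
  haveI := normal_sub hM
  have hinv' : ∀ g : M, conjBy (H.subgroupOf M) (toSub h θ) g = toSub h θ := fun g => by
    funext a
    exact hinv g g.2 _ _ rfl
  have e1 := clifford_invariant (H.subgroupOf M) hχ (isIrr_toSub h hθ) hinv'
    (by rw [classInner_toSub]; exact hov)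
  obtain ⟨e, he⟩ := exists_nat_classInner (isCharacter_res h (isCharacter_of_isIrr hχ))
    (isCharacter_of_isIrr hθ)
  rw [classInner_toSub, he] at e1
  have e2 : res h χ = (e : ℂ) • θ := funext fun a => by
    have := congrFun e1 ((Subgroup.subgroupOfEquivOfLe h).symm a)
    simp only [toSub, Pi.smul_apply, MulEquiv.apply_symm_apply] at this ⊢
    exact this
  refine ⟨e, Nat.pos_of_ne_zero fun e0 => hov (by rw [he, e0, Nat.cast_zero]), he, e2, ?_⟩
  have := congrFun e2 1
  rw [res_one, Pi.smul_apply, irr_deg hχ, irr_deg hθ, smul_eq_mul] at this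
  exact_mod_cast this

/-- Restriction is irreducible when the degree does not drop. -/
theorem res_eq_of_deg (h : H ≤ M) {χ : M → ℂ} (hχ : IsIrrCharacter M χ) {θ : IrrCharacter H}
    (hov : Over h χ (θ : H → ℂ)) (hd : charDegree χ = charDegree (θ : H → ℂ)) :
    res h χ = (θ : H → ℂ) := by
  obtain ⟨m, hm⟩ := exists_multiplicities (isCharacter_res h (isCharacter_of_isIrr hχ))
  have hmθ : m θ ≠ 0 := fun e => hov (by rw [hm, classInner_sum_smul_irr, e, Nat.cast_zero])
  have h1 := congrFun hm 1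
  simp only [res_one, Finset.sum_apply, Pi.smul_apply, smul_eq_mul, irr_deg hχ,
    fun ψ : IrrCharacter H => irr_deg ψ.2, ← Nat.cast_mul, ← Nat.cast_sum, Nat.cast_inj] at h1
  rw [← Finset.add_sum_erase _ _ (Finset.mem_univ θ), hd] at h1
  have hpos := irr_deg_pos θ.2
  have hle : charDegree (θ : H → ℂ) ≤ m θ * charDegree (θ : H → ℂ) :=
    Nat.le_mul_of_pos_left _ (Nat.pos_of_ne_zero hmθ)
  have h0 : ∑ ψ ∈ Finset.univ.erase θ, m ψ * charDegree (ψ : H → ℂ) = 0 := by omega
  have hm1 : m θ = 1 := by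
    have h2 : m θ * charDegree (θ : H → ℂ) = 1 * charDegree (θ : H → ℂ) := by omega
    exact Nat.eq_of_mul_eq_mul_right hpos h2
  rw [hm, ← Finset.add_sum_erase _ _ (Finset.mem_univ θ), hm1, Nat.cast_one, one_smul,
    Finset.sum_eq_zero fun ψ hψ => ?_, add_zero]
  rcases mul_eq_zero.mp (Finset.sum_eq_zero_iff.mp h0 ψ hψ) with e | e
  · simp [e]
  · exact absurd e (irr_deg_pos ψ.2).ne'

/-- Clifford's correspondence. -/
theorem card_clifford (h : H ≤ M) (hM : M ≤ Subgroup.normalizer (H : Set Γ)) (θ : IrrCharacter H)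
    {T : Subgroup Γ} (hT : T = stab hM (θ : H → ℂ)) (hHT : H ≤ T) (Q : ℕ → Prop) :
    Nat.card {χ : IrrCharacter M // Q (charDegree (χ : M → ℂ)) ∧ Over h (χ : M → ℂ) (θ : H → ℂ)} =
      Nat.card {ψ : IrrCharacter T //
        Q (T.relIndex M * charDegree (ψ : T → ℂ)) ∧ Over hHT (ψ : T → ℂ) (θ : H → ℂ)} := by
  haveI := normal_sub hM
  have hTM : T ≤ M := hT ▸ stab_le
  set e := Subgroup.subgroupOfEquivOfLe hTM
  have hT' : ∀ g : M, g ∈ T.subgroupOf M ↔
      conjBy (H.subgroupOf M) (toSub h (θ : H → ℂ)) g = toSub h (θ : H → ℂ) := fun g => by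
    rw [Subgroup.mem_subgroupOf, hT, mem_stab]
    refine ⟨fun hf => funext fun a => hf.2 _ _ rfl, fun hf => ⟨g.2, fun a b eab => ?_⟩⟩
    have := congrFun hf ((Subgroup.subgroupOfEquivOfLe h).symm a)
    simp only [toSub, MulEquiv.apply_symm_apply] at this
    exact Eq.trans (congrArg (θ : H → ℂ) (Subtype.ext eab)) this
  have hNT : H.subgroupOf M ≤ T.subgroupOf M := fun a ha => hHT ha
  set ind : IrrCharacter T → (M → ℂ) :=
    fun ψ => indFun (T.subgroupOf M) fun t => (ψ : T → ℂ) (e t) with hind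
  have hinner : ∀ ψ : IrrCharacter T,
      classInner (resTo (H.subgroupOf M) (T.subgroupOf M) hNT fun t => (ψ : T → ℂ) (e t))
        (toSub h (θ : H → ℂ)) = classInner (res hHT (ψ : T → ℂ)) (θ : H → ℂ) := fun ψ =>
    classInner_comp_mulEquiv (Subgroup.subgroupOfEquivOfLe h) (res hHT (ψ : T → ℂ)) (θ : H → ℂ)
  have key : ∀ ψ : IrrCharacter T, Over hHT (ψ : T → ℂ) (θ : H → ℂ) →
      IsIrrCharacter M (ind ψ) ∧ Over h (ind ψ) (θ : H → ℂ) ∧
        charDegree (ind ψ) = T.relIndex M * charDegree (ψ : T → ℂ) := fun ψ hψ => by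
    obtain ⟨h1, h2, -⟩ := clifford_correspondence (H.subgroupOf M) (T.subgroupOf M)
      (isIrr_toSub h θ.2) hT' hNT (isIrrCharacter_comp_mulEquiv e ψ.2)
      (by rw [hinner]; exact hψ)
    refine ⟨h1, ?_, charDegree_eq ?_⟩
    · unfold Over
      rw [← classInner_toSub, h2, hinner]
      exact hψ
    · simp only [hind, indFun_one, map_one, irr_deg ψ.2, Nat.cast_mul, Subgroup.relIndex]
  refine (Nat.card_congr (Equiv.ofBijective
    (fun ψ => ⟨⟨ind ψ.1, (key ψ.1 ψ.2.2).1⟩, by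
      rw [show charDegree ((⟨ind ψ.1, (key ψ.1 ψ.2.2).1⟩ : IrrCharacter M) : M → ℂ) =
        T.relIndex M * charDegree (ψ.1 : T → ℂ) from (key ψ.1 ψ.2.2).2.2]
      exact ψ.2.1, (key ψ.1 ψ.2.2).2.1⟩) ⟨fun ψ ψ' he => ?_, fun χ => ?_⟩)).symm
  · refine Subtype.ext (Subtype.ext (funext fun t => ?_))
    obtain ⟨-, -, h3⟩ := clifford_correspondence (H.subgroupOf M) (T.subgroupOf M)
      (isIrr_toSub h θ.2) hT' hNT (isIrrCharacter_comp_mulEquiv e ψ'.1.2)
      (by rw [hinner]; exact ψ'.2.2)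
    have := congrFun (h3 _ (isIrrCharacter_comp_mulEquiv e ψ.1.2)
      (by rw [hinner]; exact ψ.2.2) (congrArg Subtype.val (congrArg Subtype.val he))) (e.symm t)
    simp only [MulEquiv.apply_symm_apply] at this
    exact this
  · obtain ⟨ψ, hψ, he, hin⟩ := clifford_correspondence_surjective (H.subgroupOf M)
      (T.subgroupOf M) (isIrr_toSub h θ.2) hT' hNT χ.1.2 (by rw [classInner_toSub]; exact χ.2.2)
    set ψ₀ : IrrCharacter T := ⟨fun t => ψ (e.symm t), isIrrCharacter_comp_mulEquiv _ hψ⟩ with hψ₀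
    have e0 : (fun t => (ψ₀ : T → ℂ) (e t)) = ψ := funext fun t => congrArg ψ (e.symm_apply_apply t)
    have e1 : ind ψ₀ = (χ.1 : M → ℂ) := by rw [hind]; simp only; rw [e0, he]
    have hov : Over hHT (ψ₀ : T → ℂ) (θ : H → ℂ) := by
      unfold Over
      rw [← hinner, e0, hin, classInner_toSub]
      exact χ.2.2
    refine ⟨⟨ψ₀, ?_, hov⟩, Subtype.ext (Subtype.ext e1)⟩
    rw [← (key ψ₀ hov).2.2, e1]
    exact χ.2.1

end CfsgLib.Char.RelMcKay
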